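import Cfsg.Agent.TensorWreathOrth.Gap.Four.CentQD
import Cfsg.Agent.TensorWreathOrth.Gap.Main

/-!
# Two factors of dimension four: nothing outside the normaliser
-/

set_option autoImplicit false
set_option linter.unusedSectionVars false

namespace CfsgLib.TWGap

open Matrix Module CfsgLib.Spinor CfsgLib.OrthMax CfsgLib.TensorOrth
open CfsgLib.TensorMax (Idx ten)
open CfsgLib.TensorSlice (ASet IsOrth)

variable {F : Type*} [Field F] [Fintype F] {Q : QuadraticForm F (Idx 4 4 → F)}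
  {B₁ B₂ : LinearMap.BilinForm F (Fin 4 → F)} {J : Isom Q} {M : Subgroup (Isom Q)}

namespace GCtx

variable {hF : Fl Q B₁ B₂ J} (hG : GCtx hF M)
include hG

/-- **Nothing outside the normaliser for two factors of dimension four.** -/
theorem le_nr_of_four (hP : PlaneThree hF) : M ≤ hF.Nr := by
  by_contra hN
  refine hN fun y hy => ?_
  have hs := hF.aset
  have hpl := hG.plane rfl
  obtain ⟨G, hGo, -⟩ := hF.exists_frame (n := 0) (by omega) (p := Fin.elim0)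
    ⟨fun i => i.elim0, fun i => i.elim0⟩
  obtain ⟨ν, hν0, hν⟩ := hF.exists_nonsq
  set m := B₂ (G 0) (G 0) * B₂ (G 0) (G 0) * B₂ (G 2) (G 2) with hm
  have hm0 : m ≠ 0 := mul_ne_zero (mul_ne_zero (hGo.1 0) (hGo.1 0)) (hGo.1 2)
  obtain ⟨E, hE, h0, -, h2⟩ := hF.turn_to hGo (div_ne_zero hν0 hm0)
  have hcls : ¬ IsSquare (B₂ (E 0) (E 0) * B₂ (G 0) (G 0) * (B₂ (E 2) (E 2) * B₂ (G 2) (G 2))) := by
    rw [h0, h2, show B₂ (G 0) (G 0) * B₂ (G 0) (G 0) * (ν / m * B₂ (G 2) (G 2)) = m * (ν / m) by rw [hm]; ring,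
      mul_div_cancel₀ _ hm0]
    exact hν
  set a := hF.pd E G (dl 0) (dl 0) with ha
  set b := hF.pd E G (dl 2) (ndl 2) with hb
  have haM : a ∈ M := hG.pd_mem hE hGo (by decide)
  have hbM : b ∈ M := hG.pd_mem hE hGo (by decide)
  obtain ⟨eb, fb, heb, hfb, hzb⟩ := hF.five_form hE hGo (σ := dl 2) (τ := ndl 2) (by decide)
  have hX2 : ∀ v, mat Q b *ᵥ v = -(mat Q (hF.pr (hs.rR (E 2)) (hs.rR (G 2))) *ᵥ v) := fun v => by
    have h1 : hF.pd E G no (fun _ => true) * hF.pd E G (dl 2) (dl 2) = b := by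
      rw [hb, hF.pd_xv hE hGo]
      congr 1 <;> funext i <;> fin_cases i <;> rfl
    rw [← h1, Fl.mul_vec, hF.ty_neg hE hGo (show ty no (fun _ => true) = 1 by decide), hF.pd_dl hE hGo]
  set t := y * b * y⁻¹ with ht
  have htM : t ∈ M := M.mul_mem (M.mul_mem hy hbM) (M.inv_mem hy)
  have ht2 : t * t = 1 := by
    rw [ht, show y * b * y⁻¹ * (y * b * y⁻¹) = y * (b * b) * y⁻¹ by group, hb, hF.pd_sq hE hGo, mul_one,
      mul_inv_cancel]
  suffices htN : t ∈ hF.Nr by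
    have h4 : (4 : F) ≠ 0 := by rw [show (4 : F) = 2 * 2 by norm_num]; exact mul_ne_zero hs.two hs.two
    obtain ⟨E', G', σ, τ, hE', hG', e⟩ := hG.invol_pd htM htN ht2
      (by rw [ht, trI_conj, hb, (hF.trI_ty hE hGo).2.2 (by decide)]; exact neg_ne_zero.2 h4)
    have hty := hG.ty_conj hN hP hE hGo hE' hG' (σ := dl 2) (τ := ndl 2) (by decide) hy e
    obtain ⟨e', f', he', hf', hz'⟩ := hF.five_form hE' hG' (hty.trans (by decide))
    exact hG.fuse_X hN hP heb hfb he' hf' hy (hF.five_conj hzb hz' e)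
  have hne : ∀ g ∈ M, g * a * g⁻¹ ≠ t := fun g hg h => by
    have h' : y⁻¹ * g * a * (y⁻¹ * g)⁻¹ = b := by
      rw [_root_.mul_inv_rev, inv_inv, show y⁻¹ * g * a * (g⁻¹ * y) = y⁻¹ * (g * a * g⁻¹) * y by group, h, ht]
      group
    have := hG.ty_conj hN hP hE hGo hE hGo (σ := dl 0) (τ := dl 0) (σ' := dl 2) (τ' := ndl 2) (by decide)
      (M.mul_mem (M.inv_mem hy) hg) h'
    revert this; decide
  obtain ⟨d, hdM, hd2, hd1, hda, hdt, g, hgM, hg⟩ :=
    dihedral_split M haM htM (hF.pd_sq hE hGo _ _) ht2 hne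
  rw [ha, hF.pd_dl hE hGo] at hda
  have hdN : d ∈ hF.Nr := hG.good_X hN hP (hE.1 0) (hGo.1 0) hdM hda
  obtain ⟨E', G', σ, τ, hE', hG', e0, g0, rfl⟩ :=
    hF.pd_of_comm_X (hF.mem_kr_of_invol hpl hdN (hG.le hdM) hd2) hd2 (hE.1 0) (hGo.1 0) hda
  have h6 := hG.ty_ne hN hE' hG' hdM
  have h0' : ty σ τ ≠ 0 := fun h => hd1 (hF.ty_one hE' hG' h)
  have hcm : Commute t (hF.pd E' G' σ τ) := Commute.symm hdt
  have hlt := ty_lt σ τ
  have hgood : ty σ τ = 2 ∨ ty σ τ = 4 ∨ ty σ τ = 5 → t ∈ hF.Nr := fun h =>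
    hG.good_245 hN hP hE' hG' h htM hcm
  rcases (show ty σ τ = 1 ∨ ty σ τ = 3 ∨ (ty σ τ = 2 ∨ ty σ τ = 4 ∨ ty σ τ = 5) by omega) with h1 | h3 | h
  rotate_left
  · exact hG.good_QD hN hP hE' hG' h3 htM hcm
  · exact hgood h
  -- the splitting element is minus one
  exfalso
  have hneg := hF.ty_neg hE' hG' h1
  have haE' : a = hF.pd E' G' (dl 0) (dl 0) := by
    rw [ha, hF.pd_dl hE hGo, hF.pd_dl hE' hG', e0, g0]
  have had : a * hF.pd E' G' σ τ = hF.pd E' G' (xv (dl 0) σ) (xv (dl 0) τ) := by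
    rw [haE', hF.pd_xv hE' hG']
  rcases hg with ⟨hg, -⟩ | hg
  · have h5 := forall_signs (fun σ τ => ty σ τ = 1 → ty (xv (dl 0) σ) (xv (dl 0) τ) = 5) (by decide) σ τ h1
    rw [had] at hg
    have := hG.ty_conj hN hP hE hGo hE' hG' (σ := dl 0) (τ := dl 0) (by decide) hgM hg
    rw [h5] at this
    revert this; decide
  have hgy : g * y * hF.pr (hs.rR (E 2)) (hs.rR (G 2)) * (g * y)⁻¹ = hF.pr (hs.rR (E 0)) (hs.rR (G 0)) := by
    refine hF.five_conj (z := b) (z' := a * hF.pd E' G' σ τ) hX2 (fun v => ?_) ?_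
    · rw [Fl.mul_vec, hneg, mulVec_neg, ha, hF.pd_dl hE hGo]
    · rw [← hg, ht]; group
  refine hcls ?_
  rw [mul_comm]
  exact hF.class_inv (hG.fuse_X hN hP (hE.1 2) (hGo.1 2) (hE.1 0) (hGo.1 0) (M.mul_mem hgM hy) hgy)
    (hE.1 2) (hGo.1 2) (hE.1 0) (hGo.1 0) hgy

end GCtx

/-- What is needed for factors of dimension four, from the statement about a plane. -/
theorem fourEnd_of_planeThree (F : Type*) [Field F] [Fintype F]
    (hP : ∀ {Q : QuadraticForm F (Idx 4 4 → F)} {B₁ B₂ : LinearMap.BilinForm F (Fin 4 → F)} {J : Isom Q}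
      (hF : Fl Q B₁ B₂ J), PlaneThree hF) : FourEnd F := by
  intro k Q B₁ B₂ J M hF hG hk
  subst hk
  exact hG.le_nr_of_four (hP hF)

end CfsgLib.TWGap
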