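import Cfsg.Agent.TensorWreathOrth.Gap.Four.CentX

/-!
# Two factors of dimension four: the centraliser of two reflections of each factor
-/

set_option autoImplicit false
set_option linter.unusedSectionVars false

namespace CfsgLib.TWGap

open Matrix Module CfsgLib.Spinor CfsgLib.OrthMax CfsgLib.TensorOrth
open CfsgLib.TensorMax (Idx ten ten_add_left ten_add_right ten_smul_left ten_smul_right ten_eq_zero
  ten_inj_left ten_inj_right)
open CfsgLib.TensorSlice (ASet IsOrth)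

variable {F : Type*} [Field F] [Fintype F] {Q : QuadraticForm F (Idx 4 4 → F)}
  {B₁ B₂ : LinearMap.BilinForm F (Fin 4 → F)} {J : Isom Q} {M : Subgroup (Isom Q)}

/-- The signs of all but one vector. -/
def ndl (i : Fin 4) : Fin 4 → Bool := fun k => !decide (k = i)

/-- The signs of the central pair. -/
def zq : Fin 2 → Fin 4 → Bool := ![no, tauP]

set_option synthInstance.maxSize 1000 in
theorem q_cases (σ τ : Fin 4 → Bool) : ty σ τ ≠ 6 → ty σ τ ≠ 0 →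
    ((∀ k, ty (xv (xv (dl 0) σ) (zq k)) (xv (xv (dl 0) τ) (zq k)) = ty (xv (dl 0) (zq k)) (xv (dl 0) (zq k))) ∨
      (∀ k, ty (xv (xv (dl 0) σ) (zq k)) (xv (xv (dl 0) τ) (zq k)) = ty (xv (dl 0) (zq k)) (xv (ndl 2) (zq k)))) →
    (∃ k, ty (xv σ (zq k)) (xv τ (zq k)) = 2 ∨ ty (xv σ (zq k)) (xv τ (zq k)) = 4 ∨
        ty (xv σ (zq k)) (xv τ (zq k)) = 5) ∨
      (¬ (∀ k, ty (xv (xv (dl 0) σ) (zq k)) (xv (xv (dl 0) τ) (zq k)) = ty (xv (dl 0) (zq k)) (xv (ndl 2) (zq k))) ∧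
        (ty (xv σ tauP) (xv τ tauP) = 0 ∨
          (σ 1 = !σ 0 ∧ σ 3 = !σ 2 ∧ τ 0 = σ 0 ∧ τ 1 = !τ 0 ∧ τ 3 = !τ 2))) :=
  forall_signs (fun σ τ => ty σ τ ≠ 6 → ty σ τ ≠ 0 →
    ((∀ k, ty (xv (xv (dl 0) σ) (zq k)) (xv (xv (dl 0) τ) (zq k)) = ty (xv (dl 0) (zq k)) (xv (dl 0) (zq k))) ∨
      (∀ k, ty (xv (xv (dl 0) σ) (zq k)) (xv (xv (dl 0) τ) (zq k)) = ty (xv (dl 0) (zq k)) (xv (ndl 2) (zq k)))) →
    (∃ k, ty (xv σ (zq k)) (xv τ (zq k)) = 2 ∨ ty (xv σ (zq k)) (xv τ (zq k)) = 4 ∨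
        ty (xv σ (zq k)) (xv τ (zq k)) = 5) ∨
      (¬ (∀ k, ty (xv (xv (dl 0) σ) (zq k)) (xv (xv (dl 0) τ) (zq k)) = ty (xv (dl 0) (zq k)) (xv (ndl 2) (zq k))) ∧
        (ty (xv σ tauP) (xv τ tauP) = 0 ∨
          (σ 1 = !σ 0 ∧ σ 3 = !σ 2 ∧ τ 0 = σ 0 ∧ τ 1 = !τ 0 ∧ τ 3 = !τ 2)))) (by decide) σ τ

namespace Fl

variable (hF : Fl Q B₁ B₂ J)
include hF

theorem dg_all_mul {E : Fin 4 → Fin 4 → F} (hE : IsOrth B₂ E) :
    hF.dg E tauP = hF.dg E (fun _ => true) * hF.dg E tauQ := by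
  rw [hF.dg_mul hE]
  congr 1
  funext i; fin_cases i <;> rfl

/-- The reflections of the first plane depend only on the second. -/
theorem dg_tauP_congr {E E' : Fin 4 → Fin 4 → F} (hE : IsOrth B₂ E) (hE' : IsOrth B₂ E') (h2 : E' 2 = E 2)
    (h3 : E' 3 = E 3) : hF.dg E' tauP = hF.dg E tauP := by
  rw [hF.dg_all_mul hE, hF.dg_all_mul hE']
  congr 1
  · exact hF.aset.isoG_ext fun x => (hF.dg_all hE' x).trans (hF.dg_all hE x).symm
  · simp [dg, tauQ, h2, h3]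

theorem four_form {E G : Fin 4 → Fin 4 → F} (hE : IsOrth B₂ E) (hG : IsOrth B₂ G) {σ τ : Fin 4 → Bool}
    (h : ty σ τ = 4) : ∃ e f, B₂ e e ≠ 0 ∧ B₂ f f ≠ 0 ∧
      hF.pd E G σ τ = hF.pr (hF.aset.rR e) (hF.aset.rR f) := by
  obtain ⟨i, j, s, hl, hr⟩ := forall_signs (fun σ τ => ty σ τ = 4 → ∃ i j : Fin 4, ∃ s : Bool,
    (∀ k, σ k = xor s (dl i k)) ∧ ∀ k, τ k = xor s (dl j k)) (by decide) σ τ h
  refine ⟨E i, G j, hE.1 i, hG.1 j, ?_⟩
  rw [← hF.pd_dl hE hG]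
  cases s
  · congr 1 <;> funext k <;> simp [hl, hr]
  · rw [← hF.pd_not hE hG (dl i)]
    congr 1 <;> funext k <;> simp [hl, hr]

theorem five_form {E G : Fin 4 → Fin 4 → F} (hE : IsOrth B₂ E) (hG : IsOrth B₂ G) {σ τ : Fin 4 → Bool}
    (h : ty σ τ = 5) : ∃ e f, B₂ e e ≠ 0 ∧ B₂ f f ≠ 0 ∧
      ∀ v, mat Q (hF.pd E G σ τ) *ᵥ v = -(mat Q (hF.pr (hF.aset.rR e) (hF.aset.rR f)) *ᵥ v) := by
  obtain ⟨i, j, s, hl, hr⟩ := forall_signs (fun σ τ => ty σ τ = 5 → ∃ i j : Fin 4, ∃ s : Bool,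
    (∀ k, σ k = xor (!s) (dl i k)) ∧ ∀ k, τ k = xor s (dl j k)) (by decide) σ τ h
  refine ⟨E i, G j, hE.1 i, hG.1 j, fun v => ?_⟩
  have e : hF.pd E G σ τ = hF.pd E G (fun _ => !s) (fun _ => s) * hF.pd E G (dl i) (dl j) := by
    rw [hF.pd_xv hE hG]
    congr 1 <;> funext k
    exacts [hl k, hr k]
  have h1 : ty (fun _ => !s) (fun _ => s) = 1 :=
    (show ∀ s : Bool, ty (fun _ => !s) (fun _ => s) = 1 by decide) s
  rw [e, mul_vec, hF.ty_neg hE hG h1, hF.pd_dl hE hG]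

theorem five_comm {x z t : Isom Q} (hz : ∀ v, mat Q z *ᵥ v = -(mat Q x *ᵥ v)) (h : Commute t z) :
    t * x = x * t := hF.ext fun a b => by
  rw [mul_vec, mul_vec]
  have e := congrArg (fun g => mat Q g *ᵥ ten a b) h.eq
  simp only [mul_vec, hz, mulVec_neg] at e
  exact neg_inj.1 e

theorem five_conj {x z x' z' y : Isom Q} (hz : ∀ v, mat Q z *ᵥ v = -(mat Q x *ᵥ v))
    (hz' : ∀ v, mat Q z' *ᵥ v = -(mat Q x' *ᵥ v)) (h : y * z * y⁻¹ = z') : y * x * y⁻¹ = x' :=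
  hF.ext fun a b => by
    have e := congrArg (fun g => mat Q g *ᵥ ten a b) h
    simp only [mul_vec, hz, hz', mulVec_neg] at e
    rw [mul_vec, mul_vec]
    exact neg_inj.1 e

end Fl

namespace GCtx

variable {hF : Fl Q B₁ B₂ J} (hG : GCtx hF M) (hN : ¬ M ≤ hF.Nr) (hP : PlaneThree hF)
include hG hN hP

/-- An element commuting with a signed element of the second, fourth or fifth type. -/
theorem good_245 {E G : Fin 4 → Fin 4 → F} (hE : IsOrth B₂ E) (hGo : IsOrth B₂ G) {σ τ : Fin 4 → Bool}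
    (h : ty σ τ = 2 ∨ ty σ τ = 4 ∨ ty σ τ = 5) {y : Isom Q} (hy : y ∈ M)
    (hc : Commute y (hF.pd E G σ τ)) : y ∈ hF.Nr := by
  rcases h with h | h | h
  · exact hG.good_S hP hE hGo h hy hc.eq
  · obtain ⟨e, f, he, hf, hx⟩ := hF.four_form hE hGo h
    exact hG.good_X hN hP he hf hy (by rw [← hx]; exact hc.eq)
  · obtain ⟨e, f, he, hf, hx⟩ := hF.five_form hE hGo h
    exact hG.good_X hN hP he hf hy (hF.five_comm hx hc)

/-- One splitting step for two reflections of each factor. -/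
theorem qd_step {E H G : Fin 4 → Fin 4 → F} (hE : IsOrth B₂ E) (hH : IsOrth B₂ H) (hGo : IsOrth B₂ G)
    (h2 : H 2 = E 2) (h3 : H 3 = E 3) {y : Isom Q}
    (hy : y ∈ cen2 M (hF.pd E G tauP tauP) (hF.pd E G tauP tauP)) :
    y * hF.pd E G (dl 0) (ndl 2) * y⁻¹ ∈ hF.Nr ∨
      ∃ u w, B₂ u u ≠ 0 ∧ B₂ u (H 0) = 0 ∧ B₂ u (H 1) = 0 ∧ B₂ w w ≠ 0 ∧ B₂ w (G 0) = 0 ∧ B₂ w (G 1) = 0 ∧
        Commute (y * hF.pd E G (dl 0) (ndl 2) * y⁻¹)
          (hF.pr (hF.aset.rR (H 1) * hF.aset.rR u) (hF.aset.rR (G 1) * hF.aset.rR w)) := by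
  have hs := hF.aset
  have hpl := hG.plane rfl
  set cQ := hF.pd E G tauP tauP with hcQ
  set C := cen2 M cQ cQ with hC
  set a := hF.pd H G (dl 0) (dl 0) with ha
  set b := hF.pd E G (dl 0) (ndl 2) with hb
  have hcH : cQ = hF.pd H G tauP tauP := by
    rw [hcQ, Fl.pd, Fl.pd, hF.dg_tauP_congr hE hH h2 h3]
  have haC : a ∈ C := by
    have h : a * cQ = cQ * a := by
      rw [hcH, ha, hF.pd_xv hH hGo, hF.pd_xv hH hGo]
      congr 1 <;> funext i <;> exact Bool.xor_comm _ _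
    exact mem_cen2.2 ⟨hG.pd_mem hH hGo (by decide), h, h⟩
  have hbC : b ∈ C := by
    have h : b * cQ = cQ * b := by
      rw [hcQ, hb, hF.pd_xv hE hGo, hF.pd_xv hE hGo]
      congr 1 <;> funext i <;> exact Bool.xor_comm _ _
    exact mem_cen2.2 ⟨hG.pd_mem hE hGo (by decide), h, h⟩
  obtain ⟨hyM, hyc, -⟩ := mem_cen2.1 hy
  set t := y * b * y⁻¹ with ht
  have htC : t ∈ C := C.mul_mem (C.mul_mem hy hbC) (C.inv_mem hy)
  obtain ⟨htM, htc, -⟩ := mem_cen2.1 htC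
  have ht2 : t * t = 1 := by
    rw [ht, show y * b * y⁻¹ * (y * b * y⁻¹) = y * (b * b) * y⁻¹ by group, hb, hF.pd_sq hE hGo, mul_one,
      mul_inv_cancel]
  have hne : ∀ g ∈ C, g * a * g⁻¹ ≠ t := fun g hg h => by
    have h' : y⁻¹ * g * a * (y⁻¹ * g)⁻¹ = b := by
      rw [_root_.mul_inv_rev, inv_inv, show y⁻¹ * g * a * (g⁻¹ * y) = y⁻¹ * (g * a * g⁻¹) * y by group, h, ht]
      group
    have := hG.ty_conj hN hP hH hGo hE hGo (σ := dl 0) (τ := dl 0) (σ' := dl 0) (τ' := ndl 2) (by decide)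
      (M.mul_mem (M.inv_mem hyM) (mem_cen2.1 hg).1) h'
    revert this; decide
  obtain ⟨d, hdC, hd2, hd1, hda, hdt, g, hgC, hg⟩ :=
    dihedral_split C haC htC (hF.pd_sq hH hGo _ _) ht2 hne
  obtain ⟨hdM, hdc, -⟩ := mem_cen2.1 hdC
  have hda0 : d * hF.pr (hs.rR (H 0)) (hs.rR (G 0)) = hF.pr (hs.rR (H 0)) (hs.rR (G 0)) * d := by
    rw [← hF.pd_dl hH hGo]; exact hda
  have hda1 : d * hF.pr (hs.rR (H 1)) (hs.rR (G 1)) = hF.pr (hs.rR (H 1)) (hs.rR (G 1)) * d := by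
    rw [← hF.pd_dl hH hGo, show hF.pd H G (dl 1) (dl 1) = a * cQ from by
      rw [hcH, ha, hF.pd_xv hH hGo]; congr 1 <;> funext i <;> fin_cases i <;> rfl]
    exact (Commute.mul_right hda hdc).eq
  have hdN : d ∈ hF.Nr := hG.good_X hN hP (hH.1 0) (hGo.1 0) hdM hda0
  obtain ⟨U, V, rfl, hU0, hV0⟩ := hF.kr_comm_X (hF.mem_kr_of_invol hpl hdN (hG.le hdM) hd2) (hH.1 0) (hGo.1 0) hda0
  obtain ⟨hU1, hV1⟩ := hF.pr_comm_refl (U := U) (V := V) (hH.1 1) (hGo.1 1) hda1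
  obtain ⟨hU2, hV2⟩ := hF.pr_sq hd2 (hH.1 0) hU0
  have pair : ∀ {H : Fin 4 → Fin 4 → F}, IsOrth B₂ H → IsOrth B₂ ![H 0, H 1] := fun {H} hH =>
    ⟨fun i => by fin_cases i <;> exact hH.1 _, fun i j hij => by
      fin_cases i <;> fin_cases j <;> first | exact absurd rfl hij | exact hH.2 _ _ (by decide)⟩
  obtain ⟨E', hE', hp, σ, rfl⟩ := hF.exists_diag hU2 2 (n := 2) rfl ![H 0, H 1] (pair hH)
    fun i => by
      fin_cases i
      · exact ⟨1, by rw [one_smul]; exact hU0⟩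
      · exact hU1
  obtain ⟨G', hG', hq, τ, rfl⟩ := hF.exists_diag hV2 2 (n := 2) rfl ![G 0, G 1] (pair hGo)
    fun i => by
      fin_cases i
      · exact hV0
      · exact hV1
  have e0 : E' 0 = H 0 := hp 0 0 rfl
  have e1 : E' 1 = H 1 := hp 1 1 rfl
  have g0 : G' 0 = G 0 := hq 0 0 rfl
  have g1 : G' 1 = G 1 := hq 1 1 rfl
  have hz2 : ∀ k, zq k 2 = false ∧ zq k 3 = false := by decide
  have hzH : ∀ k, hF.pd E' G' (zq k) (zq k) = hF.pd H G (zq k) (zq k) := fun k => by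
    rw [Fl.pd, Fl.pd, hF.dg_two e0 e1 (hz2 k).1 (hz2 k).2, hF.dg_two g0 g1 (hz2 k).1 (hz2 k).2]
  have hzE : ∀ k, hF.pd E' G' (zq k) (zq k) = hF.pd E G (zq k) (zq k) := fun k => by
    rw [hzH]
    fin_cases k
    · show hF.pd H G no no = hF.pd E G no no
      rw [no_eq, hF.pd_false hH hGo, hF.pd_false hE hGo]
    · exact hcH.symm
  have hzC : ∀ k, ∀ g ∈ C, g * hF.pd E' G' (zq k) (zq k) = hF.pd E' G' (zq k) (zq k) * g := fun k g hg => by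
    rw [hzE]
    fin_cases k
    · show g * hF.pd E G no no = hF.pd E G no no * g
      rw [no_eq, hF.pd_false hE hGo, mul_one, one_mul]
    · exact (mem_cen2.1 hg).2.1
  have ha' : a = hF.pd E' G' (dl 0) (dl 0) := by
    rw [ha, Fl.pd, Fl.pd, hF.dg_two e0 e1 rfl rfl, hF.dg_two g0 g1 rfl rfl]
  have hdpd : hF.pr (hF.dg E' σ) (hF.dg G' τ) = hF.pd E' G' σ τ := rfl
  rw [hdpd] at hd1 hdM hdt hg hdC
  have h6 := hG.ty_ne hN hE' hG' hdM
  have h0 : ty σ τ ≠ 0 := fun h => hd1 (hF.ty_one hE' hG' h)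
  have tr : ∀ {E₂ G₂ : Fin 4 → Fin 4 → F}, IsOrth B₂ E₂ → IsOrth B₂ G₂ →
      (∀ k, hF.pd E' G' (zq k) (zq k) = hF.pd E₂ G₂ (zq k) (zq k)) →
      ∀ {σw τw : Fin 4 → Bool} {h : Isom Q}, h ∈ C →
      h * hF.pd E₂ G₂ σw τw * h⁻¹ = a * hF.pd E' G' σ τ →
      ∀ k, ty (xv σw (zq k)) (xv τw (zq k)) ≠ 6 →
      ty (xv (xv (dl 0) σ) (zq k)) (xv (xv (dl 0) τ) (zq k)) = ty (xv σw (zq k)) (xv τw (zq k)) := by
    intro E₂ G₂ hE₂ hG₂ hz σw τw h hh hw k hk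
    refine hG.ty_conj hN hP hE₂ hG₂ hE' hG' hk (mem_cen2.1 hh).1 ?_
    rw [← hF.pd_xv hE₂ hG₂, ← hF.pd_xv hE' hG', ← hF.pd_xv hE' hG', ← ha', ← hw, ← hz,
      show h * (hF.pd E₂ G₂ σw τw * hF.pd E' G' (zq k) (zq k)) * h⁻¹ =
        h * hF.pd E₂ G₂ σw τw * (hF.pd E' G' (zq k) (zq k) * h⁻¹) by group,
      ← (hzC k h⁻¹ (C.inv_mem hh)), ← mul_assoc]
  have hodd : g * t * g⁻¹ = a * hF.pd E' G' σ τ → ∀ k,
      ty (xv (xv (dl 0) σ) (zq k)) (xv (xv (dl 0) τ) (zq k)) = ty (xv (dl 0) (zq k)) (xv (ndl 2) (zq k)) :=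
    fun hg k => tr hE hGo hzE (C.mul_mem hgC hy) (by rw [← hg, ht, hb]; group) k (by revert k; decide)
  have hrel : (∀ k, ty (xv (xv (dl 0) σ) (zq k)) (xv (xv (dl 0) τ) (zq k)) =
        ty (xv (dl 0) (zq k)) (xv (dl 0) (zq k))) ∨
      (∀ k, ty (xv (xv (dl 0) σ) (zq k)) (xv (xv (dl 0) τ) (zq k)) = ty (xv (dl 0) (zq k)) (xv (ndl 2) (zq k))) := by
    rcases hg with ⟨hg, -⟩ | hg
    · exact Or.inl fun k => tr hE' hG' (fun _ => rfl) hgC (by rw [← ha']; exact hg) k (by revert k; decide)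
    · exact Or.inr (hodd hg)
  rcases q_cases σ τ h6 h0 hrel with ⟨k, hk⟩ | ⟨hno, hrest⟩
  · refine Or.inl (hG.good_245 hN hP hE' hG' hk htM ?_)
    rw [← hF.pd_xv hE' hG']
    exact Commute.mul_right (Commute.symm hdt) (hzC k t htC)
  rcases hg with ⟨-, hg⟩ | hg
  swap
  · exact absurd (hodd hg) hno
  rcases hrest with hz | ⟨s1, s3, t0, t1, t3⟩
  · -- the splitting element is the central pair
    exfalso
    have hdz : hF.pd E' G' σ τ = cQ := by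
      have h := hF.ty_one hE' hG' hz
      rw [← hF.pd_xv hE' hG', mul_eq_one_iff_eq_inv, hF.pd_inv hE' hG'] at h
      rw [h]; exact hzE 1
    rw [hdz] at hg
    have h' : (y⁻¹ * g * y) * b * (y⁻¹ * g * y)⁻¹ = hF.pd E G (xv (dl 0) tauP) (xv (ndl 2) tauP) := by
      rw [← hF.pd_xv hE hGo, ← hb, ← hcQ,
        show y⁻¹ * g * y * b * (y⁻¹ * g * y)⁻¹ = y⁻¹ * (g * (y * b * y⁻¹) * g⁻¹) * y by group, ← ht, hg, ht,
        show y⁻¹ * (y * b * y⁻¹ * cQ) * y = b * y⁻¹ * (cQ * y) by group, ← hyc]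
      group
    have := hG.ty_conj hN hP hE hGo hE hGo (σ := dl 0) (τ := ndl 2) (by decide)
      (M.mul_mem (M.mul_mem (M.inv_mem hyM) (mem_cen2.1 hgC).1) hyM) h'
    revert this; decide
  right
  have key : ∀ s s' : Bool, Commute t (hF.pd E' G' ![false, true, s, !s] ![false, true, s', !s']) →
      ∃ u w, B₂ u u ≠ 0 ∧ B₂ u (H 0) = 0 ∧ B₂ u (H 1) = 0 ∧ B₂ w w ≠ 0 ∧ B₂ w (G 0) = 0 ∧ B₂ w (G 1) = 0 ∧
        Commute t (hF.pr (hs.rR (H 1) * hs.rR u) (hs.rR (G 1) * hs.rR w)) := by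
    intro s s' hcm
    have side : ∀ {H : Fin 4 → Fin 4 → F}, IsOrth B₂ H → ∀ s : Bool, ∃ u, B₂ u u ≠ 0 ∧ B₂ u (H 0) = 0 ∧
        B₂ u (H 1) = 0 ∧ hF.dg H ![false, true, s, !s] = hs.rR (H 1) * hs.rR u := by
      intro H hH s
      cases s
      · exact ⟨H 3, hH.1 3, hH.2 3 0 (by decide), hH.2 3 1 (by decide), by simp [Fl.dg]⟩
      · exact ⟨H 2, hH.1 2, hH.2 2 0 (by decide), hH.2 2 1 (by decide), by simp [Fl.dg]⟩
    obtain ⟨u, hu, hu0, hu1, eu⟩ := side hE' s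
    obtain ⟨w, hw, hw0, hw1, ew⟩ := side hG' s'
    refine ⟨u, w, hu, e0 ▸ hu0, e1 ▸ hu1, hw, g0 ▸ hw0, g1 ▸ hw1, ?_⟩
    rw [← e1, ← g1, ← eu, ← ew]
    exact hcm
  have hcm : Commute t (hF.pd E' G' σ τ) := Commute.symm hdt
  rcases Bool.eq_false_or_eq_true (σ 0) with hσ0 | hσ0
  · refine key (!σ 2) (!τ 2) ?_
    rw [← hF.pd_not hE' hG']
    convert hcm using 2
    · funext i; fin_cases i <;> simp [hσ0, s1, s3]
    · funext i; fin_cases i <;> simp [hσ0, t0, t1, t3]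
  · refine key (σ 2) (τ 2) ?_
    convert hcm using 2
    · funext i; fin_cases i <;> simp [hσ0, s1, s3]
    · funext i; fin_cases i <;> simp [hσ0, t0, t1, t3]

/-- Both planes elliptic. -/
theorem qd_elliptic {E G : Fin 4 → Fin 4 → F} (hE : IsOrth B₂ E) (hGo : IsOrth B₂ G)
    (helE : ¬ IsSquare (-(B₂ (E 0) (E 0) * B₂ (E 1) (E 1))))
    (helG : ¬ IsSquare (-(B₂ (G 0) (G 0) * B₂ (G 1) (G 1)))) {y : Isom Q}
    (hy : y ∈ cen2 M (hF.pd E G tauP tauP) (hF.pd E G tauP tauP)) : y ∈ hF.Nr := by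
  have hs := hF.aset
  obtain ⟨hyM, -, -⟩ := mem_cen2.1 hy
  set b := hF.pd E G (dl 0) (ndl 2) with hb
  set t := y * b * y⁻¹ with ht
  have hbM : b ∈ M := hG.pd_mem hE hGo (by decide)
  have htM : t ∈ M := M.mul_mem (M.mul_mem hyM hbM) (M.inv_mem hyM)
  suffices htN : t ∈ hF.Nr by
    have h4 : (4 : F) ≠ 0 := by rw [show (4 : F) = 2 * 2 by norm_num]; exact mul_ne_zero hs.two hs.two
    obtain ⟨E', G', σ, τ, hE', hG', e⟩ := hG.invol_pd htM htN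
      (by rw [ht, show y * b * y⁻¹ * (y * b * y⁻¹) = y * (b * b) * y⁻¹ by group, hb, hF.pd_sq hE hGo, mul_one,
        mul_inv_cancel])
      (by rw [ht, trI_conj, hb, (hF.trI_ty hE hGo).2.2 (by decide)]; exact neg_ne_zero.2 h4)
    have hty := hG.ty_conj hN hP hE hGo hE' hG' (σ := dl 0) (τ := ndl 2) (by decide) hyM e
    obtain ⟨e0, f0, he0, hf0, hz⟩ := hF.five_form hE hGo (σ := dl 0) (τ := ndl 2) (by decide)
    obtain ⟨e', f', he', hf', hz'⟩ := hF.five_form hE' hG' (hty.trans (by decide))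
    exact hG.fuse_X hN hP he0 hf0 he' hf' hyM (hF.five_conj hz hz' e)
  set q := B₂ (E 0) (E 0)
  set q' := B₂ (E 1) (E 1)
  have hq : q ≠ 0 := hE.1 0
  have hq' : q' ≠ 0 := hE.1 1
  have hsum : q + q' ≠ 0 := fun h => helE ⟨q, by linear_combination (-q) * h⟩
  have hpl := hG.plane rfl
  have hsqE : IsSquare (-(B₂ (E 2) (E 2) * B₂ (E 3) (E 3))) := by
    have h := hF.frame_nonsq hpl hE
    rw [← neg_mul_neg (B₂ (E 0) (E 0) * B₂ (E 1) (E 1)), hF.sq_mul_iff (neg_ne_zero.2 (mul_ne_zero hq hq'))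
      (neg_ne_zero.2 (mul_ne_zero (hE.1 2) (hE.1 3)))] at h
    tauto
  have hsqG : IsSquare (-(B₂ (G 2) (G 2) * B₂ (G 3) (G 3))) := by
    have h := hF.frame_nonsq hpl hGo
    rw [← neg_mul_neg (B₂ (G 0) (G 0) * B₂ (G 1) (G 1)), hF.sq_mul_iff
      (neg_ne_zero.2 (mul_ne_zero (hGo.1 0) (hGo.1 1)))
      (neg_ne_zero.2 (mul_ne_zero (hGo.1 2) (hGo.1 3)))] at h
    tauto
  set π : Equiv.Perm (Fin 4) := (Equiv.swap 0 2).trans (Equiv.swap 1 3) with hπ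
  set P := fun i => E (π i) with hP'
  have hPo : IsOrth B₂ P := hF.isOrth_perm hE π
  have hturn := hF.turn hPo (α := 1) (β := 1) (by
    show B₂ ((1 : F) • E 0 + (1 : F) • E 1) ((1 : F) • E 0 + (1 : F) • E 1) ≠ 0
    simp [hE.2 0 1, hE.2 1 0]; exact hsum)
  set H := fun i => ![P 0, P 1, (1 : F) • P 2 + (1 : F) • P 3,
      ((1 : F) * B₂ (P 3) (P 3)) • P 2 - ((1 : F) * B₂ (P 2) (P 2)) • P 3] (π i) with hH
  have hHo : IsOrth B₂ H := hF.isOrth_perm hturn π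
  rcases hG.qd_step hN hP hE hE hGo rfl rfl hy with h | ⟨u, w, hu, hu0, hu1, hw, hw0, hw1, hc⟩
  · exact h
  rcases hG.qd_step hN hP hE (H := H) hHo hGo rfl rfl hy with h | ⟨v, x, hv, hv0, hv1, hx, hx0, hx1, hc'⟩
  · exact h
  set k := H 1 with hk
  have hkk : B₂ k k ≠ 0 := hHo.1 1
  have hk' : k = (-q) • E 1 + q' • E 0 := by
    show ((1 : F) * B₂ (E 1) (E 1)) • E 0 - ((1 : F) * B₂ (E 0) (E 0)) • E 1 = _
    module
  have hH0 : H 0 = E 0 + E 1 := by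
    show (1 : F) • E 0 + (1 : F) • E 1 = _
    module
  -- orthogonality to the plane
  obtain ⟨hvE0, hvE1⟩ : B₂ v (E 0) = 0 ∧ B₂ v (E 1) = 0 := by
    rw [hH0, map_add] at hv0
    rw [hk', map_add, map_smul, map_smul, smul_eq_mul, smul_eq_mul] at hv1
    have h0 : (q + q') * B₂ v (E 0) = 0 := by linear_combination q * hv0 + hv1
    have h1 : (q + q') * B₂ v (E 1) = 0 := by linear_combination q' * hv0 - hv1
    exact ⟨(mul_eq_zero.1 h0).resolve_left hsum, (mul_eq_zero.1 h1).resolve_left hsum⟩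
  set W := hs.rR (E 1) * hs.rR k with hW
  set T := hs.rR u * hs.rR v
  have hu1' : B₂ (E 1) u = 0 := by rw [hs.symm₂]; exact hu1
  have hku : B₂ k u = 0 := by
    rw [hk']; simp [hu1', show B₂ (E 0) u = 0 from by rw [hs.symm₂]; exact hu0]
  have hkv : B₂ k v = 0 := by
    rw [hk']
    simp [show B₂ (E 1) v = 0 from by rw [hs.symm₂]; exact hvE1,
      show B₂ (E 0) v = 0 from by rw [hs.symm₂]; exact hvE0]
  have hWT : Commute W T := by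
    have c1 := hF.refl_orth_comm (hE.1 1) hu hu1'
    have c2 := hF.refl_orth_comm (hE.1 1) hv (by rw [hs.symm₂]; exact hvE1)
    have c3 := hF.refl_orth_comm hkk hu hku
    have c4 := hF.refl_orth_comm hkk hv hkv
    exact Commute.mul_left (Commute.mul_right c1 c2) (Commute.mul_right c3 c4)
  have hcc : Commute t (hF.pr (W * T) (hs.rR w * hs.rR x)) := by
    have h := hc.mul_right hc'
    rwa [hF.pr_mul,
      show hs.rR (E 1) * hs.rR u * (hs.rR k * hs.rR v) = W * T by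
        rw [hW, mul_assoc, ← mul_assoc (hs.rR u), ← hF.refl_orth_comm hkk hu hku, mul_assoc, ← mul_assoc],
      show hs.rR (G 1) * hs.rR w * (hs.rR (G 1) * hs.rR x) = hs.rR w * hs.rR x by
        rw [hF.refl_orth_comm (hGo.1 1) hw (by rw [hs.symm₂]; exact hw1), mul_assoc (hs.rR w),
          ← mul_assoc (hs.rR (G 1)), hs.rR_sq, one_mul]] at h
  have hpw := hcc.pow_right (Fintype.card F - 1)
  rw [hF.pr_pow, hWT.mul_pow, hF.hyp_pow hE hsqE hu hv hu0 hu1 hvE0 hvE1, mul_one,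
    hF.hyp_pow hGo hsqG hw hx hw0 hw1 hx0 hx1] at hpw
  have hfix : ∀ i : Fin 4, i = 0 ∨ i = 1 → act W (P i) = P i := by
    intro i hi
    have h21 : π i ≠ 1 ∧ π i ≠ 0 := by rcases hi with rfl | rfl <;> decide
    have hik : B₂ (E (π i)) k = 0 := by rw [hk']; simp [hE.2 _ _ h21.1, hE.2 _ _ h21.2]
    show act W (E (π i)) = E (π i)
    rw [hW, act_mul, show act (hs.rR k) (E (π i)) = E (π i) from hs.rR_fix hkk hik]
    exact hs.rR_fix (hE.1 1) (hE.2 _ _ h21.1)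
  have hD : (-q) * (-q) * q' + q' * q' * q ≠ 0 := by
    rw [show (-q) * (-q) * q' + q' * q' * q = q * q' * (q + q') by ring]
    exact mul_ne_zero (mul_ne_zero hq hq') hsum
  obtain ⟨r1, r0⟩ := hF.refl_sum (hs.rR_sq (E 1)) (hs.rR_sq k) (g := E 1) (g' := E 0) (α := -q) (β := q')
    (hs.rR_self (hE.1 1)) (hs.rR_fix (hE.1 1) (hE.2 0 1 (by decide)))
    (by rw [← hk']; exact hs.rR_self hkk)
    (hs.rR_fix hkk (by rw [hk']; simp [hE.2 0 1, hE.2 1 0, q, q']; ring))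
    hD
  have hns := hF.refl_sum_nonsq (a := q') (b := q) (by rwa [mul_comm]) (neg_ne_zero.2 hq) hq' hD
  obtain ⟨s', hs', w2, w3⟩ := hF.rot_pow (U := W) hPo helE hns
    (fun i hi => ⟨1, one_ne_zero, by rw [one_smul]; exact hfix i hi⟩) r0 r1
  have hfixn : ∀ (n : ℕ) (i : Fin 4), i = 0 ∨ i = 1 → act (W ^ n) (P i) = P i := fun n i hi => by
    induction n with
    | zero => rw [pow_zero, act_one]
    | succ n ih => rw [pow_succ, act_mul, hfix i hi, ih]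
  have hflip : J * t * J * hs.kR (W ^ (Fintype.card F - 1)) = hs.kR (W ^ (Fintype.card F - 1)) * (J * t * J) := by
    rw [hF.kR_eq_pr, ← hF.conj_pr, hF.conj_mul, hF.conj_mul, hpw.eq]
  have hgood := hF.comm_turn hPo hs' (hfixn _ 0 (Or.inl rfl)) (hfixn _ 1 (Or.inr rfl)) w2 w3 hflip
  have hgood' : t * hF.kL (hF.dg P tauQ) = hF.kL (hF.dg P tauQ) * t := by
    rw [← hF.conj_conj t, ← hF.conj_kR, hF.conj_mul, hF.conj_mul, hgood]
  exact hG.good_sL hP hPo (by decide) htM hgood'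

/-- An element commuting with two reflections of each factor. -/
theorem good_QD {E G : Fin 4 → Fin 4 → F} (hE : IsOrth B₂ E) (hGo : IsOrth B₂ G) {σ τ : Fin 4 → Bool}
    (h3 : ty σ τ = 3) {y : Isom Q} (hy : y ∈ M) (hc : Commute y (hF.pd E G σ τ)) : y ∈ hF.Nr := by
  obtain ⟨hσ, hτ⟩ := forall_signs (fun σ τ => ty σ τ = 3 → wt σ = 2 ∧ wt τ = 2) (by decide) σ τ h3
  obtain ⟨π, hπ⟩ := exists_perm_wt2 σ hσ
  obtain ⟨π', hπ'⟩ := exists_perm_wt2 τ hτ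
  obtain ⟨E₁, G₁, hE₁, hG₁, heq, helE⟩ := hG.exists_elliptic (hF.isOrth_perm hE π) (hF.isOrth_perm hGo π')
  rw [show hF.pd E G σ τ = hF.pd E₁ G₁ tauP tauP from by
    rw [heq, Fl.pd, Fl.pd, ← hF.dg_perm hE π σ, ← hF.dg_perm hGo π' τ, hπ, hπ']] at hc
  by_cases hel : IsSquare (-(B₂ (G₁ 0) (G₁ 0) * B₂ (G₁ 1) (G₁ 1)))
  swap
  · exact hG.qd_elliptic hN hP hE₁ hG₁ helE hel (mem_cen2.2 ⟨hy, hc.eq, hc.eq⟩)
  set ρ : Equiv.Perm (Fin 4) := (Equiv.swap 0 2).trans (Equiv.swap 1 3) with hρ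
  have hG₂ : IsOrth B₂ (fun i => G₁ (ρ i)) := hF.isOrth_perm hG₁ ρ
  have hc' : Commute y (hF.pd E₁ (fun i => G₁ (ρ i)) tauP tauP) := by
    rw [show hF.pd E₁ (fun i => G₁ (ρ i)) tauP tauP =
        hF.pd E₁ G₁ (fun _ => false) (fun _ => true) * hF.pd E₁ G₁ tauP tauP from by
      rw [hF.pd_xv hE₁ hG₁, Fl.pd, Fl.pd, show (tauP : Fin 4 → Bool) = fun i => tauQ (ρ i) from
        funext fun i => by fin_cases i <;> rfl, hF.dg_perm hG₁ ρ]
      congr 2 <;> funext i <;> fin_cases i <;> rfl]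
    exact Commute.mul_right (hF.const_comm hE₁ hG₁ false true y) hc
  refine hG.qd_elliptic hN hP hE₁ hG₂ helE ?_ (mem_cen2.2 ⟨hy, hc'.eq, hc'.eq⟩)
  show ¬ IsSquare (-(B₂ (G₁ 2) (G₁ 2) * B₂ (G₁ 3) (G₁ 3)))
  have h := hF.frame_nonsq (hG.plane rfl) hG₁
  rw [← neg_mul_neg (B₂ (G₁ 0) (G₁ 0) * B₂ (G₁ 1) (G₁ 1)), hF.sq_mul_iff
    (neg_ne_zero.2 (mul_ne_zero (hG₁.1 0) (hG₁.1 1))) (neg_ne_zero.2 (mul_ne_zero (hG₁.1 2) (hG₁.1 3)))] at h
  tauto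

end GCtx

end CfsgLib.TWGap
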