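import Cfsg.Agent.TensorWreathOrth.Gap.Four.PairEq

/-!
# Two factors of dimension four: the centraliser of a pair of reflections, fusion
-/

set_option autoImplicit false
set_option linter.unusedSectionVars false

namespace CfsgLib.TWGap

open Matrix Module CfsgLib.Spinor CfsgLib.OrthMax CfsgLib.TensorOrth
open CfsgLib.TensorMax (Idx ten ten_add_left ten_add_right ten_smul_left ten_smul_right ten_eq_zero
  ten_inj_left ten_inj_right)
open CfsgLib.TensorSlice (ASet IsOrth)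

variable {F : Type*} [Field F] [Fintype F] {Q : QuadraticForm F (Idx 4 4 → F)}
  {B₁ B₂ : LinearMap.BilinForm F (Fin 4 → F)} {J : Isom Q} {M : Subgroup (Isom Q)}

/-- The signs of the two central elements. -/
def zx : Fin 2 → Fin 4 → Bool := ![no, dl 0]

set_option synthInstance.maxSize 1000 in
theorem x_cases (σ τ : Fin 4 → Bool) : ty σ τ ≠ 6 → ty σ τ ≠ 0 →
    ((∀ k, ty (xv (xv (dl 1) σ) (zx k)) (xv (xv (dl 1) τ) (zx k)) = ty (xv (dl 1) (zx k)) (xv (dl 1) (zx k))) ∨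
      (∀ k, ty (xv (xv (dl 1) σ) (zx k)) (xv (xv (dl 1) τ) (zx k)) = ty (xv tauP (zx k)) (xv no (zx k)))) →
    (∃ k, ty (xv σ (zx k)) (xv τ (zx k)) = 2) ∨
      (∃ k i j, ∃ s s' : Bool, i ≠ 0 ∧ j ≠ 0 ∧ (∀ l, xv σ (zx k) l = xor s (dl i l)) ∧
        ∀ l, xv τ (zx k) l = xor s' (dl j l)) :=
  forall_signs (fun σ τ => ty σ τ ≠ 6 → ty σ τ ≠ 0 →
    ((∀ k, ty (xv (xv (dl 1) σ) (zx k)) (xv (xv (dl 1) τ) (zx k)) = ty (xv (dl 1) (zx k)) (xv (dl 1) (zx k))) ∨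
      (∀ k, ty (xv (xv (dl 1) σ) (zx k)) (xv (xv (dl 1) τ) (zx k)) = ty (xv tauP (zx k)) (xv no (zx k)))) →
    (∃ k, ty (xv σ (zx k)) (xv τ (zx k)) = 2) ∨
      (∃ k i j, ∃ s s' : Bool, i ≠ 0 ∧ j ≠ 0 ∧ (∀ l, xv σ (zx k) l = xor s (dl i l)) ∧
        ∀ l, xv τ (zx k) l = xor s' (dl j l))) (by decide) σ τ

namespace Fl

variable (hF : Fl Q B₁ B₂ J)
include hF

/-- Constant signs give a central element. -/
theorem const_comm {E G : Fin 4 → Fin 4 → F} (hE : IsOrth B₂ E) (hG : IsOrth B₂ G) (s s' : Bool) (g : Isom Q) :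
    g * hF.pd E G (fun _ => s) (fun _ => s') = hF.pd E G (fun _ => s) (fun _ => s') * g := by
  have h : ∀ s s' : Bool, ty (fun _ => s) (fun _ => s') = 0 ∨ ty (fun _ => s) (fun _ => s') = 1 := by decide
  rcases h s s' with h | h
  · rw [hF.ty_one hE hG h, mul_one, one_mul]
  · exact hF.neg_comm hE hG h g

/-- The class of a pair of reflections is invariant in the normaliser. -/
theorem class_inv {z : Isom Q} (hz : z ∈ hF.Nr) {e f e' f' : Fin 4 → F} (he : B₂ e e ≠ 0) (hf : B₂ f f ≠ 0)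
    (he' : B₂ e' e' ≠ 0) (hf' : B₂ f' f' ≠ 0)
    (h : z * hF.pr (hF.aset.rR e) (hF.aset.rR f) * z⁻¹ = hF.pr (hF.aset.rR e') (hF.aset.rR f')) :
    IsSquare (B₂ e e * B₂ f f * (B₂ e' e' * B₂ f' f')) := by
  have hs := hF.aset
  have hK : ∀ z ∈ Kr Q, ∀ e' f' : Fin 4 → F, B₂ e' e' ≠ 0 → B₂ f' f' ≠ 0 →
      z * hF.pr (hs.rR e) (hs.rR f) * z⁻¹ = hF.pr (hs.rR e') (hs.rR f') →
      IsSquare (B₂ e e * B₂ f f * (B₂ e' e' * B₂ f' f')) := by
    intro z hz e' f' he' hf' h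
    obtain ⟨A, B, μ, hμ, hv, hA, hB⟩ := hF.kr_sim hz
    set a := (A : Matrix (Fin 4) (Fin 4) F) *ᵥ e with ha
    set b := (B : Matrix (Fin 4) (Fin 4) F) *ᵥ f with hb
    have haa : B₂ a a ≠ 0 := by rw [ha, hA]; exact mul_ne_zero (inv_ne_zero hμ) he
    have hbb : B₂ b b ≠ 0 := by rw [hb, hB]; exact mul_ne_zero hμ hf
    have heq : hF.pr (hs.rR e') (hs.rR f') = hF.pr (hs.rR a) (hs.rR b) := by
      rw [← h, mul_inv_eq_iff_eq_mul]
      refine hF.ext fun x w => ?_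
      rw [mul_vec, mul_vec, hF.pr_ten, hv, hv, hF.pr_ten, hF.refl_act he, hF.refl_act hf, hF.refl_act haa,
        hF.refl_act hbb, mulVec_sub, mulVec_sub, mulVec_smul, mulVec_smul, ← ha, ← hb]
      congr 1
      · rw [ha, hA, hA]; congr 2; field_simp
      · rw [hb, hB, hB]; congr 2; field_simp
    have key : ∀ {d d' : Fin 4 → F} {c : F}, B₂ d d ≠ 0 → B₂ d' d' ≠ 0 → (c = 1 ∨ c = -1) →
        (∀ x, act (hs.rR d) x = c • act (hs.rR d') x) → ∃ r : F, d = r • d' := by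
      intro d d' c hd hd' hc hx
      rcases hc with rfl | rfl
      · exact ⟨_, hs.rR_eq hd hd' (hs.isoG_ext fun x => by have := hx x; rwa [one_smul] at this)⟩
      · exfalso
        obtain ⟨w, hw, hw0⟩ : ∃ w ∈ CfsgLib.TensorSlice.perp B₂ ![d, d'], w ≠ 0 := by
          refine Submodule.exists_mem_ne_zero_of_ne_bot fun h => ?_
          have h3 := CfsgLib.TensorSlice.finrank_perp B₂ ![d, d']
          rw [h, finrank_bot] at h3
          omega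
        rw [CfsgLib.TensorSlice.mem_perp] at hw
        have h1 := hx w
        rw [show act (hs.rR d) w = w from hs.rR_fix hd (hw 0), show act (hs.rR d') w = w from hs.rR_fix hd' (hw 1)]
          at h1
        exact hw0 ((smul_eq_zero.1 (show (2 : F) • w = 0 by linear_combination (norm := module) h1)).resolve_left
          hs.two)
    obtain ⟨c, hc, hU, hV⟩ := hF.pr_inj heq
    obtain ⟨r, hr⟩ := key haa he' hc hU
    obtain ⟨r', hr'⟩ := key hbb hf' hc hV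
    refine ⟨r * r' * (B₂ e' e' * B₂ f' f'), ?_⟩
    have h1 : μ⁻¹ * B₂ e e = r * r * B₂ e' e' := by
      rw [← hA, ← ha, hr]; simp; ring
    have h2 : μ * B₂ f f = r' * r' * B₂ f' f' := by
      rw [← hB, ← hb, hr']; simp; ring
    have h3 : μ⁻¹ * B₂ e e * (μ * B₂ f f) = B₂ e e * B₂ f f := by field_simp
    rw [← h3, h1, h2]; ring
  rcases hz with hz | hz
  · exact hK z hz e' f' he' hf' h
  · rw [show B₂ e' e' * B₂ f' f' = B₂ f' f' * B₂ e' e' by ring]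
    refine hK _ hz f' e' hf' he' ?_
    rw [show J * z * hF.pr (hs.rR e) (hs.rR f) * (J * z)⁻¹ =
      J * (z * hF.pr (hs.rR e) (hs.rR f) * z⁻¹) * J⁻¹ by group, h, hF.J_inv, hF.conj_pr]

/-- Root data orthogonal to a given vector. -/
theorem exists_root_perp {f : Fin 4 → F} (hf : B₂ f f ≠ 0) :
    ∃ c z : Fin 4 → F, c ≠ 0 ∧ B₂ c c = 0 ∧ B₂ z c = 0 ∧ B₂ z z ≠ 0 ∧ B₂ c f = 0 ∧ B₂ z f = 0 := by
  obtain ⟨G, hG, rfl⟩ := hF.exists_frame1 hf
  obtain ⟨a, b, hab⟩ := hF.exists_sol (hG.1 1) (hG.1 2) (-B₂ (G 3) (G 3))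
  have e := hG.2
  refine ⟨a • G 1 + b • G 2 + G 3, (b * B₂ (G 2) (G 2)) • G 1 - (a * B₂ (G 1) (G 1)) • G 2, fun h => ?_, ?_, ?_,
    ?_, ?_, ?_⟩
  · have h' := congrArg (B₂ · (G 3)) h
    simp [e 1 3, e 2 3] at h'
    exact hG.1 3 h'
  · simp [e 1 2, e 2 1, e 1 3, e 3 1, e 2 3, e 3 2]
    linear_combination hab
  · simp [e 1 2, e 2 1, e 1 3, e 2 3]
    ring
  · simp [e 1 2, e 2 1]
    intro h
    refine mul_ne_zero (mul_ne_zero (hG.1 1) (hG.1 2)) (hG.1 3) ?_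
    linear_combination (B₂ (G 1) (G 1) * B₂ (G 2) (G 2)) * hab - h
  · simp [e 1 0, e 2 0, e 3 0]
  · simp [e 1 0, e 2 0]

end Fl

namespace GCtx

variable {hF : Fl Q B₁ B₂ J} (hG : GCtx hF M) (hN : ¬ M ≤ hF.Nr) (hP : PlaneThree hF)
include hG hN hP

theorem x_core {E G : Fin 4 → Fin 4 → F} (hE : IsOrth B₂ E) (hGo : IsOrth B₂ G) {y : Isom Q}
    (hy : y ∈ cen2 M (hF.pd E G (dl 0) (dl 0)) (hF.pd E G (dl 0) (dl 0))) : y ∈ hF.Nr := by
  have hs := hF.aset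
  have hpl := hG.plane rfl
  set X := hF.pd E G (dl 0) (dl 0) with hX
  set C := cen2 M X X with hC
  set a := hF.pd E G (dl 1) (dl 1) with ha
  set b := hF.pd E G tauP no with hb
  have hcomm : ∀ σ τ σ' τ' : Fin 4 → Bool,
      hF.pd E G σ τ * hF.pd E G σ' τ' = hF.pd E G σ' τ' * hF.pd E G σ τ := fun σ τ σ' τ' => by
    rw [hF.pd_xv hE hGo, hF.pd_xv hE hGo]
    congr 1 <;> funext i <;> exact Bool.xor_comm _ _
  have haC : a ∈ C := mem_cen2.2 ⟨hG.pd_mem hE hGo (by decide), hcomm _ _ _ _, hcomm _ _ _ _⟩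
  have hbC : b ∈ C := mem_cen2.2 ⟨hG.pd_mem hE hGo (by decide), hcomm _ _ _ _, hcomm _ _ _ _⟩
  have hzC : ∀ k, ∀ g ∈ C, g * hF.pd E G (zx k) (zx k) = hF.pd E G (zx k) (zx k) * g := by
    intro k g hg
    obtain ⟨-, h0, -⟩ := mem_cen2.1 hg
    fin_cases k
    · show g * hF.pd E G no no = hF.pd E G no no * g
      rw [no_eq, hF.pd_false hE hGo, mul_one, one_mul]
    · exact h0
  obtain ⟨hyM, hyX, -⟩ := mem_cen2.1 hy
  set t := y * b * y⁻¹ with ht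
  have htC : t ∈ C := C.mul_mem (C.mul_mem hy hbC) (C.inv_mem hy)
  obtain ⟨htM, htX, -⟩ := mem_cen2.1 htC
  have ht2 : t * t = 1 := by
    rw [ht, show y * b * y⁻¹ * (y * b * y⁻¹) = y * (b * b) * y⁻¹ by group, hb, hF.pd_sq hE hGo, mul_one,
      mul_inv_cancel]
  suffices htN : t ∈ hF.Nr by
    obtain ⟨E', G', σ, τ, hE', hG', -, -, e⟩ := hF.pd_of_comm_X (hF.mem_kr_of_invol hpl htN (hG.le htM) ht2) ht2
      (hE.1 0) (hGo.1 0) (by rw [← hF.pd_dl hE hGo, ← hX]; exact htX)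
    have hty := hG.ty_conj hN hP hE hGo hE' hG' (σ := tauP) (τ := no) (by decide) hyM e
    exact hG.fuse_S hP hE hGo hE' hG' (show ty tauP no = 2 by decide) (hty.trans (by decide)) hyM e
  have hne : ∀ g ∈ C, g * a * g⁻¹ ≠ t := fun g hg h => by
    have h' : y⁻¹ * g * a * (y⁻¹ * g)⁻¹ = b := by
      rw [_root_.mul_inv_rev, inv_inv, show y⁻¹ * g * a * (g⁻¹ * y) = y⁻¹ * (g * a * g⁻¹) * y by group, h, ht]
      group
    have := hG.ty_conj hN hP hE hGo hE hGo (σ := dl 1) (τ := dl 1) (σ' := tauP) (τ' := no) (by decide)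
      (M.mul_mem (M.inv_mem hyM) (mem_cen2.1 hg).1) h'
    revert this; decide
  obtain ⟨d, hdC, hd2, hd1, hda, hdt, g, hgC, hg⟩ :=
    dihedral_split C haC htC (hF.pd_sq hE hGo _ _) ht2 hne
  obtain ⟨hdM, hdX, -⟩ := mem_cen2.1 hdC
  rw [hX, hF.pd_dl hE hGo] at hdX
  have hda' : d * hF.pr (hs.rR (E 1)) (hs.rR (G 1)) = hF.pr (hs.rR (E 1)) (hs.rR (G 1)) * d := by
    rw [← hF.pd_dl hE hGo]; exact hda
  have hdN : d ∈ hF.Nr := hG.good_pair hN hP (hE.1 0) (hE.1 1) (hE.2 0 1 (by decide)) (hGo.1 0) (hGo.1 1)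
    (hGo.2 0 1 (by decide)) hdM hdX hda'
  obtain ⟨U, V, rfl, hU0, hV0⟩ := hF.kr_comm_X (hF.mem_kr_of_invol hpl hdN (hG.le hdM) hd2) (hE.1 0) (hGo.1 0) hdX
  obtain ⟨hU1, hV1⟩ := hF.pr_comm_refl (U := U) (V := V) (hE.1 1) (hGo.1 1) hda'
  obtain ⟨hU2, hV2⟩ := hF.pr_sq hd2 (hE.1 0) hU0
  have pair : ∀ {H : Fin 4 → Fin 4 → F}, IsOrth B₂ H → IsOrth B₂ ![H 0, H 1] := fun {H} hH =>
    ⟨fun i => by fin_cases i <;> exact hH.1 _, fun i j hij => by
      fin_cases i <;> fin_cases j <;> first | exact absurd rfl hij | exact hH.2 _ _ (by decide)⟩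
  obtain ⟨E', hE', hp, σ, rfl⟩ := hF.exists_diag hU2 2 (n := 2) rfl ![E 0, E 1] (pair hE)
    fun i => by
      fin_cases i
      · exact ⟨1, by rw [one_smul]; exact hU0⟩
      · exact hU1
  obtain ⟨G', hG', hq, τ, rfl⟩ := hF.exists_diag hV2 2 (n := 2) rfl ![G 0, G 1] (pair hGo)
    fun i => by
      fin_cases i
      · exact hV0
      · exact hV1
  have e0 : E' 0 = E 0 := hp 0 0 rfl
  have e1 : E' 1 = E 1 := hp 1 1 rfl
  have g0 : G' 0 = G 0 := hq 0 0 rfl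
  have g1 : G' 1 = G 1 := hq 1 1 rfl
  have conv : ∀ {σ τ : Fin 4 → Bool}, σ 2 = false → σ 3 = false → τ 2 = false → τ 3 = false →
      hF.pd E G σ τ = hF.pd E' G' σ τ := fun {σ τ} h2 h3 h2' h3' => by
    rw [Fl.pd, Fl.pd, hF.dg_two e0 e1 h2 h3, hF.dg_two g0 g1 h2' h3']
  have hz2 : ∀ k, zx k 2 = false ∧ zx k 3 = false := by decide
  have hzC' : ∀ k, ∀ g ∈ C, g * hF.pd E' G' (zx k) (zx k) = hF.pd E' G' (zx k) (zx k) * g := fun k g hg => by
    rw [← conv (hz2 k).1 (hz2 k).2 (hz2 k).1 (hz2 k).2]; exact hzC k g hg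
  have ha' : a = hF.pd E' G' (dl 1) (dl 1) := conv rfl rfl rfl rfl
  have hb' : b = hF.pd E' G' tauP no := conv rfl rfl rfl rfl
  have hdpd : hF.pr (hF.dg E' σ) (hF.dg G' τ) = hF.pd E' G' σ τ := rfl
  rw [hdpd] at hd1 hdM hdt hg hdC
  have h6 := hG.ty_ne hN hE' hG' hdM
  have h0 : ty σ τ ≠ 0 := fun h => hd1 (hF.ty_one hE' hG' h)
  have tr : ∀ {σw τw : Fin 4 → Bool} {h : Isom Q}, h ∈ C →
      h * hF.pd E' G' σw τw * h⁻¹ = a * hF.pd E' G' σ τ →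
      ∀ k, ty (xv σw (zx k)) (xv τw (zx k)) ≠ 6 →
      ty (xv (xv (dl 1) σ) (zx k)) (xv (xv (dl 1) τ) (zx k)) = ty (xv σw (zx k)) (xv τw (zx k)) := by
    intro σw τw h hh hw k hk
    refine hG.ty_conj hN hP hE' hG' hE' hG' hk (mem_cen2.1 hh).1 ?_
    rw [← hF.pd_xv hE' hG', ← hF.pd_xv hE' hG', ← hF.pd_xv hE' hG', ← ha', ← hw,
      show h * (hF.pd E' G' σw τw * hF.pd E' G' (zx k) (zx k)) * h⁻¹ =
        h * hF.pd E' G' σw τw * (hF.pd E' G' (zx k) (zx k) * h⁻¹) by group,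
      ← (hzC' k h⁻¹ (C.inv_mem hh)), ← mul_assoc]
  have hrel : (∀ k, ty (xv (xv (dl 1) σ) (zx k)) (xv (xv (dl 1) τ) (zx k)) =
        ty (xv (dl 1) (zx k)) (xv (dl 1) (zx k))) ∨
      (∀ k, ty (xv (xv (dl 1) σ) (zx k)) (xv (xv (dl 1) τ) (zx k)) = ty (xv tauP (zx k)) (xv no (zx k))) := by
    rcases hg with ⟨hg, -⟩ | hg
    · exact Or.inl fun k => tr hgC (by rw [← ha']; exact hg) k (by revert k; decide)
    · exact Or.inr fun k => tr (C.mul_mem hgC hy) (by rw [← hg, ht, hb']; group) k (by revert k; decide)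
  have hcm : ∀ k, Commute t (hF.pd E' G' (xv σ (zx k)) (xv τ (zx k))) := fun k => by
    rw [← hF.pd_xv hE' hG']
    exact Commute.mul_right (Commute.symm hdt) (hzC' k t htC)
  rcases x_cases σ τ h6 h0 hrel with ⟨k, hk⟩ | ⟨k, i, j, s, s', hi, hj, hl, hr⟩
  · exact hG.good_S hP hE' hG' hk htM (hcm k).eq
  -- an orthogonal pair of reflections
  set c := hF.pd E' G' (fun _ => s) (fun _ => s') with hc
  have e : hF.pd E' G' (dl i) (dl j) = c * hF.pd E' G' (xv σ (zx k)) (xv τ (zx k)) := by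
    rw [hc, hF.pd_xv hE' hG']
    congr 1 <;> funext l
    · show dl i l = xor s (xv σ (zx k) l)
      rw [hl, ← Bool.xor_assoc, Bool.xor_self, Bool.false_xor]
    · show dl j l = xor s' (xv τ (zx k) l)
      rw [hr, ← Bool.xor_assoc, Bool.xor_self, Bool.false_xor]
  have hcc : Commute t c := hF.const_comm hE' hG' s s' t
  refine hG.good_pair hN hP (hE.1 0) (hE'.1 i) ?_ (hGo.1 0) (hG'.1 j) ?_ htM ?_ ?_
  · rw [← e0]; exact hE'.2 0 i (Ne.symm hi)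
  · rw [← g0]; exact hG'.2 0 j (Ne.symm hj)
  · rw [← hF.pd_dl hE hGo]; exact htX
  · rw [← hF.pd_dl hE' hG', e]; exact (hcc.mul_right (hcm k)).eq

/-- An element commuting with a pair of reflections. -/
theorem good_X {e f : Fin 4 → F} (he : B₂ e e ≠ 0) (hf : B₂ f f ≠ 0) {y : Isom Q} (hy : y ∈ M)
    (hc : y * hF.pr (hF.aset.rR e) (hF.aset.rR f) = hF.pr (hF.aset.rR e) (hF.aset.rR f) * y) : y ∈ hF.Nr := by
  obtain ⟨E, hE, rfl⟩ := hF.exists_frame1 he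
  obtain ⟨G, hGo, rfl⟩ := hF.exists_frame1 hf
  exact hG.x_core hN hP hE hGo (mem_cen2.2 ⟨hy, by rw [hF.pd_dl hE hGo]; exact hc, by rw [hF.pd_dl hE hGo]; exact hc⟩)

/-- An element whose conjugate of a pair of reflections commutes with such a pair is in the normaliser. -/
theorem fuse_X {e f e' f' : Fin 4 → F} (he : B₂ e e ≠ 0) (hf : B₂ f f ≠ 0) (he' : B₂ e' e' ≠ 0)
    (hf' : B₂ f' f' ≠ 0) {y : Isom Q} (hy : y ∈ M) (hc : y * hF.pr (hF.aset.rR e) (hF.aset.rR f) * y⁻¹ =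
      hF.pr (hF.aset.rR e') (hF.aset.rR f')) : y ∈ hF.Nr := by
  obtain ⟨p, hp, hchar⟩ : ∃ p, p.Prime ∧ CharP F p :=
    ⟨ringChar F, CharP.char_is_prime F _, ringChar.charP F⟩
  obtain ⟨c, z, hc0, hcc, hz, hzz, hcf, hzf⟩ := hF.exists_root_perp hf
  set X := hF.pr (hF.aset.rR e) (hF.aset.rR f)
  set u := hF.rt hcc hz with hu
  have hcu : u * X = X * u := by
    refine hF.ext fun x w => ?_
    rw [Fl.mul_vec, Fl.mul_vec, hF.pr_ten, hF.rt_ten, hF.rt_ten, hF.pr_ten]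
    congr 1
    rw [hF.refl_act hf, hF.refl_act hf, map_sub, map_smul]
    have hfz : B₂ f z = 0 := by rw [hF.aset.symm₂, hzf]
    have hfc : B₂ f c = 0 := by rw [hF.aset.symm₂, hcf]
    have e1 : esie B₂ 1 c z (-B₂ z z / 2) f = f := by simp [esie_apply, hfz, hfc]
    rw [e1]
    congr 2
    simp [esie_apply, hcf, hzf]
  refine hG.mem_nr_of_fuse hy hc0 hcc hz hzz (hF.kr_of_char ?_
    (by rw [conj_pow, hF.rt_pow_char hcc hz, mul_one, mul_inv_cancel]))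
  refine hG.good_X hN hP he' hf' (M.mul_mem (M.mul_mem hy (hG.rt_mem hcc hz)) (M.inv_mem hy)) ?_
  rw [← hc, show y * u * y⁻¹ * (y * X * y⁻¹) = y * (u * X) * y⁻¹ by group, hcu, hu]
  group

end GCtx

end CfsgLib.TWGap
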