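import Cfsg.Agent.TensorWreathOrth.Gap.Four.XType

/-!
# Two factors of dimension four: conjugate signed elements have the same type
-/

set_option autoImplicit false
set_option linter.unusedSectionVars false

namespace CfsgLib.TWGap

open Matrix Module CfsgLib.Spinor CfsgLib.OrthMax CfsgLib.TensorOrth
open CfsgLib.TensorMax (Idx ten ten_add_left ten_add_right ten_smul_left ten_smul_right ten_eq_zero
  ten_inj_left ten_inj_right)
open CfsgLib.TensorSlice (ASet IsOrth)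

variable {F : Type*} [Field F] [Fintype F] {Q : QuadraticForm F (Idx 4 4 → F)}
  {B₁ B₂ : LinearMap.BilinForm F (Fin 4 → F)} {J : Isom Q} {M : Subgroup (Isom Q)}

namespace Fl

variable (hF : Fl Q B₁ B₂ J)
include hF

theorem sixteen : (16 : F) ≠ 0 := by
  rw [show (16 : F) = 2 * 2 * 2 * 2 by norm_num]
  exact mul_ne_zero (mul_ne_zero (mul_ne_zero hF.aset.two hF.aset.two) hF.aset.two) hF.aset.two

/-- An element of the second or third type is not `1`. -/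
theorem ty_ne_one {E G : Fin 4 → Fin 4 → F} (hE : IsOrth B₂ E) (hG : IsOrth B₂ G) {σ τ : Fin 4 → Bool}
    (h : ty σ τ = 2 ∨ ty σ τ = 3) : hF.pd E G σ τ ≠ 1 := fun h1 => by
  have h0 := (hF.trI_ty hE hG).1 h
  rw [h1, trI, mat_one, Matrix.trace_one, Fintype.card_prod, Fintype.card_fin] at h0
  exact hF.sixteen (by exact_mod_cast h0)

theorem pd_eq_one {E G : Fin 4 → Fin 4 → F} (hE : IsOrth B₂ E) (hG : IsOrth B₂ G) {σ τ : Fin 4 → Bool} :
    hF.pd E G σ τ = 1 ↔ ty σ τ = 0 := by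
  refine ⟨fun h => ?_, hF.ty_one hE hG⟩
  have hall : ∀ i j, xor (σ i) (τ j) = false := fun i j => by
    have h' := hF.pd_ten hE hG σ τ i j
    rw [h, mat_one, one_mulVec] at h'
    have hne : ten (E i) (G j) ≠ 0 := fun h => by
      rcases ten_eq_zero.1 h with h | h
      exacts [hF.ne0 (hE.1 i) h, hF.ne0 (hG.1 j) h]
    have h'' := smul_left_injective F hne ((one_smul F _).trans h')
    revert h''
    cases xor (σ i) (τ j)
    · exact fun _ => rfl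
    · intro h''; simp [sg] at h''; exact absurd (show (2 : F) = 0 by linear_combination h'') hF.aset.two
  exact forall_signs (fun σ τ => (∀ i j, xor (σ i) (τ j) = false) → ty σ τ = 0) (by decide) σ τ hall

theorem pd_eq_neg {E G : Fin 4 → Fin 4 → F} (hE : IsOrth B₂ E) (hG : IsOrth B₂ G) {σ τ : Fin 4 → Bool} :
    (∀ v, mat Q (hF.pd E G σ τ) *ᵥ v = -v) ↔ ty σ τ = 1 := by
  refine ⟨fun h => ?_, hF.ty_neg hE hG⟩
  have hall : ∀ i j, xor (σ i) (τ j) = true := fun i j => by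
    have h' := hF.pd_ten hE hG σ τ i j
    rw [h, ← neg_one_smul F] at h'
    have hne : ten (E i) (G j) ≠ 0 := fun h => by
      rcases ten_eq_zero.1 h with h | h
      exacts [hF.ne0 (hE.1 i) h, hF.ne0 (hG.1 j) h]
    have h'' := smul_left_injective F hne h'
    revert h''
    cases xor (σ i) (τ j)
    · intro h''; simp [sg] at h''; exact absurd (show (2 : F) = 0 by linear_combination -h'') hF.aset.two
    · exact fun _ => rfl
  exact forall_signs (fun σ τ => (∀ i j, xor (σ i) (τ j) = true) → ty σ τ = 1) (by decide) σ τ hall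

theorem X_facts {e f : Fin 4 → F} (he : B₂ e e ≠ 0) (hf : B₂ f f ≠ 0) :
    trI (hF.pr (hF.aset.rR e) (hF.aset.rR f)) = 4 ∧ hF.pr (hF.aset.rR e) (hF.aset.rR f) ≠ 1 ∧
      ¬ ∀ v, mat Q (hF.pr (hF.aset.rR e) (hF.aset.rR f)) *ᵥ v = -v := by
  obtain ⟨E, G, hE, hG, h0, h0', heq⟩ := hF.refl_pd he hf
  rw [heq]
  refine ⟨(hF.trI_ty hE hG).2.1 (by decide), fun h1 => ?_, fun h1 => ?_⟩
  · have h := hF.pd_ten hE hG tauA tauA 0 1
    rw [h1, mat_one, one_mulVec] at h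
    have hne : ten (E 0) (G 1) ≠ 0 := fun h => by
      rcases ten_eq_zero.1 h with h | h
      exacts [hF.ne0 (hE.1 0) h, hF.ne0 (hG.1 1) h]
    have h' := smul_left_injective F hne ((one_smul F _).trans h)
    simp [sg, tauA] at h'
    exact hF.aset.two (by linear_combination h')
  · have h := hF.pd_ten hE hG tauA tauA 0 0
    rw [h1, ← neg_one_smul F] at h
    have hne : ten (E 0) (G 0) ≠ 0 := fun h => by
      rcases ten_eq_zero.1 h with h | h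
      exacts [hF.ne0 (hE.1 0) h, hF.ne0 (hG.1 0) h]
    have h' := smul_left_injective F hne h
    simp [sg, tauA] at h'
    exact hF.aset.two (by linear_combination -h')

end Fl

namespace GCtx

variable {hF : Fl Q B₁ B₂ J} (hG : GCtx hF M) (hN : ¬ M ≤ hF.Nr)
include hG

theorem X_mem {e f : Fin 4 → F} (he : B₂ e e ≠ 0) (hf : B₂ f f ≠ 0) :
    hF.pr (hF.aset.rR e) (hF.aset.rR f) ∈ M := by
  obtain ⟨E, G, hE, hE', -, -, h⟩ := hF.refl_pd he hf
  rw [h]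
  exact hG.pd_mem hE hE' (by decide)

include hN

/-- An involution of character four is a pair of reflections. -/
theorem X_of_invol {g : Isom Q} (hg : g ∈ M) (hgN : g ∈ hF.Nr) (hg2 : g * g = 1) (htr : trI g = 4)
    (h1 : g ≠ 1) (hneg : ¬ ∀ v, mat Q g *ᵥ v = -v) :
    ∃ a b, B₂ a a ≠ 0 ∧ B₂ b b ≠ 0 ∧ g = hF.pr (hF.aset.rR a) (hF.aset.rR b) := by
  have h4 : (4 : F) ≠ 0 := by rw [show (4 : F) = 2 * 2 by norm_num]; exact mul_ne_zero hF.aset.two hF.aset.two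
  obtain ⟨E, G, σ, τ, hE, hE', rfl⟩ := hG.invol_pd hg hgN hg2 (htr ▸ h4)
  obtain ⟨t1, t4, t5⟩ := hF.trI_ty hE hE' (σ := σ) (τ := τ)
  have h4' : ty σ τ = 4 := by
    have h6 := hG.ty_ne hN hE hE' hg
    have hlt := ty_lt σ τ
    generalize hn : ty σ τ = n at t1 t4 t5 h6 hlt
    interval_cases n
    · exact absurd (hF.ty_one hE hE' hn) h1
    · exact absurd (hF.ty_neg hE hE' hn) hneg
    · exact absurd ((t1 (Or.inl rfl)).symm.trans htr) h4.symm
    · exact absurd ((t1 (Or.inr rfl)).symm.trans htr) h4.symm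
    · rfl
    · have h8 := (t5 rfl).symm.trans htr
      exact absurd ((mul_eq_zero.1 (show (2 : F) * (4 : F) = 0 by linear_combination -h8)).resolve_left
        hF.aset.two) h4
    · exact absurd rfl h6
  obtain ⟨i, j, h⟩ := forall_signs (fun σ τ => ty σ τ = 4 → ∃ i j : Fin 4,
    (σ = (fun k => decide (k = i)) ∧ τ = fun k => decide (k = j)) ∨
    (σ = (fun k => !decide (k = i)) ∧ τ = fun k => !decide (k = j))) (by decide) σ τ h4'
  refine ⟨E i, G j, hE.1 i, hE'.1 j, ?_⟩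
  rcases h with ⟨rfl, rfl⟩ | ⟨rfl, rfl⟩
  · rw [Fl.pd, hF.dg_single hE, hF.dg_single hE']
  · rw [hF.pd_not hE hE', Fl.pd, hF.dg_single hE, hF.dg_single hE']

/-- The conjugate of a pair of reflections. -/
theorem X_conj {y : Isom Q} (hy : y ∈ M) {e f : Fin 4 → F} (he : B₂ e e ≠ 0) (hf : B₂ f f ≠ 0)
    (hn : y * hF.pr (hF.aset.rR e) (hF.aset.rR f) * y⁻¹ ∈ hF.Nr) :
    ∃ a b, B₂ a a ≠ 0 ∧ B₂ b b ≠ 0 ∧
      y * hF.pr (hF.aset.rR e) (hF.aset.rR f) * y⁻¹ = hF.pr (hF.aset.rR a) (hF.aset.rR b) := by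
  obtain ⟨htr, h1, hneg⟩ := hF.X_facts he hf
  set z := hF.pr (hF.aset.rR e) (hF.aset.rR f)
  refine hG.X_of_invol hN (M.mul_mem (M.mul_mem hy (hG.X_mem he hf)) (M.inv_mem hy)) hn ?_
    (by rw [trI_conj, htr]) (fun h => h1 (conj_eq_one_iff.1 h)) fun h => hneg fun v => ?_
  · rw [show y * z * y⁻¹ * (y * z * y⁻¹) = y * (z * z) * y⁻¹ by group, hF.refl_sq2, mul_one, mul_inv_cancel]
  · have h' := h (mat Q y *ᵥ v)
    rw [Fl.mul_vec, Fl.mul_vec, mulVec_cancel, ← mulVec_neg] at h'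
    exact CfsgLib.TensorOrth.mulVec_injective y h'

/-- An element conjugating two reflections of each factor to two of the second factor. -/
theorem qd_core (hP : PlaneThree hF) {E G G' : Fin 4 → Fin 4 → F} (hE : IsOrth B₂ E) (hE' : IsOrth B₂ G)
    (hG' : IsOrth B₂ G') {τ : Fin 4 → Bool} (hτ : wt τ = 2)
    (hel : ¬ IsSquare (-(B₂ (E 0) (E 0) * B₂ (E 1) (E 1)))) {y : Isom Q} (hy : y ∈ M)
    (hS : y * hF.pd E G tauP tauP * y⁻¹ = hF.aset.kR (hF.dg G' τ)) : y ∈ hF.Nr := by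
  by_contra hyN
  have hs := hF.aset
  set T := hF.dg G' τ with hT
  set q := hF.pd E G tauP tauP with hq
  set e2 := E 0 + E 1
  have hq0 : B₂ (E 0) (E 0) + B₂ (E 1) (E 1) ≠ 0 := fun h0 => hel ⟨B₂ (E 0) (E 0), by
    linear_combination (-(B₂ (E 0) (E 0))) * h0⟩
  have h22 : B₂ e2 e2 ≠ 0 := by simpa [e2, hE.2 0 1, hE.2 1 0] using hq0
  have hTpr : hF.aset.kR T = hF.pr 1 T := hF.kR_eq_pr T
  have hTone : OneSide (hF.aset.kR T) := by
    have h := hF.oneSide_ty (σ := fun _ => false) (τ := τ) hE hG'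
      (forall_bool4 (fun τ => wt τ = 2 → ty (fun _ => false) τ = 2) (by decide) τ hτ)
    rw [Fl.pd, hF.dg_false hE, ← hF.kR_eq_pr] at h
    exact h
  -- elements commuting with the pair
  have comm : ∀ {e f : Fin 4 → F}, B₂ e e ≠ 0 → B₂ f f ≠ 0 → (∀ i : Fin 4, 2 ≤ (i : ℕ) → B₂ (E i) e = 0) →
      (∀ i : Fin 4, 2 ≤ (i : ℕ) → B₂ (G i) f = 0) →
      q * hF.pr (hs.rR e) (hs.rR f) = hF.pr (hs.rR e) (hs.rR f) * q := by
    intro e f he hf hEe hGf
    rw [hq, Fl.pd, hF.pr_mul, hF.pr_mul,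
      ← hF.comm_tauP hE (T := hs.rR e) (hs.rR_fix he (hEe 2 le_rfl)) (hs.rR_fix he (hEe 3 (by decide))),
      ← hF.comm_tauP hE' (T := hs.rR f) (hs.rR_fix hf (hGf 2 le_rfl)) (hs.rR_fix hf (hGf 3 (by decide)))]
  have image : ∀ {e f : Fin 4 → F}, B₂ e e ≠ 0 → B₂ f f ≠ 0 → (∀ i : Fin 4, 2 ≤ (i : ℕ) → B₂ (E i) e = 0) →
      (∀ i : Fin 4, 2 ≤ (i : ℕ) → B₂ (G i) f = 0) → ∃ a b, B₂ a a ≠ 0 ∧ B₂ b b ≠ 0 ∧
      y * hF.pr (hs.rR e) (hs.rR f) * y⁻¹ = hF.pr (hs.rR a) (hs.rR b) ∧ T * hs.rR b = hs.rR b * T := by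
    intro e f he hf hEe hGf
    set z := hF.pr (hs.rR e) (hs.rR f)
    have hc : y * z * y⁻¹ * hs.kR T = hs.kR T * (y * z * y⁻¹) := by
      have hzq : q * z = z * q := comm he hf hEe hGf
      rw [← hS, show y * z * y⁻¹ * (y * q * y⁻¹) = y * (z * q) * y⁻¹ by group, ← hzq]
      group
    obtain ⟨a, b, ha, hb, h⟩ := hG.X_conj hN hy he hf
      (hG.good_sR hP hG' hτ (M.mul_mem (M.mul_mem hy (hG.X_mem he hf)) (M.inv_mem hy)) hc)
    refine ⟨a, b, ha, hb, h, ?_⟩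
    rw [h, hTpr, hF.pr_mul, hF.pr_mul, one_mul, mul_one] at hc
    obtain ⟨c, -, hU, hV⟩ := hF.pr_inj hc
    have hc1 : c = 1 := (smul_left_injective F (act_ne (hs.rR a) (hF.ne0 ha))
      ((one_smul F _).trans (hU a))).symm
    exact hs.isoG_ext fun x => by have := hV x; rw [hc1, one_smul] at this; exact this
  have two : ∀ i : Fin 4, 2 ≤ (i : ℕ) → i ≠ 0 ∧ i ≠ 1 := by decide
  obtain ⟨a0, b0, ha0, hb0, h0, -⟩ := image (hE.1 0) (hE'.1 0) (fun i hi => hE.2 i 0 (two i hi).1)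
    fun i hi => hE'.2 i 0 (two i hi).1
  obtain ⟨a1, b1, ha1, hb1, h1, -⟩ := image (hE.1 1) (hE'.1 0) (fun i hi => hE.2 i 1 (two i hi).2)
    fun i hi => hE'.2 i 0 (two i hi).1
  obtain ⟨a', b', ha', hb', h', -⟩ := image (hE.1 1) (hE'.1 1) (fun i hi => hE.2 i 1 (two i hi).2)
    fun i hi => hE'.2 i 1 (two i hi).2
  obtain ⟨a2, b2, ha2, hb2, h2, hT2⟩ := image (e := e2) h22 (hE'.1 0)
    (fun i hi => by simp [e2, hE.2 i 0 (two i hi).1, hE.2 i 1 (two i hi).2]) fun i hi => hE'.2 i 0 (two i hi).1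
  have mul3 : ∀ g h : Isom Q, y * g * y⁻¹ * (y * h * y⁻¹) = y * (g * h) * y⁻¹ := fun g h => by group
  have rr : ∀ {H : Fin 4 → Fin 4 → F}, IsOrth B₂ H →
      hs.rR (H 0) * hs.rR (H 1) = hs.rR (H 1) * hs.rR (H 0) := fun {H} hH => by
    rw [← hF.dg_single hH 0, ← hF.dg_single hH 1, hF.dg_mul hH, hF.dg_mul hH]
    simp only [Bool.xor_comm]
  -- two images whose product is conjugate to a reflection pair of one factor
  have share : ∀ {σ ρ : Fin 4 → Bool} {a b c d : Fin 4 → F}, B₂ a a ≠ 0 → B₂ b b ≠ 0 → B₂ c c ≠ 0 →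
      B₂ d d ≠ 0 → ty σ ρ = 2 →
      y * hF.pd E G σ ρ * y⁻¹ = hF.pr (hs.rR a) (hs.rR b) * hF.pr (hs.rR c) (hs.rR d) →
      hF.pr (hs.rR a) (hs.rR b) * hF.pr (hs.rR c) (hs.rR d) =
        hF.pr (hs.rR c) (hs.rR d) * hF.pr (hs.rR a) (hs.rR b) → B₂ a c = 0 ∧ B₂ b d = 0 := by
    intro σ ρ a b c d ha hb hc hd hty heq hcm
    obtain ⟨hac, hbd⟩ := hF.refl_comm ha hb hc hd hcm
    rw [hF.pr_mul] at heq
    rcases hac with hac | hac <;> rcases hbd with hbd | hbd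
    · exact ⟨hac, hbd⟩
    · obtain ⟨H, hH, rfl, rfl⟩ := hF.exists_frame2 ha hc hac
      refine absurd (hG.fuse_S hP hE hE' hH hH hty (σ' := tauP) (τ' := fun _ => false) (by decide) hy ?_) hyN
      rw [heq, Fl.pd, hF.dg_tauP, hF.dg_false hH, hbd, hs.rR_sq]
    · obtain ⟨H, hH, rfl, rfl⟩ := hF.exists_frame2 hb hd hbd
      refine absurd (hG.fuse_S hP hE hE' hH hH hty (σ' := fun _ => false) (τ' := tauP) (by decide) hy ?_) hyN
      rw [heq, Fl.pd, hF.dg_tauP, hF.dg_false hH, hac, hs.rR_sq]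
    · rw [hac, hbd, hs.rR_sq, hs.rR_sq, hF.pr_one, conj_eq_one_iff] at heq
      exact absurd heq (hF.ty_ne_one hE hE' (Or.inl hty))
  have ex : ∀ {e f e' f' : Fin 4 → F}, hs.rR e * hs.rR e' = hs.rR e' * hs.rR e →
      hs.rR f * hs.rR f' = hs.rR f' * hs.rR f →
      hF.pr (hs.rR e) (hs.rR f) * hF.pr (hs.rR e') (hs.rR f') =
        hF.pr (hs.rR e') (hs.rR f') * hF.pr (hs.rR e) (hs.rR f) := fun h h' => by
    rw [hF.pr_mul, hF.pr_mul, h, h']
  obtain ⟨haa, hbb⟩ := share ha0 hb0 ha1 hb1 (σ := tauP) (ρ := fun _ => false) (by decide)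
    (by rw [← h0, ← h1, mul3, Fl.pd, hF.dg_tauP, hF.dg_false hE', hF.pr_mul, hs.rR_sq])
    (by rw [← h0, ← h1, mul3, mul3, ex (rr hE) rfl])
  obtain ⟨-, hbb'⟩ := share ha1 hb1 ha' hb' (σ := fun _ => false) (ρ := tauP) (by decide)
    (by rw [← h1, ← h', mul3, Fl.pd, hF.dg_tauP, hF.dg_false hE, hF.pr_mul, hs.rR_sq])
    (by rw [← h1, ← h', mul3, mul3, ex rfl (rr hE')])
  have hqe : hF.pr (hs.rR a0) (hs.rR b0) * hF.pr (hs.rR a') (hs.rR b') = hs.kR T := by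
    rw [← h0, ← h', mul3, hF.pr_mul, ← hF.dg_tauP, ← hF.dg_tauP]
    exact hS
  obtain ⟨haa', hbb0⟩ := hF.refl_comm ha0 hb0 ha' hb'
    (by rw [← h0, ← h', mul3, mul3, ex (rr hE) (rr hE')])
  rw [hF.pr_mul] at hqe
  -- the pair is made of the second lines
  have hTb : act T b0 = -b0 ∧ act T b1 = b1 := by
    rcases haa' with haa' | haa' <;> rcases hbb0 with hbb0 | hbb0
    · obtain ⟨H, hH, rfl, rfl⟩ := hF.exists_frame2 ha0 ha' haa'
      obtain ⟨K, hK, rfl, rfl⟩ := hF.exists_frame2 hb0 hb' hbb0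
      rw [← hF.dg_tauP, ← hF.dg_tauP] at hqe
      exact absurd (by rw [Fl.pd, hqe]; exact hTone) (hF.not_oneSide hH hK (σ := tauP) (τ := tauP) (by decide))
    · exfalso
      rw [hbb0, hs.rR_sq, hTpr] at hqe
      obtain ⟨H, hH, rfl, rfl⟩ := hF.exists_frame2 ha0 ha' haa'
      obtain ⟨c, -, hU, -⟩ := hF.pr_inj hqe
      have e0 := hU (H 0)
      have e2' := hU (H 2)
      rw [← hF.dg_tauP, act_one, hF.dg_apply hH] at e0 e2'
      simp [sg, tauP] at e0 e2'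
      rw [← neg_smul] at e0
      have c0 := smul_left_injective F (hF.ne0 (hH.1 0)) ((one_smul F (H 0)).trans e0)
      have c2 := smul_left_injective F (hF.ne0 (hH.1 2)) ((one_smul F (H 2)).trans e2')
      exact hs.two (by linear_combination c0 + c2)
    · rw [haa', hs.rR_sq, hTpr] at hqe
      obtain ⟨c, -, hU, hV⟩ := hF.pr_inj hqe
      have hc1 : c = 1 := by
        have h := hU a0
        rw [act_one] at h
        exact (smul_left_injective F (hF.ne0 ha0) ((one_smul F a0).trans h)).symm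
      constructor
      · rw [hV, hc1, one_smul, act_mul, show act (hs.rR b') b0 = b0 from hs.rR_fix hb' hbb0,
          show act (hs.rR b0) b0 = -b0 from hs.rR_self hb0]
      · rw [hV, hc1, one_smul, act_mul, show act (hs.rR b') b1 = b1 from hs.rR_fix hb' hbb',
          show act (hs.rR b0) b1 = b1 from hs.rR_fix hb0 (by rw [hs.symm₂]; exact hbb)]
    · rw [haa', hbb0, hs.rR_sq, hs.rR_sq, hF.pr_one] at hqe
      rw [← hS, eq_comm, conj_eq_one_iff] at hqe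
      exact absurd hqe (hF.ty_ne_one hE hE' (Or.inr (by decide)))
  obtain ⟨r, hr⟩ := hF.line_of_comm hb2 hT2
  have hTiso : ∀ x, B₂ (act T b2) (act T x) = B₂ b2 x := fun x => act_iso T b2 x
  have hr2 : r * r = 1 := by
    have h := hTiso b2
    rw [hr, map_smul, map_smul, LinearMap.smul_apply, smul_smul, smul_eq_mul] at h
    exact mul_right_cancel₀ hb2 (by rw [h, one_mul])
  have h2' : (2 : F) ≠ 0 := hs.two
  rcases mul_self_eq_one_iff.1 hr2 with rfl | rfl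
  · have h := hTiso b0
    rw [hr, hTb.1, one_smul, map_neg] at h
    refine hF.base_contra (hE.1 0) (hE.1 1) (hE.2 0 1 (by decide)) hq0 ha0 hb0 hb1 hb2 hbb ?_ h0 h1 h2
    exact (mul_eq_zero.1 (show (2 : F) * B₂ b2 b0 = 0 by linear_combination -h)).resolve_left h2'
  · have h := hTiso b1
    rw [hr, hTb.2, neg_one_smul, map_neg, LinearMap.neg_apply] at h
    refine hF.base_contra (hE.1 1) (hE.1 0) (hE.2 1 0 (by decide)) (by rwa [add_comm]) ha1 hb1 hb0 hb2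
      (by rw [hs.symm₂]; exact hbb) ?_ h1 h0 (by rw [add_comm]; exact h2)
    exact (mul_eq_zero.1 (show (2 : F) * B₂ b2 b1 = 0 by linear_combination -h)).resolve_left h2'

omit hN in
theorem exists_elliptic {E G : Fin 4 → Fin 4 → F} (hE : IsOrth B₂ E) (hE' : IsOrth B₂ G) :
    ∃ E' G', IsOrth B₂ E' ∧ IsOrth B₂ G' ∧ hF.pd E' G' tauP tauP = hF.pd E G tauP tauP ∧
      ¬ IsSquare (-(B₂ (E' 0) (E' 0) * B₂ (E' 1) (E' 1))) := by
  by_cases hsq : IsSquare (-(B₂ (E 0) (E 0) * B₂ (E 1) (E 1)))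
  swap
  · exact ⟨E, G, hE, hE', rfl, hsq⟩
  set π : Equiv.Perm (Fin 4) := (Equiv.swap 0 2).trans (Equiv.swap 1 3)
  refine ⟨fun i => E (π i), fun i => G (π i), hF.isOrth_perm hE π, hF.isOrth_perm hE' π, ?_, ?_⟩
  · have e : (fun i => tauQ (π i)) = tauP := funext fun i => by fin_cases i <;> rfl
    rw [Fl.pd, ← e, hF.dg_perm hE, hF.dg_perm hE', ← Fl.pd, ← hF.pd_not hE hE', e]
    congr 1 <;> funext i <;> fin_cases i <;> rfl
  · show ¬ IsSquare (-(B₂ (E 2) (E 2) * B₂ (E 3) (E 3)))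
    have hns := hF.frame_nonsq (hG.plane rfl) hE
    have hne : ∀ i j, -(B₂ (E i) (E i) * B₂ (E j) (E j)) ≠ 0 := fun i j =>
      neg_ne_zero.2 (mul_ne_zero (hE.1 i) (hE.1 j))
    rw [← neg_mul_neg (B₂ (E 0) (E 0) * B₂ (E 1) (E 1)), hF.sq_mul_iff (hne 0 1) (hne 2 3)] at hns
    tauto

/-- Two reflections of each factor are not conjugate to two of one factor. -/
theorem qd_conj_S (hP : PlaneThree hF) {E G E' G' : Fin 4 → Fin 4 → F} (hE : IsOrth B₂ E) (hE' : IsOrth B₂ G)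
    (hE₂ : IsOrth B₂ E') (hE₂' : IsOrth B₂ G') {σ τ σ' τ' : Fin 4 → Bool} (h3 : ty σ τ = 3)
    (h2 : ty σ' τ' = 2) {y : Isom Q} (hy : y ∈ M)
    (hc : y * hF.pd E G σ τ * y⁻¹ = hF.pd E' G' σ' τ') : False := by
  suffices hyN : y ∈ hF.Nr by
    have h := hF.oneSide_conj (hF.Nr.inv_mem hyN) (hF.oneSide_ty hE₂ hE₂' h2)
    rw [← hc, show y⁻¹ * (y * hF.pd E G σ τ * y⁻¹) * y⁻¹⁻¹ = hF.pd E G σ τ by group] at h
    exact hF.not_oneSide hE hE' h3 h
  -- two reflections of the second factor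
  have right : ∀ {M : Subgroup (Isom Q)}, GCtx hF M → ¬ M ≤ hF.Nr → ∀ {y : Isom Q}, y ∈ M →
      ∀ {E G G' : Fin 4 → Fin 4 → F}, IsOrth B₂ E → IsOrth B₂ G → IsOrth B₂ G' →
      ∀ {σ τ τ' : Fin 4 → Bool}, wt σ = 2 → wt τ = 2 → wt τ' = 2 →
      y * hF.pd E G σ τ * y⁻¹ = hF.aset.kR (hF.dg G' τ') → y ∈ hF.Nr := by
    intro M hG hN y hy E G G' hE hE' hG' σ τ τ' hσ hτ hτ' hc
    obtain ⟨π, hπ⟩ := exists_perm_wt2 σ hσ
    obtain ⟨π', hπ'⟩ := exists_perm_wt2 τ hτ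
    obtain ⟨E₂, G₂, hE₂, hG₂, heq, hel⟩ :=
      hG.exists_elliptic (hF.isOrth_perm hE π) (hF.isOrth_perm hE' π')
    refine hG.qd_core hN hP hE₂ hG₂ hG' hτ' hel hy ?_
    rw [heq, Fl.pd]
    rw [Fl.pd, ← hF.dg_perm hE π σ, ← hF.dg_perm hE' π' τ, hπ, hπ'] at hc
    exact hc
  have hw := forall_signs (fun σ τ => ty σ τ = 3 → wt σ = 2 ∧ wt τ = 2) (by decide) σ τ h3
  have hnot : ∀ τ : Fin 4 → Bool, wt τ = 2 → wt (fun i => !τ i) = 2 := forall_bool4 _ (by decide)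
  have e := forall_signs (fun σ τ => ty σ τ = 2 → (σ = (fun _ => false) ∧ wt τ = 2) ∨
    (σ = (fun _ => true) ∧ wt τ = 2) ∨ (τ = (fun _ => false) ∧ wt σ = 2) ∨ (τ = (fun _ => true) ∧ wt σ = 2))
    (by decide) σ' τ' h2
  have hflip : ¬ M.comap (MulAut.conj J).toMonoidHom ≤ hF.Nr := fun h =>
    hN fun g hg => hF.conj_nr.1 (h (hG.flip_mem hg))
  have hinv : (J * y * J)⁻¹ = J * y⁻¹ * J := by
    rw [_root_.mul_inv_rev, _root_.mul_inv_rev, hF.J_inv, mul_assoc]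
  rcases e with ⟨rfl, hw'⟩ | ⟨rfl, hw'⟩ | ⟨rfl, hw'⟩ | ⟨rfl, hw'⟩
  · rw [show hF.pd E' G' (fun _ => false) τ' = hF.pr (hF.dg E' fun _ => false) (hF.dg G' τ') from rfl,
      hF.dg_false hE₂, ← hF.kR_eq_pr] at hc
    exact right hG hN hy hE hE' hE₂' hw.1 hw.2 hw' hc
  · rw [← hF.pd_not hE₂ hE₂'] at hc
    simp only [Bool.not_true] at hc
    rw [show hF.pd E' G' (fun _ => false) (fun i => !τ' i) =
      hF.pr (hF.dg E' fun _ => false) (hF.dg G' fun i => !τ' i) from rfl, hF.dg_false hE₂, ← hF.kR_eq_pr] at hc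
    exact right hG hN hy hE hE' hE₂' hw.1 hw.2 (hnot _ hw') hc
  · refine hF.conj_nr.1 (right hG.flip hflip (hG.flip_mem hy) hE' hE hE₂ hw.2 hw.1 hw' ?_)
    rw [← hF.conj_pd, hinv, hF.conj_mul, hF.conj_mul, hc, hF.conj_pd, Fl.pd, hF.dg_false hE₂', hF.kR_eq_pr]
  · rw [← hF.pd_not hE₂ hE₂'] at hc
    simp only [Bool.not_true] at hc
    refine hF.conj_nr.1 (right hG.flip hflip (hG.flip_mem hy) hE' hE hE₂ hw.2 hw.1 (hnot _ hw') ?_)
    rw [← hF.conj_pd, hinv, hF.conj_mul, hF.conj_mul, hc, hF.conj_pd, Fl.pd, hF.dg_false hE₂', hF.kR_eq_pr]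

/-- Conjugate signed elements have the same type. -/
theorem ty_conj (hP : PlaneThree hF) {E G E' G' : Fin 4 → Fin 4 → F} (hE : IsOrth B₂ E) (hE' : IsOrth B₂ G)
    (hE₂ : IsOrth B₂ E') (hE₂' : IsOrth B₂ G') {σ τ σ' τ' : Fin 4 → Bool} (h6 : ty σ τ ≠ 6)
    {y : Isom Q} (hy : y ∈ M) (hc : y * hF.pd E G σ τ * y⁻¹ = hF.pd E' G' σ' τ') : ty σ' τ' = ty σ τ := by
  have hgm := hG.pd_mem hE hE' h6
  have h6' := hG.ty_ne hN hE₂ hE₂' (hc ▸ M.mul_mem (M.mul_mem hy hgm) (M.inv_mem hy))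
  have hc' : y⁻¹ * hF.pd E' G' σ' τ' * y⁻¹⁻¹ = hF.pd E G σ τ := by rw [← hc]; group
  have htr : trI (hF.pd E' G' σ' τ') = trI (hF.pd E G σ τ) := by rw [← hc, trI_conj]
  have hone : ty σ τ = 0 ↔ ty σ' τ' = 0 := by
    rw [← hF.pd_eq_one hE hE', ← hF.pd_eq_one hE₂ hE₂', ← hc, conj_eq_one_iff]
  have hneg : ty σ τ = 1 ↔ ty σ' τ' = 1 := by
    rw [← hF.pd_eq_neg hE hE', ← hF.pd_eq_neg hE₂ hE₂', ← hc]
    constructor
    · intro h v
      rw [Fl.mul_vec, Fl.mul_vec, h, mulVec_neg, mulVec_cancel']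
    · intro h v
      have h' := h (mat Q y *ᵥ v)
      rw [Fl.mul_vec, Fl.mul_vec, mulVec_cancel, ← mulVec_neg] at h'
      exact CfsgLib.TensorOrth.mulVec_injective y h'
  obtain ⟨t1, t4, t5⟩ := hF.trI_ty hE hE' (σ := σ) (τ := τ)
  obtain ⟨t1', t4', t5'⟩ := hF.trI_ty hE₂ hE₂' (σ := σ') (τ := τ')
  have h4 : (4 : F) ≠ 0 := by rw [show (4 : F) = 2 * 2 by norm_num]; exact mul_ne_zero hF.aset.two hF.aset.two
  have h44 : (4 : F) ≠ -4 := fun h => mul_ne_zero hF.aset.two h4 (by linear_combination h)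
  have h23 : ¬ (ty σ τ = 3 ∧ ty σ' τ' = 2) := fun h => hG.qd_conj_S hN hP hE hE' hE₂ hE₂' h.1 h.2 hy hc
  have h32 : ¬ (ty σ τ = 2 ∧ ty σ' τ' = 3) := fun h =>
    hG.qd_conj_S hN hP hE₂ hE₂' hE hE' h.2 h.1 (M.inv_mem hy) hc'
  have hlt := ty_lt σ τ
  have hlt' := ty_lt σ' τ'
  generalize ty σ τ = n at *
  generalize ty σ' τ' = n' at *
  interval_cases n <;> interval_cases n' <;>
    first
      | rfl
      | omega
      | exact absurd ((t1' (by omega)).symm.trans (htr.trans (t4 rfl))) h4.symm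
      | exact absurd ((t1' (by omega)).symm.trans (htr.trans (t5 rfl))) (neg_ne_zero.2 h4).symm
      | exact absurd ((t4' rfl).symm.trans (htr.trans (t1 (by omega)))) h4
      | exact absurd ((t5' rfl).symm.trans (htr.trans (t1 (by omega)))) (neg_ne_zero.2 h4)
      | exact absurd ((t4' rfl).symm.trans (htr.trans (t5 rfl))) h44
      | exact absurd ((t5' rfl).symm.trans (htr.trans (t4 rfl))) h44.symm

end GCtx

end CfsgLib.TWGap
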