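import Cfsg.Agent.TensorWreathOrth.Gap.Four.Conj

/-!
# Two factors of dimension four: commuting involutions and rotations of planes
-/

set_option autoImplicit false
set_option linter.unusedSectionVars false

namespace CfsgLib.TWGap

open Matrix Module CfsgLib.Spinor CfsgLib.OrthMax CfsgLib.TensorOrth
open CfsgLib.TensorMax (Idx ten ten_add_left ten_add_right ten_smul_left ten_smul_right ten_eq_zero
  ten_inj_left ten_inj_right)
open CfsgLib.TensorSlice (ASet IsOrth)

/-- Two involutions that are not conjugate commute with an involution placed between them. -/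
theorem dihedral_split {G : Type*} [Group G] [Finite G] (C : Subgroup G) {a t : G} (ha : a ∈ C) (ht : t ∈ C)
    (ha2 : a * a = 1) (ht2 : t * t = 1) (hn : ∀ g ∈ C, g * a * g⁻¹ ≠ t) :
    ∃ d ∈ C, d * d = 1 ∧ d ≠ 1 ∧ d * a = a * d ∧ d * t = t * d ∧
      ∃ g ∈ C, (g * a * g⁻¹ = a * d ∧ g * t * g⁻¹ = t * d) ∨ g * t * g⁻¹ = a * d := by
  set r := a * t with hr
  have hai : a⁻¹ = a := inv_eq_of_mul_eq_one_right ha2
  have hrC : r ∈ C := C.mul_mem ha ht
  have hta : r⁻¹ = t * a := by rw [hr, _root_.mul_inv_rev, inv_eq_of_mul_eq_one_right ht2, hai]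
  have hrel : a * r * a = r⁻¹ := by rw [hta, hr, ← mul_assoc, ha2, one_mul]
  have hz : ∀ k : ℤ, a * r ^ k = r ^ (-k) * a := fun k => by
    have h : (a * r * a⁻¹) ^ k = a * r ^ k * a⁻¹ := conj_zpow
    rw [hai, hrel, _root_.inv_zpow, ← _root_.zpow_neg] at h
    rw [h, mul_assoc, ha2, mul_one]
  have hconj : ∀ k j : ℤ, r ^ k * (a * r ^ j) * (r ^ k)⁻¹ = a * r ^ (j - 2 * k) := fun k j => by
    rw [← mul_assoc, show r ^ k * a = a * r ^ (-k) by rw [hz, neg_neg], mul_assoc a, mul_assoc a,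
      ← _root_.zpow_neg, ← _root_.zpow_add, ← _root_.zpow_add]
    congr 2
    omega
  have ht' : t = a * r ^ (1 : ℤ) := by rw [_root_.zpow_one, hr, ← mul_assoc, ha2, one_mul]
  have h0 : a = a * r ^ (0 : ℤ) := by rw [_root_.zpow_zero, mul_one]
  set n := orderOf r with hnr
  have hnpos : 0 < n := orderOf_pos r
  rcases Nat.even_or_odd n with ⟨m, hm⟩ | ⟨m, hm⟩
  swap
  · refine absurd ?_ (hn (r ^ (m : ℤ)) (zpow_mem hrC _))
    have h := hconj m 0
    rw [← h0] at h
    rw [h, ht']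
    congr 1
    rw [zpow_eq_zpow_iff_modEq, ← hnr, Int.modEq_iff_dvd]
    exact ⟨1, by omega⟩
  set d := r ^ (m : ℤ) with hd
  have hdd : d * d = 1 := by
    rw [hd, ← _root_.zpow_add, show ((m : ℤ) + m) = ((n : ℕ) : ℤ) by omega, zpow_natCast, hnr, pow_orderOf_eq_one]
  have hdi : d⁻¹ = d := inv_eq_of_mul_eq_one_right hdd
  have hda : d * a = a * d := by
    rw [hd, hz, _root_.zpow_neg, ← hd, hdi]
  have hdt : d * t = t * d := by
    rw [ht', _root_.zpow_one, ← mul_assoc, hda, mul_assoc, mul_assoc, hd]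
    congr 1
    exact (Commute.zpow_left (Commute.refl r) _).eq
  refine ⟨d, zpow_mem hrC _, hdd, fun h1 => ?_, hda, hdt, ?_⟩
  · rw [hd, zpow_natCast, ← orderOf_dvd_iff_pow_eq_one, ← hnr] at h1
    exact absurd (Nat.le_of_dvd (by omega) h1) (by omega)
  rcases Nat.even_or_odd m with ⟨k, hk⟩ | ⟨k, hk⟩
  · refine ⟨r ^ (k : ℤ), zpow_mem hrC _, Or.inl ⟨?_, ?_⟩⟩
    · have h := hconj k 0
      rw [← h0] at h
      rw [h, hd]
      congr 1
      rw [zpow_eq_zpow_iff_modEq, ← hnr, Int.modEq_iff_dvd]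
      exact ⟨1, by omega⟩
    · rw [ht', hconj, hd, mul_assoc a, ← _root_.zpow_add]
      congr 1
      rw [zpow_eq_zpow_iff_modEq, ← hnr, Int.modEq_iff_dvd]
      exact ⟨1, by omega⟩
  · refine ⟨r ^ ((k : ℤ) + 1), zpow_mem hrC _, Or.inr ?_⟩
    rw [ht', hconj, hd]
    congr 1
    rw [zpow_eq_zpow_iff_modEq, ← hnr, Int.modEq_iff_dvd]
    exact ⟨1, by omega⟩

variable {F : Type*} [Field F] [Fintype F] {Q : QuadraticForm F (Idx 4 4 → F)}
  {B₁ B₂ : LinearMap.BilinForm F (Fin 4 → F)} {J : Isom Q} {M : Subgroup (Isom Q)}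

/-- The elements of `M` commuting with two given ones. -/
def cen2 (M : Subgroup (Isom Q)) (z z' : Isom Q) : Subgroup (Isom Q) :=
  M ⊓ Subgroup.centralizer {z, z'}

theorem mem_cen2 {z z' g : Isom Q} : g ∈ cen2 M z z' ↔ g ∈ M ∧ g * z = z * g ∧ g * z' = z' * g := by
  rw [cen2, Subgroup.mem_inf, Subgroup.mem_centralizer_iff]
  simp only [Set.mem_insert_iff, Set.mem_singleton_iff, forall_eq_or_imp, forall_eq]
  rw [eq_comm (a := z * g), eq_comm (a := z' * g)]

namespace Fl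

variable (hF : Fl Q B₁ B₂ J)
include hF

/-- The coordinates in a frame. -/
theorem expand {G : Fin 4 → Fin 4 → F} (hG : IsOrth B₂ G) (x : Fin 4 → F) :
    x = ∑ j, (B₂ x (G j) / B₂ (G j) (G j)) • G j := by
  refine sub_eq_zero.1 (hF.aset.tset.f₂.sep fun t => ?_)
  have hd : B₂ (x - ∑ j, (B₂ x (G j) / B₂ (G j) (G j)) • G j) = 0 := (hF.bas hG).ext fun i => by
    rw [hF.bas_apply, LinearMap.zero_apply, map_sub, LinearMap.sub_apply, map_sum, LinearMap.sum_apply,
      Finset.sum_eq_single i]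
    · rw [map_smul, LinearMap.smul_apply, smul_eq_mul, div_mul_cancel₀ _ (hG.1 i), sub_self]
    · intro j _ hji; simp [hG.2 j i hji]
    · simp
  rw [hd, LinearMap.zero_apply]

/-- An element of `Kr` commuting with a pair of reflections keeps both lines. -/
theorem kr_comm_X {g : Isom Q} (hg : g ∈ Kr Q) {e f : Fin 4 → F} (he : B₂ e e ≠ 0) (hf : B₂ f f ≠ 0)
    (h : g * hF.pr (hF.aset.rR e) (hF.aset.rR f) = hF.pr (hF.aset.rR e) (hF.aset.rR f) * g) :
    ∃ U V : isoG B₂, g = hF.pr U V ∧ act U e = e ∧ ∃ c : F, act V f = c • f := by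
  have hs := hF.aset
  obtain ⟨A, B, μ, hμ, hv, hA, hB⟩ := hF.kr_sim hg
  set a := (A : Matrix (Fin 4) (Fin 4) F) *ᵥ e with ha
  have he0 := hF.ne0 he
  have hf0 := hF.ne0 hf
  have Ainj : ∀ {x}, (A : Matrix (Fin 4) (Fin 4) F) *ᵥ x = 0 → x = 0 := fun {x} hx =>
    mulVec_injective_iff_isUnit.mpr A.isUnit (hx.trans (mulVec_zero _).symm)
  have Binj : ∀ {x}, (B : Matrix (Fin 4) (Fin 4) F) *ᵥ x = 0 → x = 0 := fun {x} hx =>
    mulVec_injective_iff_isUnit.mpr B.isUnit (hx.trans (mulVec_zero _).symm)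
  have ha0 : a ≠ 0 := fun h0 => he0 (Ainj h0)
  have haa : B₂ a a ≠ 0 := by rw [ha, hA]; exact mul_ne_zero (inv_ne_zero hμ) he
  have key : ∀ x w, ten ((A : Matrix (Fin 4) (Fin 4) F) *ᵥ act (hs.rR e) x)
      ((B : Matrix (Fin 4) (Fin 4) F) *ᵥ act (hs.rR f) w) =
      ten (act (hs.rR e) ((A : Matrix (Fin 4) (Fin 4) F) *ᵥ x))
        (act (hs.rR f) ((B : Matrix (Fin 4) (Fin 4) F) *ᵥ w)) := fun x w => by
    rw [← hv, ← hF.pr_ten (hs.rR e) (hs.rR f) x w, ← mul_vec, h, mul_vec, hv, hF.pr_ten]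
  have sf : act (hs.rR f) f = -f := hs.rR_self hf
  have se : act (hs.rR e) e = -e := hs.rR_self he
  have k0 := key e f
  rw [sf, se, mulVec_neg, mulVec_neg, ← neg_one_smul F, ← neg_one_smul F ((B : Matrix (Fin 4) (Fin 4) F) *ᵥ f),
    ten_smul_left, ten_smul_right, smul_smul, neg_one_mul, neg_neg, one_smul] at k0
  obtain ⟨c, hc0, hc, -⟩ := ten_prop ha0 (fun h0 => hf0 (Binj h0)) k0
  obtain ⟨r, hr⟩ : ∃ r : F, a = r • e := by
    rcases hF.refl_line he haa ⟨c, hc⟩ with hperp | heq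
    · exfalso
      have hfix : act (hs.rR e) a = a := hs.rR_fix he (by rw [hs.symm₂]; exact hperp)
      have hperp' : ∀ w, B₂ w f = 0 → ∃ s : F, (B : Matrix (Fin 4) (Fin 4) F) *ᵥ w = s • f := fun w hw => by
        have k1 := key e w
        rw [se, show act (hs.rR f) w = w from hs.rR_fix hf hw, mulVec_neg, ← ha, hfix, ← neg_one_smul F a,
          ten_smul_left, ← ten_smul_right] at k1
        have k2 := ten_inj_right ha0 k1
        rw [hF.refl_act hf] at k2
        refine ⟨B₂ ((B : Matrix (Fin 4) (Fin 4) F) *ᵥ w) f / B₂ f f, smul_right_injective _ hs.two ?_⟩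
        show (2 : F) • _ = (2 : F) • _
        rw [smul_smul, ← mul_div_assoc]
        linear_combination (norm := module) -k2
      obtain ⟨G, hG, hG0⟩ := hF.exists_frame1 hf
      obtain ⟨s, hs1⟩ := hperp' (G 1) (by rw [← hG0]; exact hG.2 1 0 (by decide))
      obtain ⟨s', hs2⟩ := hperp' (G 2) (by rw [← hG0]; exact hG.2 2 0 (by decide))
      have hs0 : s ≠ 0 := fun h0 => hF.ne0 (hG.1 1) (Binj (by rw [hs1, h0, zero_smul]))
      have : s' • G 1 - s • G 2 = 0 := Binj (by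
        rw [mulVec_sub, mulVec_smul, mulVec_smul, hs1, hs2, smul_smul, smul_smul, mul_comm, sub_self])
      have h' := congrArg (B₂ · (G 2)) this
      simp [hG.2 1 2, hG.1 2] at h'
      exact hs0 h'
    · exact ⟨_, hs.rR_eq haa he heq.symm.symm⟩
  obtain ⟨U, V, hg', hU⟩ := hF.exists_pr hg he fun w =>
    ⟨r • ((B : Matrix (Fin 4) (Fin 4) F) *ᵥ w), by rw [hv, ← ha, hr, ten_smul_left, ten_smul_right]⟩
  subst hg'
  exact ⟨U, V, rfl, hU, (hF.pr_comm_refl he hf h).2⟩

/-- The factors of an involution keeping a vector. -/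
theorem pr_sq {U V : isoG B₂} (h : hF.pr U V * hF.pr U V = 1) {e : Fin 4 → F} (he : B₂ e e ≠ 0)
    (hU : act U e = e) : U * U = 1 ∧ V * V = 1 := by
  rw [hF.pr_mul, ← hF.pr_one] at h
  obtain ⟨c, -, h1, h2⟩ := hF.pr_inj h
  have hc : c = 1 := by
    have h' := h1 e
    rw [act_one, act_mul, hU, hU] at h'
    exact (smul_left_injective F (hF.ne0 he) ((one_smul F e).trans h')).symm
  subst hc
  exact ⟨hF.aset.isoG_ext fun x => by have := h1 x; rw [one_smul] at this; exact this.symm,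
    hF.aset.isoG_ext fun x => by have := h2 x; rw [one_smul] at this; exact this.symm⟩

theorem refl_orth_comm {e e' : Fin 4 → F} (he : B₂ e e ≠ 0) (he' : B₂ e' e' ≠ 0) (h : B₂ e e' = 0) :
    hF.aset.rR e * hF.aset.rR e' = hF.aset.rR e' * hF.aset.rR e := by
  obtain ⟨H, hH, rfl, rfl⟩ := hF.exists_frame2 he he' h
  rw [← hF.dg_single hH 0, ← hF.dg_single hH 1, hF.dg_mul hH, hF.dg_mul hH]
  simp only [Bool.xor_comm]

/-- The product of two reflections of a hyperbolic plane has order dividing `q - 1`. -/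
theorem hyp_pow {E : Fin 4 → Fin 4 → F} (hE : IsOrth B₂ E)
    (hsq : IsSquare (-(B₂ (E 2) (E 2) * B₂ (E 3) (E 3)))) {u v : Fin 4 → F} (hu : B₂ u u ≠ 0) (hv : B₂ v v ≠ 0)
    (hu0 : B₂ u (E 0) = 0) (hu1 : B₂ u (E 1) = 0) (hv0 : B₂ v (E 0) = 0) (hv1 : B₂ v (E 1) = 0) :
    (hF.aset.rR u * hF.aset.rR v) ^ (Fintype.card F - 1) = 1 := by
  have hs := hF.aset
  have h2 := hs.two
  obtain ⟨ρ, hρ⟩ := hsq
  set a := B₂ (E 2) (E 2) with haE
  set b := B₂ (E 3) (E 3) with hbE
  have ha : a ≠ 0 := hE.1 2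
  have hb : b ≠ 0 := hE.1 3
  set α := ρ / a with hα
  have hαa : α * α * a + b = 0 := by rw [hα]; field_simp; linear_combination -hρ
  have hα0 : α ≠ 0 := fun h => hb (by rw [h, zero_mul, zero_mul, zero_add] at hαa; exact hαa)
  set c1 := α • E 2 + E 3 with hc1
  set c2 := -(α • E 2) + E 3 with hc2
  have step : ∀ u : Fin 4 → F, B₂ u u ≠ 0 → B₂ u (E 0) = 0 → B₂ u (E 1) = 0 →
      ∃ k : F, k ≠ 0 ∧ act (hs.rR u) c1 = k • c2 ∧ act (hs.rR u) c2 = k⁻¹ • c1 := by
    intro u hu hu0 hu1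
    have hx := hF.expand hE u
    rw [Fin.sum_univ_four, hu0, hu1] at hx
    simp only [zero_div, zero_smul, zero_add] at hx
    set p := B₂ u (E 2) / a
    set r := B₂ u (E 3) / b
    have hn : B₂ u u = a * ((p + α * r) * (p - α * r)) := by
      rw [hx]; simp [hE.2 2 3, hE.2 3 2]
      linear_combination r * r * hαa
    have hp : p + α * r ≠ 0 := fun h => hu (by rw [hn, h]; ring)
    have hm : p - α * r ≠ 0 := fun h => hu (by rw [hn, h]; ring)
    have hb' : b = -(α * α * a) := by linear_combination hαa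
    have i1 : B₂ c1 u = α * a * (p - α * r) := by
      rw [hc1, hx]; simp [hE.2 2 3, hE.2 3 2]
      linear_combination r * hαa
    have i2 : B₂ c2 u = -(α * a * (p + α * r)) := by
      rw [hc2, hx]; simp [hE.2 2 3, hE.2 3 2]
      linear_combination r * hαa
    refine ⟨(p - α * r) / (p + α * r), div_ne_zero hm hp, ?_, ?_⟩
    · rw [hF.refl_act hu, i1, hn, hx, hc1, hc2]
      match_scalars <;> field_simp <;> ring
    · rw [hF.refl_act hu, i2, hn, hx, hc1, hc2]
      match_scalars <;> field_simp <;> ring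
  obtain ⟨k, hk, k1, k2⟩ := step u hu hu0 hu1
  obtain ⟨l, hl, l1, l2⟩ := step v hv hv0 hv1
  set T := hs.rR u * hs.rR v
  have T1 : act T c1 = (l * k⁻¹) • c1 := by
    rw [act_mul, l1, act, mulVec_smul, ← act, k2, smul_smul]
  have T2 : act T c2 = (l⁻¹ * k) • c2 := by
    rw [act_mul, l2, act, mulVec_smul, ← act, k1, smul_smul]
  have T0 : ∀ i : Fin 4, i = 0 ∨ i = 1 → act T (E i) = E i := fun i hi => by
    have hu' : B₂ (E i) u = 0 := by rcases hi with rfl | rfl <;> rw [hs.symm₂] <;> assumption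
    have hv' : B₂ (E i) v = 0 := by rcases hi with rfl | rfl <;> rw [hs.symm₂] <;> assumption
    rw [act_mul, show act (hs.rR v) (E i) = E i from hs.rR_fix hv hv']
    exact hs.rR_fix hu hu'
  have pw : ∀ (n : ℕ) (x : Fin 4 → F) (m : F), act T x = m • x → act (T ^ n) x = m ^ n • x := fun n x m h => by
    induction n with
    | zero => rw [pow_zero, pow_zero, act_one, one_smul]
    | succ n ih => rw [pow_succ, act_mul, h, act, mulVec_smul, ← act, ih, smul_smul, ← pow_succ']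
  set N := Fintype.card F - 1
  have q1 : act (T ^ N) c1 = c1 := by
    rw [pw _ _ _ T1, FiniteField.pow_card_sub_one_eq_one _ (mul_ne_zero hl (inv_ne_zero hk)), one_smul]
  have q2 : act (T ^ N) c2 = c2 := by
    rw [pw _ _ _ T2, FiniteField.pow_card_sub_one_eq_one _ (mul_ne_zero (inv_ne_zero hl) hk), one_smul]
  refine hF.iso_ext hE fun i => ?_
  rw [act_one]
  have e3 : E 3 = (2 : F)⁻¹ • (c1 + c2) := by rw [hc1, hc2]; match_scalars <;> field_simp <;> ring
  have e2 : E 2 = (2 * α)⁻¹ • (c1 - c2) := by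
    rw [hc1, hc2]; match_scalars <;> field_simp <;> norm_num
  fin_cases i
  · have := pw N _ 1 (by rw [one_smul]; exact T0 0 (Or.inl rfl)); rwa [one_pow, one_smul] at this
  · have := pw N _ 1 (by rw [one_smul]; exact T0 1 (Or.inr rfl)); rwa [one_pow, one_smul] at this
  · show act (T ^ N) (E 2) = E 2
    rw [e2, act, mulVec_smul, mulVec_sub, ← act, ← act, q1, q2]
  · show act (T ^ N) (E 3) = E 3
    rw [e3, act, mulVec_smul, mulVec_add, ← act, ← act, q1, q2]

/-- An element commuting with a proper rotation of a plane commutes with its half turn. -/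
theorem comm_turn {G : Fin 4 → Fin 4 → F} (hG : IsOrth B₂ G) {W : isoG B₂} {s : F} (hs : s ≠ 2)
    (h0 : act W (G 0) = G 0) (h1 : act W (G 1) = G 1)
    (h2 : act W (G 2) + act W⁻¹ (G 2) = s • G 2) (h3 : act W (G 3) + act W⁻¹ (G 3) = s • G 3)
    {t : Isom Q} (ht : t * hF.aset.kR W = hF.aset.kR W * t) :
    t * hF.aset.kR (hF.dg G tauQ) = hF.aset.kR (hF.dg G tauQ) * t := by
  set c : F := -2 / (s - 2) with hc
  have hs' : s - 2 ≠ 0 := sub_ne_zero.2 hs
  have i0 : act W⁻¹ (G 0) = G 0 := by conv_lhs => rw [← h0, act_inv]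
  have i1 : act W⁻¹ (G 1) = G 1 := by conv_lhs => rw [← h1, act_inv]
  have hlin : ∀ x, act (hF.dg G tauQ) x = x + c • (act W x + act W⁻¹ x - (2 : F) • x) := by
    let L := (((hF.dg G tauQ).1 : GL (Fin 4) F) : Matrix (Fin 4) (Fin 4) F).mulVecLin
    let R : (Fin 4 → F) →ₗ[F] (Fin 4 → F) := LinearMap.id + c •
      (((W.1 : GL (Fin 4) F) : Matrix (Fin 4) (Fin 4) F).mulVecLin +
        (((W⁻¹).1 : GL (Fin 4) F) : Matrix (Fin 4) (Fin 4) F).mulVecLin - (2 : F) • LinearMap.id)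
    suffices h : L = R from fun x => LinearMap.congr_fun h x
    refine (hF.bas hG).ext fun i => ?_
    rw [hF.bas_apply]
    show act (hF.dg G tauQ) (G i) = G i + c • (act W (G i) + act W⁻¹ (G i) - (2 : F) • G i)
    rw [hF.dg_apply hG]
    fin_cases i
    · show (sg false : F) • G 0 = G 0 + c • (act W (G 0) + act W⁻¹ (G 0) - (2 : F) • G 0)
      rw [h0, i0]; simp [sg]; right; module
    · show (sg false : F) • G 1 = G 1 + c • (act W (G 1) + act W⁻¹ (G 1) - (2 : F) • G 1)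
      rw [h1, i1]; simp [sg]; right; module
    · show (sg true : F) • G 2 = G 2 + c • (act W (G 2) + act W⁻¹ (G 2) - (2 : F) • G 2)
      rw [h2, hc]; simp [sg]
      match_scalars; field_simp; ring
    · show (sg true : F) • G 3 = G 3 + c • (act W (G 3) + act W⁻¹ (G 3) - (2 : F) • G 3)
      rw [h3, hc]; simp [sg]
      match_scalars; field_simp; ring
  have hop : ∀ v, mat Q (hF.aset.kR (hF.dg G tauQ)) *ᵥ v =
      v + c • (mat Q (hF.aset.kR W) *ᵥ v + mat Q (hF.aset.kR W⁻¹) *ᵥ v - (2 : F) • v) := fun v => by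
    induction v using CfsgLib.TensorUnitary.ten_induction with
    | hadd a b ha hb => rw [mulVec_add, mulVec_add, mulVec_add, ha, hb]; module
    | h0 => simp
    | h x w =>
      rw [hF.aset.kR_ten, hF.aset.kR_ten, hF.aset.kR_ten, show _ *ᵥ w = _ from hlin w, ← ten_add_right,
        ← ten_smul_right, ← CfsgLib.TensorSlice.ten_sub_right, ← ten_smul_right, ← ten_add_right]
  have ht' : t * hF.aset.kR W⁻¹ = hF.aset.kR W⁻¹ * t := by
    rw [map_inv]; exact (Commute.inv_right ht).eq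
  refine hF.ext fun x w => ?_
  rw [mul_vec, mul_vec, hop, hop, mulVec_add, mulVec_smul, mulVec_sub, mulVec_add, mulVec_smul, ← mul_vec t,
    ← mul_vec t, ht, ht', mul_vec, mul_vec]

end Fl

end CfsgLib.TWGap
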