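import Cfsg.Agent.TensorWreathOrth.Gap.Four.Plane

/-!
# Two factors of dimension four: no involution of `Ω` exchanges the factors
-/

set_option autoImplicit false
set_option linter.unusedSectionVars false

namespace CfsgLib.TWGap

open Matrix Module CfsgLib.Spinor CfsgLib.OrthMax CfsgLib.TensorOrth
open CfsgLib.TensorMax (Idx ten ten_add_left ten_add_right ten_smul_left ten_smul_right ten_eq_zero
  ten_inj_left ten_inj_right)
open CfsgLib.TensorSlice (ASet IsOrth)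

variable {F : Type*} [Field F] [Fintype F] {Q : QuadraticForm F (Idx 4 4 → F)}
  {B₁ B₂ : LinearMap.BilinForm F (Fin 4 → F)} {J : Isom Q}

/-- The exchange of two index pairs. -/
def swPair (i j : Fin 4) (p : Fin 4 × Fin 4) : Fin 4 × Fin 4 :=
  if (p.1 = i ∧ p.2 = j) ∨ (p.1 = j ∧ p.2 = i) then p.swap else p

theorem swPair_six : ∀ k l : Fin 4, swPair 0 1 (swPair 0 2 (swPair 0 3 (swPair 1 2 (swPair 1 3
    (swPair 2 3 (k, l)))))) = (l, k) := by decide

namespace Fl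

variable (hF : Fl Q B₁ B₂ J)
include hF

theorem neg_exists {E : Fin 4 → Fin 4 → F} (hE : IsOrth B₂ E) (v : Idx 4 4 → F) :
    mat Q (hF.pd E E (fun _ => true) (fun _ => false)) *ᵥ v = -v := by
  induction v using CfsgLib.TensorUnitary.ten_induction with
  | hadd a b ha hb => rw [mulVec_add, ha, hb, neg_add]
  | h0 => rw [mulVec_zero, neg_zero]
  | h x y =>
    rw [pd, hF.pr_ten, hF.dg_false hE, act_one,
      show act (hF.dg E fun _ => true) x = -x from ?_, CfsgLib.TensorSlice.ten_neg_left]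
    have h2 : ((hF.dg E fun _ => true).1 : Matrix (Fin 4) (Fin 4) F).mulVecLin = -LinearMap.id :=
      (hF.bas hE).ext fun i => by
        rw [hF.bas_apply]
        show act (hF.dg E fun _ => true) (E i) = -(E i)
        rw [hF.dg_apply hE]; simp [sg]
    exact LinearMap.congr_fun h2 x

/-- No involution of `Ω` exchanges the factors. -/
theorem mem_kr_of_invol (hpl : NoPlane B₂) {g : Isom Q} (hg : g ∈ hF.Nr) (hgO : g ∈ Cfsg.Omega F ⇑Q)
    (hg2 : g * g = 1) : g ∈ Kr Q := by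
  classical
  by_contra hgK
  have hs := hF.aset
  have h2 := hs.two
  obtain ⟨x, hx⟩ := CfsgLib.TensorSlice.exists_orth_basis hs.tset.f₂ h2
  obtain ⟨A, B, μ, hμ, hv, hA, hB⟩ := hF.kr_sim (hg.resolve_left hgK)
  set T := (A : Matrix (Fin 4) (Fin 4) F)
  set S := (B : Matrix (Fin 4) (Fin 4) F)
  have hgv : ∀ u w, mat Q g *ᵥ ten u w = ten (S *ᵥ w) (T *ᵥ u) := fun u w => by
    rw [show g = J * (J * g) by rw [← mul_assoc, hF.J_sq, one_mul], mul_vec, hv, hF.flip]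
  have hgg : ∀ u w, ten u w = ten (S *ᵥ (T *ᵥ u)) (T *ᵥ (S *ᵥ w)) := fun u w => by
    rw [← hgv, ← hgv, ← mul_vec, hg2, mat_one, one_mulVec]
  have hx0 : ∀ i, x i ≠ 0 := fun i => x.ne_zero i
  obtain ⟨c, hc0, hc, -⟩ := ten_prop (hx0 0) (hx0 0) (hgg (x 0) (x 0))
  have hST : ∀ u, u ≠ 0 → S *ᵥ (T *ᵥ u) = c • u := fun u hu => by
    obtain ⟨d, hd0, hd, hd'⟩ := ten_prop hu (hx0 0) (hgg u (x 0))
    obtain ⟨c', hc0', hc', hc''⟩ := ten_prop (hx0 0) (hx0 0) (hgg (x 0) (x 0))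
    have e : c = c' := smul_left_injective F (hx0 0) (hc.symm.trans hc')
    have e2 : d = c' := by
      have hw : T *ᵥ (S *ᵥ x 0) ≠ 0 := fun h0 => hx0 0 (by rw [hd', h0, smul_zero])
      exact smul_left_injective F hw (hd'.symm.trans hc'')
    rw [hd, e, e2]
  set y : Fin 4 → Fin 4 → F := fun i => T *ᵥ x i with hy
  have hgx : ∀ i j, mat Q g *ᵥ ten (x i) (y j) = c • ten (x j) (y i) := fun i j => by
    rw [hgv, hy]
    simp only
    rw [hST _ (hx0 j), ten_smul_left]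
  have hc2 : c * c = 1 := by
    have h : mat Q (g * g) *ᵥ ten (x 0) (y 1) = (c * c) • ten (x 0) (y 1) := by
      rw [mul_vec, hgx, mulVec_smul, hgx, smul_smul]
    rw [hg2, mat_one, one_mulVec] at h
    have hne : ten (x 0) (y 1) ≠ 0 := fun h0 => by
      rcases ten_eq_zero.1 h0 with h0 | h0
      · exact hx0 0 h0
      · exact hx0 1 (mulVec_injective_iff_isUnit.mpr A.isUnit (h0.trans (mulVec_zero _).symm))
    exact (smul_left_injective F hne ((one_smul F _).trans h)).symm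
  have hy' : IsOrth B₂ y := ⟨fun i => by rw [hy, hA]; exact mul_ne_zero (inv_ne_zero hμ) (hx.1 i),
    fun i j hij => by rw [hy, hA, hx.2 i j hij, mul_zero]⟩
  obtain ⟨κ, hκ, hκv⟩ := hF.prop
  let v : Fin 4 → Fin 4 → (Idx 4 4 → F) := fun i j => ten (x i) (y j) - ten (x j) (y i)
  have hpolar : ∀ i j i' j', QuadraticMap.polar (⇑Q) (ten (x i) (y j)) (ten (x i') (y j')) =
      (if i = i' ∧ j = j' then κ * μ⁻¹ * B₂ (x i) (x i) * B₂ (x j) (x j) else 0) := by
    intro i j i' j'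
    rw [hs.tset.polar, hκv, hy, hA]
    rcases eq_or_ne i i' with rfl | hi
    · rcases eq_or_ne j j' with rfl | hj
      · rw [if_pos ⟨rfl, rfl⟩]; ring
      · rw [if_neg (fun h => hj h.2), hx.2 j j' hj]; ring
    · rw [if_neg (fun h => hi h.1), hx.2 i i' hi]; ring
  have hQv : ∀ i j, i ≠ j → Q (v i j) = κ * μ⁻¹ * B₂ (x i) (x i) * B₂ (x j) (x j) := fun i j hij => by
    refine mul_left_cancel₀ h2 ?_
    rw [← polar_self', show v i j = ten (x i) (y j) - ten (x j) (y i) from rfl]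
    simp only [QuadraticMap.polar_sub_left, QuadraticMap.polar_sub_right, hpolar]
    simp [hij, hij.symm]
    ring
  have hv0 : ∀ i j, i ≠ j → Q (v i j) ≠ 0 := fun i j hij => by
    rw [hQv i j hij]
    exact mul_ne_zero (mul_ne_zero (mul_ne_zero hκ (inv_ne_zero hμ)) (hx.1 i)) (hx.1 j)
  have hr : ∀ i j (hij : i ≠ j) (k l : Fin 4), mat Q (reflIso Q (v i j) (hv0 i j hij)) *ᵥ ten (x k) (y l) =
      if (k = i ∧ l = j) ∨ (k = j ∧ l = i) then ten (x l) (y k) else ten (x k) (y l) := by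
    intro i j hij k l
    have hne := hv0 i j hij
    rw [hQv i j hij] at hne
    rw [mat_reflIso, reflectionMatrix_mulVec, refl_apply, hQv i j hij,
      show v i j = ten (x i) (y j) - ten (x j) (y i) from rfl, QuadraticMap.polar_sub_left, hpolar, hpolar]
    by_cases h1 : k = i ∧ l = j
    · obtain ⟨rfl, rfl⟩ := h1
      rw [if_pos ⟨rfl, rfl⟩, if_neg (fun h => hij h.1.symm), if_pos (Or.inl ⟨rfl, rfl⟩), sub_zero,
        inv_mul_cancel₀ hne, one_smul, sub_sub_cancel]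
    by_cases h2' : k = j ∧ l = i
    · obtain ⟨rfl, rfl⟩ := h2'
      rw [if_neg (fun h => hij h.1), if_pos ⟨rfl, rfl⟩, if_pos (Or.inr ⟨rfl, rfl⟩),
        show κ * μ⁻¹ * B₂ (x k) (x k) * B₂ (x l) (x l) = κ * μ⁻¹ * B₂ (x l) (x l) * B₂ (x k) (x k) by ring,
        zero_sub, mul_neg, inv_mul_cancel₀ hne, neg_smul, one_smul, sub_neg_eq_add, add_sub_cancel]
    · rw [if_neg (fun h => h1 ⟨h.1.symm, h.2.symm⟩), if_neg (fun h => h2' ⟨h.1.symm, h.2.symm⟩),
        if_neg (by tauto), sub_zero, mul_zero, zero_smul, sub_zero]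
  have d01 : (0 : Fin 4) ≠ 1 := by decide
  have d02 : (0 : Fin 4) ≠ 2 := by decide
  have d03 : (0 : Fin 4) ≠ 3 := by decide
  have d12 : (1 : Fin 4) ≠ 2 := by decide
  have d13 : (1 : Fin 4) ≠ 3 := by decide
  have d23 : (2 : Fin 4) ≠ 3 := by decide
  set P := reflIso Q (v 0 1) (hv0 _ _ d01) * reflIso Q (v 0 2) (hv0 _ _ d02) * reflIso Q (v 0 3) (hv0 _ _ d03) *
    reflIso Q (v 1 2) (hv0 _ _ d12) * reflIso Q (v 1 3) (hv0 _ _ d13) * reflIso Q (v 2 3) (hv0 _ _ d23) with hP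
  have hPv : ∀ k l, mat Q P *ᵥ ten (x k) (y l) = ten (x l) (y k) := by
    intro k l
    rw [hP, mul_vec, mul_vec, mul_vec, mul_vec, mul_vec]
    have hr' : ∀ i j (hij : i ≠ j) (p : Fin 4 × Fin 4),
        mat Q (reflIso Q (v i j) (hv0 i j hij)) *ᵥ ten (x p.1) (y p.2) =
          ten (x (swPair i j p).1) (y (swPair i j p).2) := fun i j hij p => by
      rw [hr i j hij, swPair]
      split_ifs with h <;> rfl
    rw [hr' 2 3 d23 (k, l), hr' 1 3 d13, hr' 1 2 d12, hr' 0 3 d03, hr' 0 2 d02, hr' 0 1 d01, swPair_six]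
  have hPO : P ∈ Cfsg.Omega F ⇑Q := by
    rcases mul_self_eq_one_iff.1 hc2 with rfl | rfl
    · rwa [← hF.ext_frame hx hy' (g := g) (h := P) fun i j => by rw [hgx, hPv, one_smul]]
    · have hneg := hF.neg_exists hx
      set z := hF.pd x x (fun _ => true) (fun _ => false)
      have hz : z ∈ Cfsg.Omega F ⇑Q := by
        have e : z = hF.L (x 0) * hF.L (x 1) * (hF.L (x 2) * hF.L (x 3)) := by
          simp only [z, pd, pr, dg, cond_true, cond_false, mul_one, map_one, map_mul, L, mul_assoc]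
        rw [e]
        exact (Cfsg.Omega F ⇑Q).mul_mem (hF.LL_omega (hx.1 0) (hx.1 1)) (hF.LL_omega (hx.1 2) (hx.1 3))
      have e : P = z * g := hF.ext_frame hx hy' fun i j => by
        rw [hPv, mul_vec, hgx, hneg, neg_one_smul, neg_neg]
      rw [e]; exact (Cfsg.Omega F ⇑Q).mul_mem hz hgO
  have hlist := (((((IsReflProd.reflIso (v 0 1) (hv0 _ _ d01)).mul (IsReflProd.reflIso (v 0 2) (hv0 _ _ d02))).mul
    (IsReflProd.reflIso (v 0 3) (hv0 _ _ d03))).mul (IsReflProd.reflIso (v 1 2) (hv0 _ _ d12))).mul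
    (IsReflProd.reflIso (v 1 3) (hv0 _ _ d13))).mul (IsReflProd.reflIso (v 2 3) (hv0 _ _ d23))
  obtain ⟨r, hr'⟩ := ((mem_omega_iff h2 hs.tset.nondeg hlist).1 hPO).2
  simp [hQv _ _ d01, hQv _ _ d02, hQv _ _ d03, hQv _ _ d12, hQv _ _ d13, hQv _ _ d23] at hr'
  have hW : ∀ i, B₂ (x i) (x i) ≠ 0 := hx.1
  refine hF.frame_nonsq hpl hx ⟨r / (κ * κ * κ * μ⁻¹ * μ⁻¹ * μ⁻¹ *
    (B₂ (x 0) (x 0) * B₂ (x 1) (x 1) * B₂ (x 2) (x 2) * B₂ (x 3) (x 3))), ?_⟩
  have h3 := hW 0; have h4 := hW 1; have h5 := hW 2; have h6 := hW 3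
  field_simp at hr' ⊢
  linear_combination hr'

end Fl

end CfsgLib.TWGap
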