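import Cfsg.Agent.TensorWreathOrth.Gap.Fusion

/-!
# Two factors of dimension four: products of factor isometries and signed frames
-/

set_option autoImplicit false
set_option linter.unusedSectionVars false

namespace CfsgLib.TWGap

open Matrix Module CfsgLib.Spinor CfsgLib.OrthMax CfsgLib.TensorOrth
open CfsgLib.TensorMax (Idx ten ten_add_left ten_add_right ten_smul_left ten_smul_right ten_eq_zero
  ten_inj_left ten_inj_right)
open CfsgLib.TensorSlice (ASet IsOrth)
open CfsgLib.TensorUnitary (mat_ext_ten)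
open scoped Kronecker

variable {F : Type*} [Field F]

/-- The sign attached to a Boolean. -/
def sg (b : Bool) : F := bif b then -1 else 1

theorem sg_mul (a b : Bool) : (sg a : F) * sg b = sg (xor a b) := by
  cases a <;> cases b <;> simp [sg]

theorem sg_not (a : Bool) : (sg (!a) : F) = - sg a := by cases a <;> simp [sg]

/-- Coincident pure tensors have proportional entries. -/
theorem ten_prop {a b : ℕ} {x x' : Fin a → F} {y y' : Fin b → F} (hx : x ≠ 0) (hy : y ≠ 0)
    (h : ten x y = ten x' y') : ∃ c : F, c ≠ 0 ∧ x' = c • x ∧ y = c • y' := by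
  obtain ⟨i, hi⟩ := Function.ne_iff.1 hx
  obtain ⟨j, hj⟩ := Function.ne_iff.1 hy
  have e : ∀ i j, x i * y j = x' i * y' j := fun i j => congrFun h (i, j)
  have h' := e i j
  have hx' : x' i ≠ 0 := fun h0 => mul_ne_zero hi hj (by rw [h', h0, zero_mul])
  refine ⟨x' i / x i, div_ne_zero hx' hi, funext fun l => ?_, funext fun l => ?_⟩
  · have h1 := e l j
    have hy' : y' j ≠ 0 := fun h0 => mul_ne_zero hi hj (by rw [h', h0, mul_zero])
    refine mul_right_cancel₀ hy' ?_
    rw [← h1, Pi.smul_apply, smul_eq_mul, div_mul_eq_mul_div, div_mul_eq_mul_div, eq_div_iff hi]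
    linear_combination x l * h'
  · rw [Pi.smul_apply, smul_eq_mul, div_mul_eq_mul_div, eq_div_iff hi, ← e i l]
    ring

variable [Fintype F] {Q : QuadraticForm F (Idx 4 4 → F)}
  {B₁ B₂ : LinearMap.BilinForm F (Fin 4 → F)} {J : Isom Q}

/-- The action of a factor isometry. -/
abbrev act (T : isoG B₂) (x : Fin 4 → F) : Fin 4 → F := (T.1 : Matrix (Fin 4) (Fin 4) F) *ᵥ x

theorem act_mul (S T : isoG B₂) (x : Fin 4 → F) : act (S * T) x = act S (act T x) := by
  show ((S.1 * T.1 : GL (Fin 4) F) : Matrix (Fin 4) (Fin 4) F) *ᵥ x = _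
  rw [Units.val_mul, ← mulVec_mulVec]

theorem act_one (x : Fin 4 → F) : act (1 : isoG B₂) x = x := by
  show ((1 : GL (Fin 4) F) : Matrix (Fin 4) (Fin 4) F) *ᵥ x = x
  rw [Units.val_one, one_mulVec]

theorem act_inv (T : isoG B₂) (x : Fin 4 → F) : act T⁻¹ (act T x) = x := by
  rw [← act_mul, inv_mul_cancel, act_one]

theorem act_iso (T : isoG B₂) (x y : Fin 4 → F) : B₂ (act T x) (act T y) = B₂ x y := T.2 x y

theorem act_inj (T : isoG B₂) {x y : Fin 4 → F} (h : act T x = act T y) : x = y := by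
  rw [← act_inv T x, h, act_inv]

theorem act_ne (T : isoG B₂) {x : Fin 4 → F} (h : x ≠ 0) : act T x ≠ 0 := fun h0 =>
  h (act_inj T (h0.trans (mulVec_zero _).symm))

/-- The character of an element. -/
def trI (g : Isom Q) : F := (mat Q g).trace

theorem trI_conj (z g : Isom Q) : trI (z * g * z⁻¹) = trI g := by
  rw [trI, trI, mat_mul, mat_mul, Matrix.trace_mul_cycle, ← mat_mul, inv_mul_cancel, mat_one, Matrix.one_mul]

namespace Fl

variable (hF : Fl Q B₁ B₂ J)
include hF

theorem ne0 {e : Fin 4 → F} (he : B₂ e e ≠ 0) : e ≠ 0 := fun h => he (by simp [h])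

theorem li {E : Fin 4 → Fin 4 → F} (hE : IsOrth B₂ E) : LinearIndependent F E :=
  LinearMap.BilinForm.linearIndependent_of_iIsOrtho (B := B₂)
    (fun i j hij => hE.2 i j hij) (fun i => hE.1 i)

/-- The basis of an orthogonal frame. -/
noncomputable def bas {E : Fin 4 → Fin 4 → F} (hE : IsOrth B₂ E) : Basis (Fin 4) F (Fin 4 → F) :=
  basisOfLinearIndependentOfCardEqFinrank (hF.li hE) (by rw [Module.finrank_fin_fun, Fintype.card_fin])

theorem bas_apply {E : Fin 4 → Fin 4 → F} (hE : IsOrth B₂ E) (i : Fin 4) : hF.bas hE i = E i := by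
  simp [bas]

theorem iso_ext {E : Fin 4 → Fin 4 → F} (hE : IsOrth B₂ E) {S T : isoG B₂}
    (h : ∀ i, act S (E i) = act T (E i)) : S = T := by
  refine hF.aset.isoG_ext fun y => ?_
  have : (S.1 : Matrix (Fin 4) (Fin 4) F).mulVecLin = (T.1 : Matrix (Fin 4) (Fin 4) F).mulVecLin :=
    (hF.bas hE).ext fun i => by rw [hF.bas_apply]; exact h i
  exact LinearMap.congr_fun this y

theorem ext_frame {E G : Fin 4 → Fin 4 → F} (hE : IsOrth B₂ E) (hG : IsOrth B₂ G) {g h : Isom Q}
    (e : ∀ i j, mat Q g *ᵥ ten (E i) (G j) = mat Q h *ᵥ ten (E i) (G j)) : g = h := by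
  refine hF.ext fun x y => ?_
  have : (tenB (F := F) (a := 4) (b := 4)).compr₂ (mat Q g).mulVecLin =
      (tenB (F := F) (a := 4) (b := 4)).compr₂ (mat Q h).mulVecLin :=
    (hF.bas hE).ext fun i => (hF.bas hG).ext fun j => by
      rw [hF.bas_apply, hF.bas_apply]; exact e i j
  exact LinearMap.congr_fun (LinearMap.congr_fun this x) y

/-- A pair of factor isometries. -/
noncomputable def pr (U V : isoG B₂) : Isom Q := hF.kL U * hF.aset.kR V

theorem pr_ten (U V : isoG B₂) (x y : Fin 4 → F) :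
    mat Q (hF.pr U V) *ᵥ ten x y = ten (act U x) (act V y) := by
  rw [pr, mul_vec, hF.aset.kR_ten, hF.kL_ten]

theorem pr_mul (U V U' V' : isoG B₂) : hF.pr U V * hF.pr U' V' = hF.pr (U * U') (V * V') :=
  hF.ext fun x y => by rw [mul_vec, hF.pr_ten, hF.pr_ten, hF.pr_ten, act_mul, act_mul]

theorem pr_one : hF.pr 1 1 = 1 :=
  hF.ext fun x y => by rw [hF.pr_ten, mat_one, one_mulVec, act_one, act_one]

theorem pr_inv (U V : isoG B₂) : (hF.pr U V)⁻¹ = hF.pr U⁻¹ V⁻¹ :=
  inv_eq_of_mul_eq_one_right (by rw [hF.pr_mul, mul_inv_cancel, mul_inv_cancel, hF.pr_one])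

theorem pr_pow (U V : isoG B₂) (n : ℕ) : hF.pr U V ^ n = hF.pr (U ^ n) (V ^ n) := by
  induction n with
  | zero => rw [pow_zero, pow_zero, pow_zero, hF.pr_one]
  | succ n ih => rw [pow_succ, ih, hF.pr_mul, ← pow_succ, ← pow_succ]

theorem pr_kr (U V : isoG B₂) : hF.pr U V ∈ Kr Q := (Kr Q).mul_mem (hF.kL_mem U) (hF.aset.kR_mem V)

theorem conj_pr (U V : isoG B₂) : J * hF.pr U V * J = hF.pr V U :=
  hF.ext fun x y => by rw [hF.conj_ten, hF.pr_ten, hF.flip, hF.pr_ten]

theorem kR_eq_pr (V : isoG B₂) : hF.aset.kR V = hF.pr 1 V :=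
  hF.ext fun x y => by rw [hF.pr_ten, hF.aset.kR_ten, act_one]

theorem kL_eq_pr (U : isoG B₂) : hF.kL U = hF.pr U 1 :=
  hF.ext fun x y => by rw [hF.pr_ten, hF.kL_ten, act_one]

theorem mat_pr (U V : isoG B₂) :
    mat Q (hF.pr U V) = (U.1 : Matrix (Fin 4) (Fin 4) F) ⊗ₖ (V.1 : Matrix (Fin 4) (Fin 4) F) :=
  mat_ext_ten fun x y => by rw [hF.pr_ten, CfsgLib.TensorMax.kron_mulVec_ten]

theorem trI_pr (U V : isoG B₂) : trI (hF.pr U V) =
    (U.1 : Matrix (Fin 4) (Fin 4) F).trace * (V.1 : Matrix (Fin 4) (Fin 4) F).trace := by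
  rw [trI, hF.mat_pr, Matrix.trace_kronecker]

/-- The isometry with the given signs on a frame. -/
noncomputable def dg (E : Fin 4 → Fin 4 → F) (σ : Fin 4 → Bool) : isoG B₂ :=
  (bif σ 0 then hF.aset.rR (E 0) else 1) * (bif σ 1 then hF.aset.rR (E 1) else 1) *
    (bif σ 2 then hF.aset.rR (E 2) else 1) * (bif σ 3 then hF.aset.rR (E 3) else 1)

theorem dg_apply {E : Fin 4 → Fin 4 → F} (hE : IsOrth B₂ E) (σ : Fin 4 → Bool) (j : Fin 4) :
    act (hF.dg E σ) (E j) = (sg (σ j) : F) • E j := by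
  have h : ∀ (i : Fin 4) (b : Bool) (s : F), act (bif b then hF.aset.rR (E i) else 1) (s • E j) =
      ((if i = j then sg b else 1) * s) • E j := by
    intro i b s
    cases b
    · simp [sg, act_one]
    rw [act, mulVec_smul]
    rcases eq_or_ne i j with rfl | hij
    · rw [cond_true, hF.aset.rR_self (hE.1 i)]; simp [sg]
    · rw [cond_true, hF.aset.rR_fix (hE.1 i) (hE.2 j i hij.symm), if_neg hij, one_mul]
  have h1 : act (hF.dg E σ) (E j) = act (hF.dg E σ) ((1 : F) • E j) := by rw [one_smul]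
  rw [h1, dg, act_mul, act_mul, act_mul, h, h, h, h]
  fin_cases j <;> simp

theorem dg_mul {E : Fin 4 → Fin 4 → F} (hE : IsOrth B₂ E) (σ τ : Fin 4 → Bool) :
    hF.dg E σ * hF.dg E τ = hF.dg E (fun i => xor (σ i) (τ i)) :=
  hF.iso_ext hE fun i => by
    rw [act_mul, hF.dg_apply hE, act, mulVec_smul,
      show ((hF.dg E σ).1 : Matrix (Fin 4) (Fin 4) F) *ᵥ E i = _ from hF.dg_apply hE σ i, hF.dg_apply hE,
      smul_smul, sg_mul, Bool.xor_comm]

theorem dg_false {E : Fin 4 → Fin 4 → F} (hE : IsOrth B₂ E) : hF.dg E (fun _ => false) = 1 :=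
  hF.iso_ext hE fun i => by rw [hF.dg_apply hE, act_one]; simp [sg]

theorem dg_single {E : Fin 4 → Fin 4 → F} (hE : IsOrth B₂ E) (i : Fin 4) :
    hF.dg E (fun j => decide (j = i)) = hF.aset.rR (E i) :=
  hF.iso_ext hE fun j => by
    rw [hF.dg_apply hE]
    rcases eq_or_ne j i with rfl | hji
    · rw [act, hF.aset.rR_self (hE.1 j)]; simp [sg]
    · rw [act, hF.aset.rR_fix (hE.1 i) (hE.2 j i hji)]; simp [sg, hji]

theorem dg_perm {E : Fin 4 → Fin 4 → F} (hE : IsOrth B₂ E) (π : Equiv.Perm (Fin 4)) (σ : Fin 4 → Bool) :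
    hF.dg (fun i => E (π i)) (fun i => σ (π i)) = hF.dg E σ :=
  hF.iso_ext hE fun j => by
    have hE' : IsOrth B₂ (fun i => E (π i)) :=
      ⟨fun i => hE.1 _, fun i i' h => hE.2 _ _ fun h' => h (π.injective h')⟩
    have h := hF.dg_apply hE' (fun i => σ (π i)) (π.symm j)
    simp only [Equiv.apply_symm_apply] at h
    rw [h, hF.dg_apply hE]

/-- The conjugate of a signed frame isometry. -/
theorem dg_conj {E : Fin 4 → Fin 4 → F} (hE : IsOrth B₂ E) (T : isoG B₂) (σ : Fin 4 → Bool) :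
    T * hF.dg E σ * T⁻¹ = hF.dg (fun i => act T (E i)) σ := by
  have hE' : IsOrth B₂ (fun i => act T (E i)) :=
    ⟨fun i => by rw [act_iso]; exact hE.1 i, fun i j h => by rw [act_iso]; exact hE.2 i j h⟩
  refine hF.iso_ext hE' fun i => ?_
  rw [act_mul, act_mul, act_inv, hF.dg_apply hE, hF.dg_apply hE', act, mulVec_smul]

/-- The trace of a signed frame isometry. -/
theorem dg_trace {E : Fin 4 → Fin 4 → F} (hE : IsOrth B₂ E) (σ : Fin 4 → Bool) :
    ((hF.dg E σ).1 : Matrix (Fin 4) (Fin 4) F).trace = ∑ i, (sg (σ i) : F) := by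
  classical
  set A := ((hF.dg E σ).1 : Matrix (Fin 4) (Fin 4) F)
  have h := LinearMap.trace_eq_matrix_trace F (Pi.basisFun F (Fin 4)) A.toLin'
  rw [← Matrix.toLin_eq_toLin', LinearMap.toMatrix_toLin] at h
  have h' := LinearMap.trace_eq_matrix_trace F (hF.bas hE) A.toLin'
  rw [← Matrix.toLin_eq_toLin'] at h'
  rw [← h, h', Matrix.trace]
  refine Finset.sum_congr rfl fun i _ => ?_
  rw [Matrix.diag_apply, LinearMap.toMatrix_apply, hF.bas_apply, Matrix.toLin_eq_toLin', Matrix.toLin'_apply,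
    show A *ᵥ E i = _ from hF.dg_apply hE σ i, map_smul, ← hF.bas_apply hE, Basis.repr_self]
  simp

/-- An isometry keeping three lines of a frame is a signed frame isometry. -/
theorem exists_signs {E : Fin 4 → Fin 4 → F} (hE : IsOrth B₂ E) {U : isoG B₂}
    (h : ∀ i, i ≠ 3 → ∃ c : F, act U (E i) = c • E i) : ∃ σ, U = hF.dg E σ := by
  have sq : ∀ i (c : F), act U (E i) = c • E i → c = 1 ∨ c = -1 := fun i c hc => by
    have h1 := act_iso U (E i) (E i)
    rw [hc] at h1
    simp only [map_smul, LinearMap.smul_apply, smul_eq_mul] at h1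
    exact mul_self_eq_one_iff.1 (mul_right_cancel₀ (hE.1 i) (by rw [one_mul, mul_assoc]; exact h1))
  have h3 : ∃ c : F, act U (E 3) = c • E 3 := by
    refine ⟨B₂ (act U (E 3)) (E 3) / B₂ (E 3) (E 3), sub_eq_zero.1 ?_⟩
    set d := act U (E 3) - (B₂ (act U (E 3)) (E 3) / B₂ (E 3) (E 3)) • E 3
    have hd : B₂ d = 0 := (hF.bas hE).ext fun i => by
      rw [hF.bas_apply, LinearMap.zero_apply]
      show B₂ (_ - _) (E i) = 0
      rw [map_sub, LinearMap.sub_apply, map_smul, LinearMap.smul_apply, smul_eq_mul]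
      rcases eq_or_ne i 3 with rfl | hi
      · rw [div_mul_cancel₀ _ (hE.1 3), sub_self]
      · obtain ⟨c, hc⟩ := h i hi
        have hc0 : c ≠ 0 := by rcases sq i c hc with rfl | rfl <;> simp
        have h2 := act_iso U (E 3) (E i)
        rw [hc, map_smul, smul_eq_mul, hE.2 3 i (Ne.symm hi), mul_eq_zero, or_iff_right hc0] at h2
        rw [h2, hE.2 3 i (Ne.symm hi), mul_zero, sub_zero]
    exact hF.aset.tset.f₂.sep fun y => by rw [hd, LinearMap.zero_apply]
  have hall : ∀ i, ∃ b : Bool, act U (E i) = (sg b : F) • E i := fun i => by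
    obtain ⟨c, hc⟩ : ∃ c : F, act U (E i) = c • E i := by
      rcases eq_or_ne i 3 with rfl | hi
      exacts [h3, h i hi]
    rcases sq i c hc with rfl | rfl
    exacts [⟨false, by simpa [sg] using hc⟩, ⟨true, by simpa [sg] using hc⟩]
  choose σ hσ using hall
  exact ⟨σ, hF.iso_ext hE fun i => by rw [hσ, hF.dg_apply hE]⟩

/-- Orthogonal anisotropic eigenvectors of an involutive isometry, extended by one. -/
theorem eig_step {U : isoG B₂} (hU : U * U = 1) {n : ℕ} (hn : n < 4) {p : Fin n → Fin 4 → F}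
    (hp : IsOrth B₂ p) (he : ∀ i, ∃ c : F, act U (p i) = c • p i) :
    ∃ x, B₂ x x ≠ 0 ∧ (∀ i, B₂ x (p i) = 0) ∧ ∃ c : F, act U x = c • x := by
  classical
  have hs := hF.aset
  obtain ⟨x, hx, hxx⟩ : ∃ x ∈ CfsgLib.TensorSlice.perp B₂ p, B₂ x x ≠ 0 := by
    by_contra! hall
    obtain ⟨w, hw, hw0⟩ : ∃ w ∈ CfsgLib.TensorSlice.perp B₂ p, w ≠ 0 := by
      by_contra! h
      have := CfsgLib.TensorSlice.finrank_perp B₂ p
      rw [(Submodule.eq_bot_iff _).2 h, finrank_bot] at this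
      omega
    refine hw0 (hs.tset.f₂.sep fun y => ?_)
    set y' := y - ∑ i, (B₂ y (p i) / B₂ (p i) (p i)) • p i with hy'
    have hy : y' ∈ CfsgLib.TensorSlice.perp B₂ p := CfsgLib.TensorSlice.mem_perp.2 fun j => by
      rw [hy', map_sub, LinearMap.sub_apply, map_sum, LinearMap.sum_apply, Finset.sum_eq_single j]
      · simp [hp.1 j]
      · intro i _ hij; simp [hp.2 i j hij]
      · simp
    have h1 := hall (w + y') (Submodule.add_mem _ hw hy)
    simp only [map_add, LinearMap.add_apply, hall w hw, hall y' hy, hs.symm₂ y' w, zero_add, add_zero] at h1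
    have h2 : B₂ w y' = 0 := (mul_eq_zero.1 (show (2 : F) * B₂ w y' = 0 by linear_combination h1)).resolve_left hs.two
    rw [hy', map_sub, map_sum, Finset.sum_eq_zero (fun i _ => by
      rw [map_smul, CfsgLib.TensorSlice.mem_perp.1 hw i, smul_zero]), sub_zero] at h2
    exact h2
  rw [CfsgLib.TensorSlice.mem_perp] at hx
  have hUU : ∀ v, act U (act U v) = v := fun v => by rw [← act_mul, hU, act_one]
  have horth : ∀ i, B₂ (act U x) (p i) = 0 := fun i => by
    obtain ⟨c, hc⟩ := he i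
    rw [← act_iso U, hUU, hc, map_smul, hx, smul_zero]
  by_cases h : B₂ (x + act U x) (x + act U x) ≠ 0
  · refine ⟨x + act U x, h, fun i => by simp [hx, horth], 1, ?_⟩
    rw [one_smul, act, mulVec_add, ← act, ← act, hUU, add_comm]
  · push Not at h
    refine ⟨x - act U x, fun h' => hxx ?_, fun i => by simp [hx, horth], -1, ?_⟩
    · simp only [map_add, map_sub, LinearMap.add_apply, LinearMap.sub_apply, act_iso] at h h'
      have h4 : (2 : F) * 2 * B₂ x x = 0 := by linear_combination h + h'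
      exact (mul_eq_zero.1 h4).resolve_left (mul_ne_zero hs.two hs.two)
    · rw [neg_one_smul, neg_sub, act, mulVec_sub, ← act, ← act, hUU]

/-- An orthogonal family of eigenvectors of an involutive isometry extends to a diagonalising frame. -/
theorem exists_diag {U : isoG B₂} (hU : U * U = 1) : ∀ (d : ℕ) {n : ℕ}, n + d = 4 → ∀ p : Fin n → Fin 4 → F,
    IsOrth B₂ p → (∀ i, ∃ c : F, act U (p i) = c • p i) →
    ∃ E, IsOrth B₂ E ∧ (∀ (i : Fin n) (j : Fin 4), (i : ℕ) = j → E j = p i) ∧ ∃ σ, U = hF.dg E σ := by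
  intro d
  induction d with
  | zero =>
    intro n hn p hp he
    obtain rfl : n = 4 := by omega
    exact ⟨p, hp, fun i j h => by rw [Fin.ext h], hF.exists_signs hp fun i _ => he i⟩
  | succ d ih =>
    intro n hn p hp he
    obtain ⟨x, hxx, hxp, hxe⟩ := hF.eig_step hU (by omega) hp he
    have hq : IsOrth B₂ (Fin.snoc p x : Fin (n + 1) → Fin 4 → F) := by
      refine ⟨fun i => ?_, fun i j hij => ?_⟩
      · induction i using Fin.lastCases with
        | last => simpa using hxx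
        | cast i => simpa using hp.1 i
      · induction i using Fin.lastCases with
        | last => induction j using Fin.lastCases with
          | last => exact absurd rfl hij
          | cast j => simpa using hxp j
        | cast i => induction j using Fin.lastCases with
          | last => simp only [Fin.snoc_castSucc, Fin.snoc_last]; rw [hF.aset.symm₂]; exact hxp i
          | cast j => simpa using hp.2 i j fun h => hij (by rw [h])
    obtain ⟨E, hE, hEp, hσ⟩ := ih (n := n + 1) (by omega) (Fin.snoc p x) hq fun i => by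
      induction i using Fin.lastCases with
      | last => simpa using hxe
      | cast i => simpa using he i
    exact ⟨E, hE, fun i j h => by simpa using hEp i.castSucc j h, hσ⟩

/-- An orthogonal family extends to a frame. -/
theorem exists_frame {n : ℕ} (hn : n ≤ 4) {p : Fin n → Fin 4 → F} (hp : IsOrth B₂ p) :
    ∃ E, IsOrth B₂ E ∧ ∀ (i : Fin n) (j : Fin 4), (i : ℕ) = j → E j = p i := by
  obtain ⟨E, hE, hEp, -⟩ := hF.exists_diag (U := 1) (one_mul 1) (4 - n) (n := n) (by omega) p hp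
    fun i => ⟨1, by rw [one_smul, act_one]⟩
  exact ⟨E, hE, hEp⟩

/-- A pair of signed frame isometries. -/
noncomputable def pd (E G : Fin 4 → Fin 4 → F) (σ τ : Fin 4 → Bool) : Isom Q :=
  hF.pr (hF.dg E σ) (hF.dg G τ)

theorem pd_ten {E G : Fin 4 → Fin 4 → F} (hE : IsOrth B₂ E) (hG : IsOrth B₂ G) (σ τ : Fin 4 → Bool)
    (i j : Fin 4) : mat Q (hF.pd E G σ τ) *ᵥ ten (E i) (G j) = (sg (xor (σ i) (τ j)) : F) • ten (E i) (G j) := by
  rw [pd, hF.pr_ten, hF.dg_apply hE, hF.dg_apply hG, ten_smul_left, ten_smul_right, smul_smul, sg_mul]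

theorem pd_not {E G : Fin 4 → Fin 4 → F} (hE : IsOrth B₂ E) (hG : IsOrth B₂ G) (σ τ : Fin 4 → Bool) :
    hF.pd E G (fun i => !σ i) (fun i => !τ i) = hF.pd E G σ τ :=
  hF.ext_frame hE hG fun i j => by
    rw [hF.pd_ten hE hG, hF.pd_ten hE hG]
    cases σ i <;> cases τ j <;> rfl

theorem pd_mul {E G : Fin 4 → Fin 4 → F} (hE : IsOrth B₂ E) (hG : IsOrth B₂ G) (σ τ σ' τ' : Fin 4 → Bool) :
    hF.pd E G σ τ * hF.pd E G σ' τ' =
      hF.pd E G (fun i => xor (σ i) (σ' i)) (fun i => xor (τ i) (τ' i)) := by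
  rw [pd, pd, pd, hF.pr_mul, hF.dg_mul hE, hF.dg_mul hG]

theorem pd_false {E G : Fin 4 → Fin 4 → F} (hE : IsOrth B₂ E) (hG : IsOrth B₂ G) :
    hF.pd E G (fun _ => false) (fun _ => false) = 1 := by
  rw [pd, hF.dg_false hE, hF.dg_false hG, hF.pr_one]

theorem pd_sq {E G : Fin 4 → Fin 4 → F} (hE : IsOrth B₂ E) (hG : IsOrth B₂ G) (σ τ : Fin 4 → Bool) :
    hF.pd E G σ τ * hF.pd E G σ τ = 1 := by
  rw [hF.pd_mul hE hG]; simp only [Bool.xor_self]; exact hF.pd_false hE hG

theorem pd_inv {E G : Fin 4 → Fin 4 → F} (hE : IsOrth B₂ E) (hG : IsOrth B₂ G) (σ τ : Fin 4 → Bool) :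
    (hF.pd E G σ τ)⁻¹ = hF.pd E G σ τ := inv_eq_of_mul_eq_one_right (hF.pd_sq hE hG σ τ)

theorem conj_pd (E G : Fin 4 → Fin 4 → F) (σ τ : Fin 4 → Bool) :
    J * hF.pd E G σ τ * J = hF.pd G E τ σ := hF.conj_pr _ _

theorem trI_pd {E G : Fin 4 → Fin 4 → F} (hE : IsOrth B₂ E) (hG : IsOrth B₂ G) (σ τ : Fin 4 → Bool) :
    trI (hF.pd E G σ τ) = (∑ i, (sg (σ i) : F)) * ∑ i, (sg (τ i) : F) := by
  rw [pd, trI_pr, hF.dg_trace hE, hF.dg_trace hG]

/-- An element of `Kr` keeping an anisotropic line of the first factor is a pair of isometries. -/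
theorem exists_pr {g : Isom Q} (hg : g ∈ Kr Q) {e : Fin 4 → F} (he : B₂ e e ≠ 0)
    (h : ∀ y, ∃ y', mat Q g *ᵥ ten e y = ten e y') :
    ∃ U V : isoG B₂, g = hF.pr U V ∧ act U e = e := by
  obtain ⟨A, B, μ, hμ, hv, hA, hB⟩ := hF.kr_sim hg
  have he0 := hF.ne0 he
  obtain ⟨y₀, hy₀⟩ := hF.aset.exists_ne₁
  obtain ⟨y', hy'⟩ := h y₀
  rw [hv] at hy'
  have hAe : (A : Matrix (Fin 4) (Fin 4) F) *ᵥ e ≠ 0 := fun h0 => he0
    (mulVec_injective_iff_isUnit.mpr A.isUnit (h0.trans (mulVec_zero _).symm))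
  obtain ⟨c, hc, hc1, -⟩ := ten_prop hAe (fun h0 => hy₀
    (mulVec_injective_iff_isUnit.mpr B.isUnit (h0.trans (mulVec_zero _).symm))) hy'
  have hμ' : μ⁻¹ = c⁻¹ * c⁻¹ := by
    have h1 := hA e e
    rw [show (A : Matrix (Fin 4) (Fin 4) F) *ᵥ e = c⁻¹ • e from by
      rw [eq_inv_smul_iff₀ hc, ← hc1]] at h1
    simp only [map_smul, LinearMap.smul_apply, smul_eq_mul] at h1
    exact (mul_right_cancel₀ he (by rw [← h1]; ring)).symm
  have hμc : μ = c * c := by rw [← inv_inv μ, hμ', mul_inv, inv_inv]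
  have hU : CfsgLib.TensorSlice.scGL 4 c hc * A ∈ isoG B₂ := fun x x' => by
    simp only [CfsgLib.TensorSlice.scGL_mul_mulVec, map_smul, LinearMap.smul_apply, smul_eq_mul, hA, hμ']
    field_simp
  have hV : CfsgLib.TensorSlice.scGL 4 c⁻¹ (inv_ne_zero hc) * B ∈ isoG B₂ := fun x x' => by
    simp only [CfsgLib.TensorSlice.scGL_mul_mulVec, map_smul, LinearMap.smul_apply, smul_eq_mul, hB, hμc]
    field_simp
  refine ⟨⟨_, hU⟩, ⟨_, hV⟩, hF.ext fun x y => ?_, ?_⟩
  · rw [hv, hF.pr_ten]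
    show _ = ten (_ *ᵥ x) (_ *ᵥ y)
    rw [CfsgLib.TensorSlice.scGL_mul_mulVec, CfsgLib.TensorSlice.scGL_mul_mulVec, ten_smul_left,
      ten_smul_right, smul_smul, mul_inv_cancel₀ hc, one_smul]
  · show _ *ᵥ e = e
    rw [CfsgLib.TensorSlice.scGL_mul_mulVec, ← hc1]

/-- Equal pairs of isometries. -/
theorem pr_inj {U V U' V' : isoG B₂} (h : hF.pr U V = hF.pr U' V') :
    ∃ c : F, (c = 1 ∨ c = -1) ∧ (∀ x, act U' x = c • act U x) ∧ ∀ y, act V' y = c • act V y := by
  obtain ⟨y₀, hy₀⟩ := hF.aset.exists_ne₁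
  have e : ∀ x y, ten (act U x) (act V y) = ten (act U' x) (act V' y) := fun x y => by
    rw [← hF.pr_ten, h, hF.pr_ten]
  obtain ⟨c, hc, -, hc2⟩ := ten_prop (act_ne U hy₀) (act_ne V hy₀) (e y₀ y₀)
  have hU : ∀ x, act U' x = c • act U x := fun x => by
    refine ten_inj_left (act_ne V' hy₀) ?_
    rw [← e x y₀, hc2, ten_smul_right, ten_smul_left]
  obtain ⟨a, hab⟩ := hF.aset.tset.f₂.exists_one hy₀
  have hc1 : c * c = 1 := by
    have h1 := act_iso U' a y₀
    rw [hU, hU, map_smul, map_smul, LinearMap.smul_apply, act_iso, smul_eq_mul, smul_eq_mul, hab, mul_one] at h1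
    exact h1
  refine ⟨c, mul_self_eq_one_iff.1 hc1, hU, fun y => ?_⟩
  refine ten_inj_right (act_ne U hy₀) ?_
  have h1 := e y₀ y
  rw [hU, ten_smul_left] at h1
  rw [ten_smul_right, h1, smul_smul, hc1, one_smul]

/-- A pair commuting with a pair of reflections keeps both lines. -/
theorem pr_comm_refl {U V : isoG B₂} {e f : Fin 4 → F} (he : B₂ e e ≠ 0) (hf : B₂ f f ≠ 0)
    (h : hF.pr U V * hF.pr (hF.aset.rR e) (hF.aset.rR f) = hF.pr (hF.aset.rR e) (hF.aset.rR f) * hF.pr U V) :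
    (∃ c : F, act U e = c • e) ∧ ∃ c : F, act V f = c • f := by
  rw [hF.pr_mul, hF.pr_mul] at h
  obtain ⟨c, hc, hU, hV⟩ := hF.pr_inj h
  have line : ∀ (W : isoG B₂) (d : Fin 4 → F), B₂ d d ≠ 0 →
      (∀ x, act (hF.aset.rR d * W) x = c • act (W * hF.aset.rR d) x) → ∃ r : F, act W d = r • d := by
    intro W d hd hW
    have self : act (hF.aset.rR d) d = -d := hF.aset.rR_self hd
    have fix1 : ∀ x, B₂ x d = 0 → act (hF.aset.rR d) x = x := fun x hx => hF.aset.rR_fix hd hx
    have key : ∀ x, act (hF.aset.rR d) (act W x) = act W x - (2 * B₂ (act W x) d / B₂ d d) • d := fun x =>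
      hF.aset.rR_apply hd _
    rcases hc with rfl | rfl
    · have h1 := hW d
      rw [act_mul, act_mul, key, one_smul, self, show act W (-d) = - act W d from mulVec_neg _ _] at h1
      refine ⟨B₂ (act W d) d / B₂ d d, smul_right_injective _ hF.aset.two ?_⟩
      show (2 : F) • act W d = (2 : F) • _
      rw [smul_smul, ← mul_div_assoc]
      linear_combination (norm := module) h1
    · -- otherwise a three-dimensional space would be the line
      exfalso
      have hmem : ∀ x, B₂ x d = 0 → act W x ∈ Submodule.span F {d} := fun x hx => by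
        have h1 := hW x
        rw [act_mul, act_mul, key, fix1 x hx, neg_one_smul] at h1
        refine Submodule.mem_span_singleton.2 ⟨B₂ (act W x) d / B₂ d d, smul_right_injective _ hF.aset.two ?_⟩
        show (2 : F) • _ = (2 : F) • act W x
        rw [smul_smul, ← mul_div_assoc]
        linear_combination (norm := module) -h1
      have h3 := CfsgLib.TensorSlice.finrank_perp B₂ (fun _ : Fin 1 => d)
      have hle : (CfsgLib.TensorSlice.perp B₂ (fun _ : Fin 1 => d)).map
          (W.1 : Matrix (Fin 4) (Fin 4) F).mulVecLin ≤ Submodule.span F {d} := by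
        rintro _ ⟨x, hx, rfl⟩
        exact hmem x (CfsgLib.TensorSlice.mem_perp.1 hx 0)
      have := (Submodule.finrank_mono hle).trans (finrank_span_le_card _)
      rw [← (Submodule.equivMapOfInjective _ (mulVec_injective_iff_isUnit.mpr W.1.isUnit) _).finrank_eq] at this
      simp at this
      omega
  exact ⟨line U e he hU, line V f hf hV⟩

end Fl

end CfsgLib.TWGap
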