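import Cfsg.Agent.TensorWreathOrth.Gap.Four.Typ

/-!
# Two factors of dimension four: root elements of the first factor
-/

set_option autoImplicit false
set_option linter.unusedSectionVars false

namespace CfsgLib.TWGap

open Matrix Module CfsgLib.Spinor CfsgLib.OrthMax CfsgLib.TensorOrth
open CfsgLib.TensorMax (Idx ten ten_add_left ten_add_right ten_smul_left ten_smul_right ten_eq_zero
  ten_inj_left ten_inj_right)
open CfsgLib.TensorSlice (ASet IsOrth)

variable {F : Type*} [Field F] [Fintype F] {Q : QuadraticForm F (Idx 4 4 → F)}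
  {B₁ B₂ : LinearMap.BilinForm F (Fin 4 → F)} {J : Isom Q} {M : Subgroup (Isom Q)}

namespace Fl

variable (hF : Fl Q B₁ B₂ J)
include hF

theorem rtL_ten {c z : Fin 4 → F} (hc : B₂ c c = 0) (hz : B₂ z c = 0) (x y : Fin 4 → F) :
    mat Q (J * hF.rt hc hz * J) *ᵥ ten x y = ten (esie B₂ 1 c z (-B₂ z z / 2) x) y := by
  rw [hF.conj_ten, hF.rt_ten, hF.flip]

/-- An element of order `p` of the stabiliser is in `Kr`. -/
theorem kr_of_char {p : ℕ} [CharP F p] {g : Isom Q} (hg : g ∈ hF.Nr) (hp : g ^ p = 1) : g ∈ Kr Q := by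
  have : Fact p.Prime := ⟨CharP.char_is_prime F p⟩
  have hp2 : p ≠ 2 := by
    rintro rfl
    exact hF.aset.two (by exact_mod_cast CharP.cast_eq_zero F 2)
  obtain ⟨j, hj⟩ := (Fact.out : p.Prime).odd_of_ne_two hp2
  have h2 : g = (g * g) ^ (j + 1) := by
    rw [← pow_two, ← pow_mul, show 2 * (j + 1) = p + 1 by omega, pow_succ, hp, one_mul]
  rw [h2]
  exact pow_mem (hF.sq_mem_kr hg) _

theorem rtL_pow {p : ℕ} [CharP F p] {c z : Fin 4 → F} (hc : B₂ c c = 0) (hz : B₂ z c = 0) :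
    (J * hF.rt hc hz * J) ^ p = 1 := by
  rw [← hF.conj_J, conj_pow, hF.rt_pow_char hc hz, mul_one, mul_inv_cancel]

end Fl

namespace GCtx

variable {hF : Fl Q B₁ B₂ J} (hG : GCtx hF M)
include hG

/-- An element conjugating a first-factor root element into the stabiliser is in it. -/
theorem mem_nr_of_fuseL {y : Isom Q} (hy : y ∈ M) {c z : Fin 4 → F} (hc0 : c ≠ 0) (hc : B₂ c c = 0)
    (hz : B₂ z c = 0) (hzz : B₂ z z ≠ 0) (hu : y * (J * hF.rt hc hz * J) * y⁻¹ ∈ Kr Q) : y ∈ hF.Nr := by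
  refine hF.conj_nr.1 (hG.flip.mem_nr_of_fuse (hG.flip_mem hy) hc0 hc hz hzz ?_)
  have hi : (J * y * J)⁻¹ = J * y⁻¹ * J := by
    rw [_root_.mul_inv_rev, _root_.mul_inv_rev, hF.J_inv, mul_assoc]
  rw [hi, show J * y * J * hF.rt hc hz * (J * y⁻¹ * J) = J * (y * (J * hF.rt hc hz * J) * y⁻¹) * J by group]
  exact hF.conj_kr.2 hu

/-- A `p`-subgroup with a first-factor root element lies in `Kr`. -/
theorem pgroup_le_krL {p : ℕ} [Fact p.Prime] [CharP F p] {X : Subgroup (Isom Q)} (hXM : X ≤ M)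
    (hX : IsPGroup p X) {c z : Fin 4 → F} (hc0 : c ≠ 0) (hc : B₂ c c = 0) (hz : B₂ z c = 0)
    (hzz : B₂ z z ≠ 0) (hs : J * hF.rt hc hz * J ∈ X) : X ≤ Kr Q := by
  set φ := (MulAut.conj J).toMonoidHom
  have hmem : ∀ g, g ∈ X.comap φ ↔ J * g * J ∈ X := fun g => by rw [← hF.conj_J]; rfl
  have hX' : IsPGroup p (X.comap φ) :=
    hX.comap_of_injective φ (MulAut.conj J).injective
  have h := hG.flip.pgroup_le_kr (X := X.comap φ) (fun g hg => hXM hg) hX' hc0 hc hz hzz ((hmem _).2 hs)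
  intro g hg
  refine hF.conj_kr.1 (h ((hmem _).2 ?_))
  rwa [hF.conj_conj]

end GCtx

end CfsgLib.TWGap
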