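import Cfsg.Agent.TensorWreathOrth.Gap.Four.Side
import Cfsg.Agent.TensorWreathOrth.Gap.Four.LeftRoot

/-!
# Two factors of dimension four: two reflections of one factor, centralisers and fusion
-/

set_option autoImplicit false
set_option linter.unusedSectionVars false

namespace CfsgLib.TWGap

open Matrix Module CfsgLib.Spinor CfsgLib.OrthMax CfsgLib.TensorOrth
open CfsgLib.TensorMax (Idx ten ten_add_left ten_add_right ten_smul_left ten_smul_right ten_eq_zero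
  ten_inj_left ten_inj_right)
open CfsgLib.TensorSlice (ASet IsOrth)

variable {F : Type*} [Field F] [Fintype F] {Q : QuadraticForm F (Idx 4 4 → F)}
  {B₁ B₂ : LinearMap.BilinForm F (Fin 4 → F)} {J : Isom Q} {M : Subgroup (Isom Q)}

/-- The statement about a plane needed in the field of three elements. -/
def PlaneThree (hF : Fl Q B₁ B₂ J) : Prop :=
  ∀ M : Subgroup (Isom Q), GCtx hF M → Fintype.card F = 3 → ∀ y ∈ M, ∀ e g : Fin 4 → F,
    B₂ e e ≠ 0 → B₂ g g ≠ 0 → B₂ e g = 0 →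
    y * (hF.aset.R e * hF.aset.R g) = hF.aset.R e * hF.aset.R g * y → y ∈ hF.Nr

namespace Fl

variable (hF : Fl Q B₁ B₂ J)
include hF

theorem isOrth_perm {G : Fin 4 → Fin 4 → F} (hG : IsOrth B₂ G) (π : Equiv.Perm (Fin 4)) :
    IsOrth B₂ (fun i => G (π i)) :=
  ⟨fun i => hG.1 _, fun _ _ h => hG.2 _ _ fun h' => h (π.injective h')⟩

theorem conj_kR (V : isoG B₂) : J * hF.aset.kR V * J = hF.kL V := by
  rw [hF.kR_eq_pr, hF.conj_pr, hF.kL_eq_pr]

theorem conj_kL' (U : isoG B₂) : J * hF.kL U * J = hF.aset.kR U := by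
  rw [hF.kL_eq_pr, hF.conj_pr, hF.kR_eq_pr]

/-- A singular vector and an anisotropic one orthogonal to it. -/
theorem exists_root_data : ∃ c z : Fin 4 → F, c ≠ 0 ∧ B₂ c c = 0 ∧ B₂ z c = 0 ∧ B₂ z z ≠ 0 := by
  obtain ⟨E, hE, -⟩ := hF.exists_frame (n := 0) (by omega) (p := Fin.elim0)
    ⟨fun i => i.elim0, fun i => i.elim0⟩
  obtain ⟨a, b, hab⟩ := hF.exists_sol (hE.1 0) (hE.1 1) (-B₂ (E 2) (E 2))
  have e := hE.2
  refine ⟨a • E 0 + b • E 1 + E 2, E 3, fun h => ?_, ?_, ?_, hE.1 3⟩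
  · have h' := congrArg (B₂ · (E 2)) h
    simp [e 0 2, e 1 2] at h'
    exact hE.1 2 h'
  · simp [e 0 1, e 1 0, e 0 2, e 2 0, e 1 2, e 2 1]
    linear_combination hab
  · simp [e 3 0, e 3 1, e 3 2]

end Fl

namespace GCtx

variable {hF : Fl Q B₁ B₂ J} (hG : GCtx hF M)
include hG

/-- An element commuting with two reflections of the second factor. -/
theorem good_sR (hP : PlaneThree hF) {G : Fin 4 → Fin 4 → F} (hGo : IsOrth B₂ G) {τ : Fin 4 → Bool}
    (hτ : wt τ = 2) {y : Isom Q} (hy : y ∈ M)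
    (hc : y * hF.aset.kR (hF.dg G τ) = hF.aset.kR (hF.dg G τ) * y) : y ∈ hF.Nr := by
  obtain ⟨π, hπ⟩ := exists_perm_wt2 τ hτ
  set G' := fun i => G (π i)
  have hG' : IsOrth B₂ G' := hF.isOrth_perm hGo π
  rw [← hF.dg_perm hGo π τ, hπ] at hc
  by_cases h3 : Fintype.card F = 3
  · refine hP M hG h3 y hy (G' 0) (G' 1) (hG'.1 0) (hG'.1 1) (hG'.2 0 1 (by decide)) ?_
    have e : hF.dg G' tauP = hF.aset.rR (G' 0) * hF.aset.rR (G' 1) := by simp [Fl.dg, tauP]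
    rw [e, map_mul] at hc
    exact hc
  by_cases hsq : IsSquare (-(B₂ (G' 0) (G' 0) * B₂ (G' 1) (G' 1)))
  · exact hG.good_sP_wide h3 hG' hsq hy (by rw [hF.sP_kR hG']; exact hc)
  -- the other plane has singular lines
  set σ : Equiv.Perm (Fin 4) := (Equiv.swap 0 2).trans (Equiv.swap 1 3) with hσ
  set G'' := fun i => G' (σ i)
  have hG'' : IsOrth B₂ G'' := hF.isOrth_perm hG' σ
  refine hG.good_sP_wide h3 hG'' ?_ hy ?_
  · have h := hF.frame_nonsq (hG.plane rfl) hG'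
    have hne : ∀ i j, -(B₂ (G' i) (G' i) * B₂ (G' j) (G' j)) ≠ 0 := fun i j =>
      neg_ne_zero.2 (mul_ne_zero (hG'.1 i) (hG'.1 j))
    rw [← neg_mul_neg (B₂ (G' 0) (G' 0) * B₂ (G' 1) (G' 1)), hF.sq_mul_iff (hne 0 1) (hne 2 3)] at h
    show IsSquare (-(B₂ (G' 2) (G' 2) * B₂ (G' 3) (G' 3)))
    tauto
  · rw [hF.sP_kR hG'', show hF.dg G'' tauP = hF.dg G' tauQ from by
      rw [← hF.dg_perm hG' σ tauQ]; congr 1; funext i; fin_cases i <;> rfl]
    have e : hF.aset.kR (hF.dg G' tauQ) = hF.pd G' G' no (fun _ => true) * hF.aset.kR (hF.dg G' tauP) := by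
      rw [Fl.pd, no_eq, hF.dg_false hG', ← hF.kR_eq_pr, ← map_mul, hF.dg_mul hG']
      congr 2
    rw [e, mul_assoc, ← hc, ← mul_assoc, hF.neg_comm hG' hG' (show ty no (fun _ => true) = 1 by decide) y,
      mul_assoc]

/-- An element commuting with two reflections of the first factor. -/
theorem good_sL (hP : PlaneThree hF) {E : Fin 4 → Fin 4 → F} (hE : IsOrth B₂ E) {σ : Fin 4 → Bool}
    (hσ : wt σ = 2) {y : Isom Q} (hy : y ∈ M)
    (hc : y * hF.kL (hF.dg E σ) = hF.kL (hF.dg E σ) * y) : y ∈ hF.Nr := by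
  refine hF.conj_nr.1 (hG.flip.good_sR hP hE hσ (hG.flip_mem hy) ?_)
  rw [← hF.conj_kL', hF.conj_mul, hF.conj_mul, hc]

/-- An element commuting with an element of the second type. -/
theorem good_S (hP : PlaneThree hF) {E G : Fin 4 → Fin 4 → F} (hE : IsOrth B₂ E) (hE' : IsOrth B₂ G)
    {σ τ : Fin 4 → Bool} (h2 : ty σ τ = 2) {y : Isom Q} (hy : y ∈ M)
    (hc : y * hF.pd E G σ τ = hF.pd E G σ τ * y) : y ∈ hF.Nr := by
  have e := forall_signs (fun σ τ => ty σ τ = 2 → (σ = (fun _ => false) ∧ wt τ = 2) ∨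
    (σ = (fun _ => true) ∧ wt τ = 2) ∨ (τ = (fun _ => false) ∧ wt σ = 2) ∨ (τ = (fun _ => true) ∧ wt σ = 2))
    (by decide) σ τ h2
  rcases e with ⟨rfl, hw⟩ | ⟨rfl, hw⟩ | ⟨rfl, hw⟩ | ⟨rfl, hw⟩
  · rw [Fl.pd, hF.dg_false hE, ← hF.kR_eq_pr] at hc
    exact hG.good_sR hP hE' hw hy hc
  · rw [← hF.pd_not hE hE', Fl.pd] at hc
    simp only [Bool.not_true] at hc
    rw [hF.dg_false hE, ← hF.kR_eq_pr] at hc
    refine hG.good_sR hP hE' ?_ hy hc
    exact forall_bool4 (fun τ => wt τ = 2 → wt (fun i => !τ i) = 2) (by decide) τ hw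
  · rw [Fl.pd, hF.dg_false hE', ← hF.kL_eq_pr] at hc
    exact hG.good_sL hP hE hw hy hc
  · rw [← hF.pd_not hE hE', Fl.pd] at hc
    simp only [Bool.not_true] at hc
    rw [hF.dg_false hE', ← hF.kL_eq_pr] at hc
    refine hG.good_sL hP hE ?_ hy hc
    exact forall_bool4 (fun τ => wt τ = 2 → wt (fun i => !τ i) = 2) (by decide) σ hw

/-- An element conjugating one element of the second type to another. -/
theorem fuse_S (hP : PlaneThree hF) {E G E' G' : Fin 4 → Fin 4 → F} (hE : IsOrth B₂ E) (hE' : IsOrth B₂ G)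
    (hE₂ : IsOrth B₂ E') (hE₂' : IsOrth B₂ G') {σ τ σ' τ' : Fin 4 → Bool} (h2 : ty σ τ = 2)
    (h2' : ty σ' τ' = 2) {y : Isom Q} (hy : y ∈ M)
    (hc : y * hF.pd E G σ τ * y⁻¹ = hF.pd E' G' σ' τ') : y ∈ hF.Nr := by
  obtain ⟨p, hp, hchar⟩ : ∃ p, p.Prime ∧ CharP F p :=
    ⟨ringChar F, CharP.char_is_prime F _, ringChar.charP F⟩
  obtain ⟨c, z, hc0, hcc, hz, hzz⟩ := hF.exists_root_data
  have key : ∀ u : Isom Q, u ∈ M → u ^ p = 1 → u * hF.pd E G σ τ = hF.pd E G σ τ * u →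
      y * u * y⁻¹ ∈ Kr Q := by
    intro u hu hup hcu
    refine hF.kr_of_char (hG.good_S hP hE₂ hE₂' h2' (M.mul_mem (M.mul_mem hy hu) (M.inv_mem hy)) ?_)
      (by rw [conj_pow, hup, mul_one, mul_inv_cancel])
    rw [← hc]
    calc y * u * y⁻¹ * (y * hF.pd E G σ τ * y⁻¹) = y * (u * hF.pd E G σ τ) * y⁻¹ := by group
      _ = _ := by rw [hcu]; group
  have e := forall_signs (fun σ τ => ty σ τ = 2 → (σ = (fun _ => false) ∨ σ = (fun _ => true)) ∨
    (τ = (fun _ => false) ∨ τ = (fun _ => true))) (by decide) σ τ h2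
  have hall : ∀ {E : Fin 4 → Fin 4 → F}, IsOrth B₂ E → ∀ U : isoG B₂,
      U * hF.dg E (fun _ => true) = hF.dg E (fun _ => true) * U := fun {E} hE U => hF.aset.isoG_ext fun x => by
    show act (U * _) x = act (_ * U) x
    rw [act_mul, act_mul, hF.dg_all hE, hF.dg_all hE]
    exact mulVec_neg _ _
  rcases e with hσ | hτ
  · refine hG.mem_nr_of_fuseL hy hc0 hcc hz hzz (key _ (hG.rtL_mem hcc hz) (hF.rtL_pow hcc hz) ?_)
    rw [Fl.rt, hF.conj_kR, hF.kL_eq_pr, Fl.pd, hF.pr_mul, hF.pr_mul, one_mul, mul_one]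
    congr 1
    rcases hσ with rfl | rfl
    · rw [hF.dg_false hE, one_mul, mul_one]
    · exact hall hE _
  · refine hG.mem_nr_of_fuse hy hc0 hcc hz hzz (key _ (hG.rt_mem hcc hz) (hF.rt_pow_char hcc hz) ?_)
    rw [Fl.rt, hF.kR_eq_pr, Fl.pd, hF.pr_mul, hF.pr_mul, one_mul, mul_one]
    congr 1
    rcases hτ with rfl | rfl
    · rw [hF.dg_false hE', one_mul, mul_one]
    · exact hall hE' _

end GCtx

end CfsgLib.TWGap
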