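import Cfsg.Agent.TensorWreathOrth.Gap.Four.PairXX

/-!
# Two factors of dimension four: two pairs of reflections of any classes
-/

set_option autoImplicit false
set_option linter.unusedSectionVars false

namespace CfsgLib.TWGap

open Matrix Module CfsgLib.Spinor CfsgLib.OrthMax CfsgLib.TensorOrth
open CfsgLib.TensorMax (Idx ten ten_add_left ten_add_right ten_smul_left ten_smul_right ten_eq_zero
  ten_inj_left ten_inj_right)
open CfsgLib.TensorSlice (ASet IsOrth)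

variable {F : Type*} [Field F] [Fintype F] {Q : QuadraticForm F (Idx 4 4 → F)}
  {B₁ B₂ : LinearMap.BilinForm F (Fin 4 → F)} {J : Isom Q} {M : Subgroup (Isom Q)}

/-- The signs of two reflections of the first factor. -/
def tauAB : Fin 4 → Bool := ![true, false, true, false]

set_option synthInstance.maxSize 1000 in
theorem eq_cases (σ τ : Fin 4 → Bool) : ty σ τ ≠ 6 → ty σ τ ≠ 0 →
    ((∀ k, ty (xv (xv (dl 2) σ) (zz k)) (xv (xv (dl 2) τ) (zz k)) = ty (xv (dl 2) (zz k)) (xv (dl 2) (zz k))) ∨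
      (∀ k, ty (xv (xv (dl 2) σ) (zz k)) (xv (xv (dl 2) τ) (zz k)) = ty (xv tauAB (zz k)) (xv no (zz k)))) →
    (∃ k, ty (xv σ (zz k)) (xv τ (zz k)) = 2) ∨
      (ty (xv σ tauP) (xv τ tauP) = 0 ∧
        ¬ (∀ k, ty (xv (xv (dl 2) σ) (zz k)) (xv (xv (dl 2) τ) (zz k)) = ty (xv tauAB (zz k)) (xv no (zz k)))) :=
  forall_signs (fun σ τ => ty σ τ ≠ 6 → ty σ τ ≠ 0 →
    ((∀ k, ty (xv (xv (dl 2) σ) (zz k)) (xv (xv (dl 2) τ) (zz k)) = ty (xv (dl 2) (zz k)) (xv (dl 2) (zz k))) ∨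
      (∀ k, ty (xv (xv (dl 2) σ) (zz k)) (xv (xv (dl 2) τ) (zz k)) = ty (xv tauAB (zz k)) (xv no (zz k)))) →
    (∃ k, ty (xv σ (zz k)) (xv τ (zz k)) = 2) ∨
      (ty (xv σ tauP) (xv τ tauP) = 0 ∧
        ¬ (∀ k, ty (xv (xv (dl 2) σ) (zz k)) (xv (xv (dl 2) τ) (zz k)) = ty (xv tauAB (zz k)) (xv no (zz k)))))
    (by decide) σ τ

namespace Fl

variable (hF : Fl Q B₁ B₂ J)
include hF

/-- An involution of `Kr` keeping the lines of a frame is diagonal in it. -/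
theorem pd_of_lines {E G : Fin 4 → Fin 4 → F} (hE : IsOrth B₂ E) (hG : IsOrth B₂ G) {U V : isoG B₂}
    (hU : ∀ i, i ≠ 3 → ∃ c : F, act U (E i) = c • E i) (hV : ∀ i, i ≠ 3 → ∃ c : F, act V (G i) = c • G i) :
    ∃ σ τ, hF.pr U V = hF.pd E G σ τ := by
  obtain ⟨σ, rfl⟩ := hF.exists_signs hE hU
  obtain ⟨τ, rfl⟩ := hF.exists_signs hG hV
  exact ⟨σ, τ, rfl⟩

/-- An involution of `Kr` commuting with a pair of reflections is diagonal. -/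
theorem pd_of_comm_X {g : Isom Q} (hg : g ∈ Kr Q) (hg2 : g * g = 1) {e f : Fin 4 → F} (he : B₂ e e ≠ 0)
    (hf : B₂ f f ≠ 0) (h : g * hF.pr (hF.aset.rR e) (hF.aset.rR f) = hF.pr (hF.aset.rR e) (hF.aset.rR f) * g) :
    ∃ E G σ τ, IsOrth B₂ E ∧ IsOrth B₂ G ∧ E 0 = e ∧ G 0 = f ∧ g = hF.pd E G σ τ := by
  obtain ⟨U, V, rfl, hU, hV⟩ := hF.kr_comm_X hg he hf h
  obtain ⟨hU2, hV2⟩ := hF.pr_sq hg2 he hU
  obtain ⟨E, hE, hp, σ, rfl⟩ := hF.exists_diag hU2 3 (n := 1) rfl ![e]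
    ⟨fun i => by fin_cases i; exact he, fun i j hij => absurd (Subsingleton.elim i j) hij⟩
    fun i => by fin_cases i; exact ⟨1, by rw [one_smul]; exact hU⟩
  obtain ⟨G, hG, hq, τ, rfl⟩ := hF.exists_diag hV2 3 (n := 1) rfl ![f]
    ⟨fun i => by fin_cases i; exact hf, fun i j hij => absurd (Subsingleton.elim i j) hij⟩
    fun i => by fin_cases i; exact hV
  exact ⟨E, G, σ, τ, hE, hG, hp 0 0 rfl, hq 0 0 rfl, rfl⟩

end Fl

namespace GCtx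

variable {hF : Fl Q B₁ B₂ J} (hG : GCtx hF M) (hN : ¬ M ≤ hF.Nr) (hP : PlaneThree hF)
include hG hN hP

/-- An element commuting with two pairs of reflections of unequal class. -/
theorem good_pair_ne {e0 e1 f0 f1 : Fin 4 → F} (he0 : B₂ e0 e0 ≠ 0) (he1 : B₂ e1 e1 ≠ 0)
    (hee : B₂ e0 e1 = 0) (hf0 : B₂ f0 f0 ≠ 0) (hf1 : B₂ f1 f1 ≠ 0) (hff : B₂ f0 f1 = 0)
    (hcls : ¬ IsSquare (B₂ e0 e0 * B₂ f0 f0 * (B₂ e1 e1 * B₂ f1 f1))) {y : Isom Q} (hy : y ∈ M)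
    (hc : y * hF.pr (hF.aset.rR e0) (hF.aset.rR f0) = hF.pr (hF.aset.rR e0) (hF.aset.rR f0) * y)
    (hc' : y * hF.pr (hF.aset.rR e1) (hF.aset.rR f1) = hF.pr (hF.aset.rR e1) (hF.aset.rR f1) * y) :
    y ∈ hF.Nr := by
  obtain ⟨E, hE, rfl, rfl⟩ := hF.exists_frame2 he0 he1 hee
  obtain ⟨G, hGo, rfl, rfl⟩ := hF.exists_frame2 hf0 hf1 hff
  set q := fun i => B₂ (E i) (E i)
  set p := fun i => B₂ (G i) (G i)
  have hq : ∀ i j, -(q i * q j) ≠ 0 := fun i j => neg_ne_zero.2 (mul_ne_zero (hE.1 i) (hE.1 j))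
  have hp : ∀ i j, -(p i * p j) ≠ 0 := fun i j => neg_ne_zero.2 (mul_ne_zero (hGo.1 i) (hGo.1 j))
  have hdE := hF.frame_nonsq (hG.plane rfl) hE
  have hdG := hF.frame_nonsq (hG.plane rfl) hGo
  rw [show B₂ (E 0) (E 0) * B₂ (E 1) (E 1) * (B₂ (E 2) (E 2) * B₂ (E 3) (E 3)) =
    -(q 0 * q 1) * -(q 2 * q 3) by simp only [q]; ring, hF.sq_mul_iff (hq 0 1) (hq 2 3)] at hdE
  rw [show B₂ (G 0) (G 0) * B₂ (G 1) (G 1) * (B₂ (G 2) (G 2) * B₂ (G 3) (G 3)) =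
    -(p 0 * p 1) * -(p 2 * p 3) by simp only [p]; ring, hF.sq_mul_iff (hp 0 1) (hp 2 3)] at hdG
  rw [show B₂ (E 0) (E 0) * B₂ (G 0) (G 0) * (B₂ (E 1) (E 1) * B₂ (G 1) (G 1)) =
    -(q 0 * q 1) * -(p 0 * p 1) by simp only [p, q]; ring, hF.sq_mul_iff (hq 0 1) (hp 0 1)] at hcls
  by_cases hs : IsSquare (-(q 2 * q 3))
  · refine hG.good_XX hN hP hE hGo hs (show ¬ IsSquare (-(p 2 * p 3)) by tauto) (mem_cen2.2 ⟨hy, ?_, ?_⟩) <;>
      rw [hF.pd_dl hE hGo] <;> assumption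
  · have hN' : ¬ M.comap (MulAut.conj J).toMonoidHom ≤ hF.Nr := fun h =>
      hN fun g hg => hF.conj_nr.1 (h (hG.flip_mem hg))
    refine hF.conj_nr.1 (hG.flip.good_XX hN' hP hGo hE (show IsSquare (-(p 2 * p 3)) by tauto) hs
      (mem_cen2.2 ⟨hG.flip_mem hy, ?_, ?_⟩))
    · rw [hF.pd_dl hGo hE, ← hF.conj_pr, hF.conj_mul, hF.conj_mul, hc]
    · rw [hF.pd_dl hGo hE, ← hF.conj_pr, hF.conj_mul, hF.conj_mul, hc']

/-- Two pairs of reflections in frames with a third one of another class. -/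
theorem eq_core {E G : Fin 4 → Fin 4 → F} (hE : IsOrth B₂ E) (hGo : IsOrth B₂ G)
    (hcls : ¬ IsSquare (B₂ (E 0) (E 0) * B₂ (G 0) (G 0) * (B₂ (E 2) (E 2) * B₂ (G 2) (G 2)))) {y : Isom Q}
    (hy : y ∈ cen2 M (hF.pd E G (dl 0) (dl 0)) (hF.pd E G (dl 1) (dl 1))) : y ∈ hF.Nr := by
  have hs := hF.aset
  have hpl := hG.plane rfl
  set X := hF.pd E G (dl 0) (dl 0) with hX
  set X' := hF.pd E G (dl 1) (dl 1) with hX'
  set C := cen2 M X X' with hC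
  set a := hF.pd E G (dl 2) (dl 2) with ha
  set b := hF.pd E G tauAB no with hb
  have hcomm : ∀ σ τ σ' τ' : Fin 4 → Bool,
      hF.pd E G σ τ * hF.pd E G σ' τ' = hF.pd E G σ' τ' * hF.pd E G σ τ := fun σ τ σ' τ' => by
    rw [hF.pd_xv hE hGo, hF.pd_xv hE hGo]
    congr 1 <;> funext i <;> exact Bool.xor_comm _ _
  have haC : a ∈ C := mem_cen2.2 ⟨hG.pd_mem hE hGo (by decide), hcomm _ _ _ _, hcomm _ _ _ _⟩
  have hbC : b ∈ C := mem_cen2.2 ⟨hG.pd_mem hE hGo (by decide), hcomm _ _ _ _, hcomm _ _ _ _⟩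
  have hzC : ∀ k, ∀ g ∈ C, g * hF.pd E G (zz k) (zz k) = hF.pd E G (zz k) (zz k) * g := by
    intro k g hg
    obtain ⟨-, h0, h1⟩ := mem_cen2.1 hg
    fin_cases k
    · show g * hF.pd E G no no = hF.pd E G no no * g
      rw [no_eq, hF.pd_false hE hGo, mul_one, one_mul]
    · exact h0
    · exact h1
    · show g * hF.pd E G tauP tauP = hF.pd E G tauP tauP * g
      rw [show hF.pd E G tauP tauP = X * X' from by
        rw [hX, hX', hF.pd_xv hE hGo]; congr 1 <;> funext i <;> fin_cases i <;> rfl]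
      exact (Commute.mul_right h0 h1).eq
  obtain ⟨hyM, hyX, hyX'⟩ := mem_cen2.1 hy
  set t := y * b * y⁻¹ with ht
  have htC : t ∈ C := C.mul_mem (C.mul_mem hy hbC) (C.inv_mem hy)
  obtain ⟨htM, htX, -⟩ := mem_cen2.1 htC
  have ht2 : t * t = 1 := by
    rw [ht, show y * b * y⁻¹ * (y * b * y⁻¹) = y * (b * b) * y⁻¹ by group, hb, hF.pd_sq hE hGo, mul_one,
      mul_inv_cancel]
  suffices htN : t ∈ hF.Nr by
    obtain ⟨E', G', σ, τ, hE', hG', -, -, e⟩ := hF.pd_of_comm_X (hF.mem_kr_of_invol hpl htN (hG.le htM) ht2) ht2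
      (hE.1 0) (hGo.1 0) (by rw [← hF.pd_dl hE hGo, ← hX]; exact htX)
    have hty := hG.ty_conj hN hP hE hGo hE' hG' (σ := tauAB) (τ := no) (by decide) hyM e
    exact hG.fuse_S hP hE hGo hE' hG' (show ty tauAB no = 2 by decide) (hty.trans (by decide)) hyM e
  have hne : ∀ g ∈ C, g * a * g⁻¹ ≠ t := fun g hg h => by
    have h' : y⁻¹ * g * a * (y⁻¹ * g)⁻¹ = b := by
      rw [_root_.mul_inv_rev, inv_inv, show y⁻¹ * g * a * (g⁻¹ * y) = y⁻¹ * (g * a * g⁻¹) * y by group, h, ht]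
      group
    have := hG.ty_conj hN hP hE hGo hE hGo (σ := dl 2) (τ := dl 2) (σ' := tauAB) (τ' := no) (by decide)
      (M.mul_mem (M.inv_mem hyM) (mem_cen2.1 hg).1) h'
    revert this; decide
  obtain ⟨d, hdC, hd2, hd1, hda, hdt, g, hgC, hg⟩ :=
    dihedral_split C haC htC (hF.pd_sq hE hGo _ _) ht2 hne
  obtain ⟨hdM, hdX, hdX'⟩ := mem_cen2.1 hdC
  rw [hX, hF.pd_dl hE hGo] at hdX
  rw [hX', hF.pd_dl hE hGo] at hdX'
  have hda' : d * hF.pr (hs.rR (E 2)) (hs.rR (G 2)) = hF.pr (hs.rR (E 2)) (hs.rR (G 2)) * d := by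
    rw [← hF.pd_dl hE hGo]; exact hda
  have hdN : d ∈ hF.Nr := hG.good_pair_ne hN hP (hE.1 0) (hE.1 2) (hE.2 0 2 (by decide)) (hGo.1 0) (hGo.1 2)
    (hGo.2 0 2 (by decide)) hcls hdM hdX hda'
  obtain ⟨U, V, rfl, hU0, hV0⟩ := hF.kr_comm_X (hF.mem_kr_of_invol hpl hdN (hG.le hdM) hd2) (hE.1 0) (hGo.1 0) hdX
  obtain ⟨hU1, hV1⟩ := hF.pr_comm_refl (U := U) (V := V) (hE.1 1) (hGo.1 1) hdX'
  obtain ⟨hU2, hV2⟩ := hF.pr_comm_refl (U := U) (V := V) (hE.1 2) (hGo.1 2) hda'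
  obtain ⟨σ, τ, hd⟩ := hF.pd_of_lines hE hGo (U := U) (V := V)
    (fun i hi => by
      fin_cases i
      exacts [⟨1, by rw [one_smul]; exact hU0⟩, hU1, hU2, absurd rfl hi])
    (fun i hi => by
      fin_cases i
      exacts [hV0, hV1, hV2, absurd rfl hi])
  rw [hd] at hd1 hdM hdt hg hdC
  have h6 := hG.ty_ne hN hE hGo hdM
  have h0 : ty σ τ ≠ 0 := fun h => hd1 (hF.ty_one hE hGo h)
  have tr : ∀ {σw τw : Fin 4 → Bool} {h : Isom Q}, h ∈ C → h * hF.pd E G σw τw * h⁻¹ = a * hF.pd E G σ τ →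
      ∀ k, ty (xv σw (zz k)) (xv τw (zz k)) ≠ 6 →
      ty (xv (xv (dl 2) σ) (zz k)) (xv (xv (dl 2) τ) (zz k)) = ty (xv σw (zz k)) (xv τw (zz k)) := by
    intro σw τw h hh hw k hk
    refine hG.ty_conj hN hP hE hGo hE hGo hk (mem_cen2.1 hh).1 ?_
    rw [← hF.pd_xv hE hGo, ← hF.pd_xv hE hGo, ← hF.pd_xv hE hGo, ← ha, ← hw,
      show h * (hF.pd E G σw τw * hF.pd E G (zz k) (zz k)) * h⁻¹ =
        h * hF.pd E G σw τw * (hF.pd E G (zz k) (zz k) * h⁻¹) by group,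
      ← (hzC k h⁻¹ (C.inv_mem hh)), ← mul_assoc]
  have hodd : g * t * g⁻¹ = a * hF.pd E G σ τ → ∀ k,
      ty (xv (xv (dl 2) σ) (zz k)) (xv (xv (dl 2) τ) (zz k)) = ty (xv tauAB (zz k)) (xv no (zz k)) := fun hg k =>
    tr (C.mul_mem hgC hy) (by rw [← hg, ht, hb]; group) k (by revert k; decide)
  have hrel : (∀ k, ty (xv (xv (dl 2) σ) (zz k)) (xv (xv (dl 2) τ) (zz k)) =
        ty (xv (dl 2) (zz k)) (xv (dl 2) (zz k))) ∨
      (∀ k, ty (xv (xv (dl 2) σ) (zz k)) (xv (xv (dl 2) τ) (zz k)) = ty (xv tauAB (zz k)) (xv no (zz k))) := by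
    rcases hg with ⟨hg, -⟩ | hg
    · exact Or.inl fun k => tr hgC (by rw [← ha]; exact hg) k (by revert k; decide)
    · exact Or.inr (hodd hg)
  rcases eq_cases σ τ h6 h0 hrel with ⟨k, hk⟩ | ⟨hz, hno⟩
  · refine hG.good_S hP hE hGo hk htM ?_
    rw [← hF.pd_xv hE hGo]
    exact (Commute.mul_right (Commute.symm hdt) (hzC k t htC)).eq
  exfalso
  rcases hg with ⟨-, hg⟩ | hg
  swap
  · exact hno (hodd hg)
  -- the splitting element is central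
  have hdz : hF.pd E G σ τ = hF.pd E G tauP tauP := by
    have h := hF.ty_one hE hGo hz
    rw [← hF.pd_xv hE hGo, mul_eq_one_iff_eq_inv, hF.pd_inv hE hGo] at h
    exact h
  rw [hdz] at hg
  have hzy : y * hF.pd E G tauP tauP = hF.pd E G tauP tauP * y := hzC 3 y hy
  have h' : (y⁻¹ * g * y) * b * (y⁻¹ * g * y)⁻¹ = hF.pd E G (xv tauAB tauP) (xv no tauP) := by
    rw [← hF.pd_xv hE hGo, ← hb,
      show y⁻¹ * g * y * b * (y⁻¹ * g * y)⁻¹ = y⁻¹ * (g * (y * b * y⁻¹) * g⁻¹) * y by group, ← ht, hg, ht,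
      show y⁻¹ * (y * b * y⁻¹ * hF.pd E G tauP tauP) * y = b * y⁻¹ * (hF.pd E G tauP tauP * y) by group, ← hzy]
    group
  have := hG.ty_conj hN hP hE hGo hE hGo (σ := tauAB) (τ := no) (by decide)
    (M.mul_mem (M.mul_mem (M.inv_mem hyM) (mem_cen2.1 hgC).1) hyM) h'
  revert this; decide

/-- An element commuting with two pairs of reflections. -/
theorem good_pair {e0 e1 f0 f1 : Fin 4 → F} (he0 : B₂ e0 e0 ≠ 0) (he1 : B₂ e1 e1 ≠ 0)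
    (hee : B₂ e0 e1 = 0) (hf0 : B₂ f0 f0 ≠ 0) (hf1 : B₂ f1 f1 ≠ 0) (hff : B₂ f0 f1 = 0) {y : Isom Q}
    (hy : y ∈ M)
    (hc : y * hF.pr (hF.aset.rR e0) (hF.aset.rR f0) = hF.pr (hF.aset.rR e0) (hF.aset.rR f0) * y)
    (hc' : y * hF.pr (hF.aset.rR e1) (hF.aset.rR f1) = hF.pr (hF.aset.rR e1) (hF.aset.rR f1) * y) :
    y ∈ hF.Nr := by
  obtain ⟨E, hE, rfl, rfl⟩ := hF.exists_frame2 he0 he1 hee
  obtain ⟨G, hGo, rfl, rfl⟩ := hF.exists_frame2 hf0 hf1 hff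
  obtain ⟨ν, hν0, hν⟩ := hF.exists_nonsq
  set m := B₂ (E 0) (E 0) * B₂ (G 0) (G 0) * B₂ (G 2) (G 2) with hm
  have hm0 : m ≠ 0 := mul_ne_zero (mul_ne_zero (hE.1 0) (hGo.1 0)) (hGo.1 2)
  obtain ⟨E', hE', h0, h1, h2⟩ := hF.turn_to hE (div_ne_zero hν0 hm0)
  refine hG.eq_core hN hP hE' hGo ?_ (y := y) (mem_cen2.2 ⟨hy, ?_, ?_⟩)
  · rw [h0, h2, show B₂ (E 0) (E 0) * B₂ (G 0) (G 0) * (ν / m * B₂ (G 2) (G 2)) = m * (ν / m) by rw [hm]; ring,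
      mul_div_cancel₀ _ hm0]
    exact hν
  · rw [hF.pd_dl hE' hGo, h0]; exact hc
  · rw [hF.pd_dl hE' hGo, h1]; exact hc'

end GCtx

end CfsgLib.TWGap
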