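import Cfsg.Agent.TensorWreathOrth.Gap.Four.Diag

/-!
# Two factors of dimension four: the centraliser of two pairs of reflections
-/

set_option autoImplicit false
set_option linter.unusedSectionVars false

namespace CfsgLib.TWGap

open Matrix Module CfsgLib.Spinor CfsgLib.OrthMax CfsgLib.TensorOrth
open CfsgLib.TensorMax (Idx ten ten_add_left ten_add_right ten_smul_left ten_smul_right ten_eq_zero
  ten_inj_left ten_inj_right)
open CfsgLib.TensorSlice (ASet IsOrth)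

variable {F : Type*} [Field F] [Fintype F] {Q : QuadraticForm F (Idx 4 4 → F)}
  {B₁ B₂ : LinearMap.BilinForm F (Fin 4 → F)} {J : Isom Q} {M : Subgroup (Isom Q)}

/-- The sum of two sign vectors. -/
def xv (σ τ : Fin 4 → Bool) : Fin 4 → Bool := fun i => xor (σ i) (τ i)

/-- The sign of one vector. -/
def dl (i : Fin 4) : Fin 4 → Bool := fun k => decide (k = i)

/-- The signs of the four central elements. -/
def zz : Fin 4 → Fin 4 → Bool := ![no, dl 0, dl 1, tauP]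

/-- The signs of the reflections used for the splitting. -/
def tauAC : Fin 4 → Bool := ![true, false, true, false]

set_option synthInstance.maxSize 1000 in
theorem xx_cases (σ τ : Fin 4 → Bool) : ty σ τ ≠ 6 → ty σ τ ≠ 0 →
    ((∀ k, ty (xv (xv no σ) (zz k)) (xv (xv tauAC τ) (zz k)) = ty (xv no (zz k)) (xv tauAC (zz k))) ∨
      (∀ k, ty (xv (xv no σ) (zz k)) (xv (xv tauAC τ) (zz k)) = ty (xv (dl 2) (zz k)) (xv (dl 2) (zz k)))) →
    (∃ k, ty (xv σ (zz k)) (xv τ (zz k)) = 2) ∨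
      (σ 1 = !σ 0 ∧ σ 3 = !σ 2 ∧ ∀ i, τ i = ![σ 0, !σ 0, σ 0, !σ 0] i) :=
  forall_signs (fun σ τ => ty σ τ ≠ 6 → ty σ τ ≠ 0 →
    ((∀ k, ty (xv (xv no σ) (zz k)) (xv (xv tauAC τ) (zz k)) = ty (xv no (zz k)) (xv tauAC (zz k))) ∨
      (∀ k, ty (xv (xv no σ) (zz k)) (xv (xv tauAC τ) (zz k)) = ty (xv (dl 2) (zz k)) (xv (dl 2) (zz k)))) →
    (∃ k, ty (xv σ (zz k)) (xv τ (zz k)) = 2) ∨
      (σ 1 = !σ 0 ∧ σ 3 = !σ 2 ∧ ∀ i, τ i = ![σ 0, !σ 0, σ 0, !σ 0] i)) (by decide) σ τ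

namespace Fl

variable (hF : Fl Q B₁ B₂ J)
include hF

theorem pd_xv {E G : Fin 4 → Fin 4 → F} (hE : IsOrth B₂ E) (hG : IsOrth B₂ G) (σ τ σ' τ' : Fin 4 → Bool) :
    hF.pd E G σ τ * hF.pd E G σ' τ' = hF.pd E G (xv σ σ') (xv τ τ') := hF.pd_mul hE hG σ τ σ' τ'

theorem dg_dl {E : Fin 4 → Fin 4 → F} (hE : IsOrth B₂ E) (i : Fin 4) : hF.dg E (dl i) = hF.aset.rR (E i) :=
  hF.dg_single hE i

theorem pd_dl {E G : Fin 4 → Fin 4 → F} (hE : IsOrth B₂ E) (hG : IsOrth B₂ G) (i j : Fin 4) :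
    hF.pd E G (dl i) (dl j) = hF.pr (hF.aset.rR (E i)) (hF.aset.rR (G j)) := by
  rw [pd, hF.dg_dl hE, hF.dg_dl hG]

theorem dg_two {E E' : Fin 4 → Fin 4 → F} (h0 : E' 0 = E 0) (h1 : E' 1 = E 1) {σ : Fin 4 → Bool}
    (h2 : σ 2 = false) (h3 : σ 3 = false) : hF.dg E' σ = hF.dg E σ := by
  simp [dg, h0, h1, h2, h3]

end Fl

namespace GCtx

variable {hF : Fl Q B₁ B₂ J} (hG : GCtx hF M) (hN : ¬ M ≤ hF.Nr) (hP : PlaneThree hF)
include hG hN hP

/-- One splitting step for two pairs of reflections. -/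
theorem xx_step {E G G' : Fin 4 → Fin 4 → F} (hE : IsOrth B₂ E) (hGo : IsOrth B₂ G) (hGo' : IsOrth B₂ G')
    (hg0 : G' 0 = G 0) (hg1 : G' 1 = G 1) {y : Isom Q}
    (hy : y ∈ cen2 M (hF.pd E G (dl 0) (dl 0)) (hF.pd E G (dl 1) (dl 1))) :
    y * hF.pd E G (dl 2) (dl 2) * y⁻¹ ∈ hF.Nr ∨
      ∃ u, B₂ u u ≠ 0 ∧ B₂ u (E 0) = 0 ∧ B₂ u (E 1) = 0 ∧
        Commute (y * hF.pd E G (dl 2) (dl 2) * y⁻¹)
          (hF.pr (hF.aset.rR (E 1) * hF.aset.rR u) (hF.aset.rR (G 1) * hF.aset.rR (G' 3))) := by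
  have hs := hF.aset
  have hpl := hG.plane rfl
  set X := hF.pd E G (dl 0) (dl 0) with hX
  set X' := hF.pd E G (dl 1) (dl 1) with hX'
  set C := cen2 M X X' with hC
  set b := hF.pd E G (dl 2) (dl 2) with hb
  set a := hF.pd E G' no tauAC with ha
  have zE : ∀ (E' : Fin 4 → Fin 4 → F) (G'' : Fin 4 → Fin 4 → F), E' 0 = E 0 → E' 1 = E 1 → G'' 0 = G 0 →
      G'' 1 = G 1 → ∀ k, hF.pd E' G'' (zz k) (zz k) = hF.pd E G (zz k) (zz k) := by
    intro E' G'' e0 e1 g0 g1 k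
    have h2 : zz k 2 = false ∧ zz k 3 = false := by revert k; decide
    rw [Fl.pd, Fl.pd, hF.dg_two e0 e1 h2.1 h2.2, hF.dg_two g0 g1 h2.1 h2.2]
  set z := fun k => hF.pd E G (zz k) (zz k) with hz
  have hzC : ∀ k, ∀ g ∈ C, g * z k = z k * g := by
    intro k g hg
    obtain ⟨-, h0, h1⟩ := mem_cen2.1 hg
    fin_cases k
    · show g * hF.pd E G no no = hF.pd E G no no * g
      rw [no_eq, hF.pd_false hE hGo, mul_one, one_mul]
    · exact h0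
    · exact h1
    · show g * hF.pd E G tauP tauP = hF.pd E G tauP tauP * g
      rw [show hF.pd E G tauP tauP = X * X' from by
        rw [hX, hX', hF.pd_xv hE hGo]; congr 1 <;> funext i <;> fin_cases i <;> rfl]
      exact (Commute.mul_right h0 h1).eq
  have haX : a = hF.pr 1 (hs.rR (G 0) * hs.rR (G' 2)) := by
    rw [ha, Fl.pd, no_eq, hF.dg_false hE]
    congr 1
    simp [Fl.dg, tauAC, hg0]
  have hXr : X = hF.pr (hs.rR (E 0)) (hs.rR (G 0)) := hF.pd_dl hE hGo 0 0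
  have hX'r : X' = hF.pr (hs.rR (E 1)) (hs.rR (G 1)) := hF.pd_dl hE hGo 1 1
  have hXE : X = hF.pd E G' (dl 0) (dl 0) := by rw [hXr, hF.pd_dl hE hGo', hg0]
  have hX'E : X' = hF.pd E G' (dl 1) (dl 1) := by rw [hX'r, hF.pd_dl hE hGo', hg1]
  obtain ⟨hyM, hyX, hyX'⟩ := mem_cen2.1 hy
  have haC : a ∈ C := by
    refine mem_cen2.2 ⟨hG.pd_mem hE hGo' (by decide), ?_, ?_⟩
    · rw [hXE, ha, hF.pd_xv hE hGo', hF.pd_xv hE hGo']
      congr 1 <;> funext i <;> exact Bool.xor_comm _ _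
    · rw [hX'E, ha, hF.pd_xv hE hGo', hF.pd_xv hE hGo']
      congr 1 <;> funext i <;> exact Bool.xor_comm _ _
  have hbC : b ∈ C := by
    refine mem_cen2.2 ⟨hG.pd_mem hE hGo (by decide), ?_, ?_⟩
    · rw [hX, hb, hF.pd_xv hE hGo, hF.pd_xv hE hGo]
      congr 1 <;> funext i <;> exact Bool.xor_comm _ _
    · rw [hX', hb, hF.pd_xv hE hGo, hF.pd_xv hE hGo]
      congr 1 <;> funext i <;> exact Bool.xor_comm _ _
  set t := y * b * y⁻¹ with ht
  have htC : t ∈ C := C.mul_mem (C.mul_mem hy hbC) (C.inv_mem hy)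
  have htM : t ∈ M := (mem_cen2.1 htC).1
  have ht2 : t * t = 1 := by
    rw [ht, show y * b * y⁻¹ * (y * b * y⁻¹) = y * (b * b) * y⁻¹ by group, hb, hF.pd_sq hE hGo, mul_one,
      mul_inv_cancel]
  have hne : ∀ g ∈ C, g * a * g⁻¹ ≠ t := fun g hg h => by
    have h' : y⁻¹ * g * a * (y⁻¹ * g)⁻¹ = b := by
      rw [_root_.mul_inv_rev, inv_inv, show y⁻¹ * g * a * (g⁻¹ * y) = y⁻¹ * (g * a * g⁻¹) * y by group, h, ht]
      group
    have := hG.ty_conj hN hP hE hGo' hE hGo (σ := no) (τ := tauAC) (σ' := dl 2) (τ' := dl 2) (by decide)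
      (M.mul_mem (M.inv_mem hyM) (mem_cen2.1 hg).1) h'
    revert this; decide
  obtain ⟨d, hdC, hd2, hd1, hda, hdt, g, hgC, hg⟩ :=
    dihedral_split C haC htC (hF.pd_sq hE hGo' _ _) ht2 hne
  obtain ⟨hdM, hdX, hdX'⟩ := mem_cen2.1 hdC
  have hdN : d ∈ hF.Nr := hG.good_S hP hE hGo' (σ := no) (τ := tauAC) (by decide) hdM hda
  obtain ⟨U, V, rfl, hU0, hV0⟩ := hF.kr_comm_X (hF.mem_kr_of_invol hpl hdN (hG.le hdM) hd2) (hE.1 0) (hGo.1 0)
    (by rw [← hXr]; exact hdX)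
  obtain ⟨hU1, hV1⟩ := hF.pr_comm_refl (U := U) (V := V) (hE.1 1) (hGo.1 1) (by rw [← hX'r]; exact hdX')
  have haX' : X * a = hF.pr (hs.rR (E 0)) (hs.rR (G' 2)) := by
    rw [haX, hXr, hF.pr_mul, mul_one, ← mul_assoc, hs.rR_sq, one_mul]
  obtain ⟨-, hV2⟩ := hF.pr_comm_refl (U := U) (V := V) (hE.1 0) (hGo'.1 2)
    (by rw [← haX']; exact (Commute.mul_right hdX hda).eq)
  obtain ⟨hU2, -⟩ := hF.pr_sq hd2 (hE.1 0) hU0
  obtain ⟨E', hE', hp, σ, rfl⟩ := hF.exists_diag hU2 2 (n := 2) rfl ![E 0, E 1]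
    ⟨fun i => by fin_cases i <;> exact hE.1 _, fun i j hij => by
      fin_cases i <;> fin_cases j <;> first | exact absurd rfl hij | exact hE.2 _ _ (by decide)⟩
    fun i => by
      fin_cases i
      · exact ⟨1, by rw [one_smul]; exact hU0⟩
      · exact hU1
  have e0 : E' 0 = E 0 := hp 0 0 rfl
  have e1 : E' 1 = E 1 := hp 1 1 rfl
  obtain ⟨τ, rfl⟩ := hF.exists_signs hGo' (U := V) fun i hi => by
    fin_cases i
    · show ∃ c : F, act V (G' 0) = c • G' 0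
      rw [hg0]; exact hV0
    · show ∃ c : F, act V (G' 1) = c • G' 1
      rw [hg1]; exact hV1
    · exact hV2
    · exact absurd rfl hi
  have hdpd : hF.pr (hF.dg E' σ) (hF.dg G' τ) = hF.pd E' G' σ τ := rfl
  rw [hdpd] at hd1 hdM hdt hg hdC
  have h6 := hG.ty_ne hN hE' hGo' hdM
  have h0 : ty σ τ ≠ 0 := fun h => hd1 (hF.ty_one hE' hGo' h)
  have haE' : a = hF.pd E' G' no tauAC := by
    rw [ha, Fl.pd, Fl.pd, no_eq, hF.dg_false hE, hF.dg_false hE']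
  have hzE' : ∀ k, z k = hF.pd E' G' (zz k) (zz k) := fun k => (zE E' G' e0 e1 hg0 hg1 k).symm
  have hrel : (∀ k, ty (xv (xv no σ) (zz k)) (xv (xv tauAC τ) (zz k)) = ty (xv no (zz k)) (xv tauAC (zz k))) ∨
      (∀ k, ty (xv (xv no σ) (zz k)) (xv (xv tauAC τ) (zz k)) = ty (xv (dl 2) (zz k)) (xv (dl 2) (zz k))) := by
    have tr : ∀ {w : Isom Q} {h : Isom Q}, h ∈ C → h * w * h⁻¹ = a * hF.pd E' G' σ τ → ∀ k,
        h * (w * z k) * h⁻¹ = hF.pd E' G' (xv (xv no σ) (zz k)) (xv (xv tauAC τ) (zz k)) := by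
      intro w h hh hw k
      have e : h * (w * z k) * h⁻¹ = a * hF.pd E' G' σ τ * z k := by
        rw [← hw, show h * (w * z k) * h⁻¹ = h * w * (z k * h⁻¹) by group,
          ← (hzC k h⁻¹ (C.inv_mem hh)), ← mul_assoc]
      rw [e, haE', hzE', hF.pd_xv hE' hGo', hF.pd_xv hE' hGo']
    rcases hg with ⟨hg, -⟩ | hg
    · refine Or.inl fun k => hG.ty_conj hN hP hE hGo' hE' hGo' ?_ (mem_cen2.1 hgC).1 ?_
      · revert k; decide
      · rw [← tr hgC hg k]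
        show _ = g * (a * hF.pd E G (zz k) (zz k)) * g⁻¹
        rw [← zE E G' rfl rfl hg0 hg1 k, ha, hF.pd_xv hE hGo']
    · refine Or.inr fun k => hG.ty_conj hN hP hE hGo hE' hGo' ?_ (mem_cen2.1 (C.mul_mem hgC hy)).1 ?_
      · revert k; decide
      · rw [← tr (C.mul_mem hgC hy) (w := b) (by rw [← hg, ht]; group) k]
        show _ = g * y * (b * hF.pd E G (zz k) (zz k)) * (g * y)⁻¹
        rw [hb, hF.pd_xv hE hGo]
  rcases xx_cases σ τ h6 h0 hrel with ⟨k, hk⟩ | ⟨h1, h3, h4⟩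
  · refine Or.inl (hG.good_S hP hE' hGo' hk htM ?_)
    rw [← hF.pd_xv hE' hGo', ← hzE']
    exact (Commute.mul_right (Commute.symm hdt) (hzC k t htC)).eq
  right
  have key : ∀ s : Bool, Commute t (hF.pd E' G' ![false, true, s, !s] ![false, true, false, true]) →
      ∃ u, B₂ u u ≠ 0 ∧ B₂ u (E 0) = 0 ∧ B₂ u (E 1) = 0 ∧
        Commute t (hF.pr (hs.rR (E 1) * hs.rR u) (hs.rR (G 1) * hs.rR (G' 3))) := by
    intro s hcm
    have eτ : hF.dg G' ![false, true, false, true] = hs.rR (G 1) * hs.rR (G' 3) := by simp [Fl.dg, hg1]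
    cases s
    · refine ⟨E' 3, hE'.1 3, by rw [← e0]; exact hE'.2 3 0 (by decide), by rw [← e1]; exact hE'.2 3 1 (by decide), ?_⟩
      rw [Fl.pd, eτ] at hcm
      simpa [Fl.dg, e1] using hcm
    · refine ⟨E' 2, hE'.1 2, by rw [← e0]; exact hE'.2 2 0 (by decide), by rw [← e1]; exact hE'.2 2 1 (by decide), ?_⟩
      rw [Fl.pd, eτ] at hcm
      simpa [Fl.dg, e1] using hcm
  have hcm : Commute t (hF.pd E' G' σ τ) := Commute.symm hdt
  rcases Bool.eq_false_or_eq_true (σ 0) with hσ0 | hσ0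
  · refine key (!σ 2) ?_
    rw [← hF.pd_not hE' hGo']
    convert hcm using 2
    · funext i; fin_cases i <;> simp [hσ0, h1, h3]
    · funext i; rw [h4]; fin_cases i <;> simp [hσ0]
  · refine key (σ 2) ?_
    convert hcm using 2
    · funext i; fin_cases i <;> simp [hσ0, h1, h3]
    · funext i; rw [h4]; fin_cases i <;> simp [hσ0]

/-- The conjugate of the splitting pair stays in the normaliser. -/
theorem xx_mem {E G : Fin 4 → Fin 4 → F} (hE : IsOrth B₂ E) (hGo : IsOrth B₂ G)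
    (hsq : IsSquare (-(B₂ (E 2) (E 2) * B₂ (E 3) (E 3))))
    (hel : ¬ IsSquare (-(B₂ (G 2) (G 2) * B₂ (G 3) (G 3)))) {y : Isom Q}
    (hy : y ∈ cen2 M (hF.pd E G (dl 0) (dl 0)) (hF.pd E G (dl 1) (dl 1))) :
    y * hF.pd E G (dl 2) (dl 2) * y⁻¹ ∈ hF.Nr := by
  have hs := hF.aset
  set p := B₂ (G 2) (G 2)
  set p' := B₂ (G 3) (G 3)
  have hp : p ≠ 0 := hGo.1 2
  have hp' : p' ≠ 0 := hGo.1 3
  have hsum : p + p' ≠ 0 := fun h => hel ⟨p, by linear_combination (-p) * h⟩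
  have hturn := hF.turn hGo (α := 1) (β := 1) (by
    simp [hGo.2 2 3, hGo.2 3 2]; exact hsum)
  set G'' := ![G 0, G 1, (1 : F) • G 2 + (1 : F) • G 3, ((1 : F) * p') • G 2 - ((1 : F) * p) • G 3] with hG''
  set t := y * hF.pd E G (dl 2) (dl 2) * y⁻¹ with ht
  rcases hG.xx_step hN hP hE hGo hGo rfl rfl hy with h | ⟨u, hu, hu0, hu1, hc⟩
  · exact h
  rcases hG.xx_step hN hP hE hGo (G' := G'') hturn rfl rfl hy with h | ⟨v, hv, hv0, hv1, hc'⟩
  · exact h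
  set k := G'' 3 with hk
  have hkk : B₂ k k ≠ 0 := hturn.1 3
  have hk' : k = (-p) • G 3 + p' • G 2 := by
    rw [hk, hG'']; show ((1 : F) * p') • G 2 - ((1 : F) * p) • G 3 = _; module
  set W := hs.rR (G 3) * hs.rR k with hW
  have he1 : ∀ x : Fin 4 → F, B₂ x x ≠ 0 → B₂ x (E 1) = 0 →
      hs.rR (E 1) * hs.rR x = hs.rR x * hs.rR (E 1) := fun x hx hx1 =>
    hF.refl_orth_comm (hE.1 1) hx (by rw [hs.symm₂]; exact hx1)
  have hg1 : hs.rR (G 1) * hs.rR (G 3) = hs.rR (G 3) * hs.rR (G 1) :=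
    hF.refl_orth_comm (hGo.1 1) (hGo.1 3) (hGo.2 1 3 (by decide))
  have hcc : Commute t (hF.pr (hs.rR u * hs.rR v) W) := by
    have h := hc.mul_right hc'
    rwa [hF.pr_mul,
      show hs.rR (E 1) * hs.rR u * (hs.rR (E 1) * hs.rR v) = hs.rR u * hs.rR v by
        rw [he1 u hu hu1, mul_assoc (hs.rR u), ← mul_assoc (hs.rR (E 1)), hs.rR_sq, one_mul],
      show hs.rR (G 1) * hs.rR (G 3) * (hs.rR (G 1) * hs.rR k) = W by
        rw [hg1, mul_assoc (hs.rR (G 3)), ← mul_assoc (hs.rR (G 1)), hs.rR_sq, one_mul]] at h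
  have hpw := hcc.pow_right (Fintype.card F - 1)
  rw [hF.pr_pow, hF.hyp_pow hE hsq hu hv hu0 hu1 hv0 hv1, ← hF.kR_eq_pr] at hpw
  have hfix : ∀ i : Fin 4, i = 0 ∨ i = 1 → act W (G i) = G i := by
    intro i hi
    have hik : B₂ (G i) k = 0 := by
      rw [hk']; rcases hi with rfl | rfl <;> simp [hGo.2 0 3, hGo.2 0 2, hGo.2 1 3, hGo.2 1 2]
    rw [hW, act_mul, show act (hs.rR k) (G i) = G i from hs.rR_fix hkk hik]
    exact hs.rR_fix (hGo.1 3) (hGo.2 i 3 (by rcases hi with rfl | rfl <;> decide))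
  have hD : (-p) * (-p) * p' + p' * p' * p ≠ 0 := by
    rw [show (-p) * (-p) * p' + p' * p' * p = p * p' * (p + p') by ring]
    exact mul_ne_zero (mul_ne_zero hp hp') hsum
  obtain ⟨r3, r2⟩ := hF.refl_sum (hs.rR_sq (G 3)) (hs.rR_sq k) (g := G 3) (g' := G 2) (α := -p) (β := p')
    (hs.rR_self (hGo.1 3)) (hs.rR_fix (hGo.1 3) (hGo.2 2 3 (by decide)))
    (by rw [← hk']; exact hs.rR_self hkk)
    (hs.rR_fix hkk (by rw [hk']; simp [hGo.2 2 3, hGo.2 3 2, p, p']; ring))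
    hD
  have hns := hF.refl_sum_nonsq (a := p') (b := p) (by rwa [mul_comm]) (neg_ne_zero.2 hp) hp' hD
  obtain ⟨s', hs', w2, w3⟩ := hF.rot_pow (U := W) hGo hel hns
    (fun i hi => ⟨1, one_ne_zero, by rw [one_smul]; exact hfix i hi⟩) r2 r3
  have hfixn : ∀ (n : ℕ) (i : Fin 4), i = 0 ∨ i = 1 → act (W ^ n) (G i) = G i := fun n i hi => by
    induction n with
    | zero => rw [pow_zero, act_one]
    | succ n ih => rw [pow_succ, act_mul, hfix i hi, ih]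
  have hgood := hF.comm_turn hGo hs' (hfixn _ 0 (Or.inl rfl)) (hfixn _ 1 (Or.inr rfl)) w2 w3 hpw.eq
  exact hG.good_sR hP hGo (by decide)
    (M.mul_mem (M.mul_mem (mem_cen2.1 hy).1 (hG.pd_mem hE hGo (by decide))) (M.inv_mem (mem_cen2.1 hy).1)) hgood

/-- An element commuting with two pairs of reflections of unequal class. -/
theorem good_XX {E G : Fin 4 → Fin 4 → F} (hE : IsOrth B₂ E) (hGo : IsOrth B₂ G)
    (hsq : IsSquare (-(B₂ (E 2) (E 2) * B₂ (E 3) (E 3))))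
    (hel : ¬ IsSquare (-(B₂ (G 2) (G 2) * B₂ (G 3) (G 3)))) {y : Isom Q}
    (hy : y ∈ cen2 M (hF.pd E G (dl 0) (dl 0)) (hF.pd E G (dl 1) (dl 1))) : y ∈ hF.Nr := by
  have hs := hF.aset
  set π : Equiv.Perm (Fin 4) := Equiv.swap 2 3
  have hG₂ : IsOrth B₂ (fun i => G (π i)) := hF.isOrth_perm hGo π
  have hyM := (mem_cen2.1 hy).1
  have h := hG.xx_mem hN hP hE hGo hsq hel hy
  have h' := hG.xx_mem hN hP hE hG₂ hsq (by
    show ¬ IsSquare (-(B₂ (G 3) (G 3) * B₂ (G 2) (G 2)))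
    rwa [mul_comm]) (y := y) (by
    rw [hF.pd_dl hE hG₂, hF.pd_dl hE hG₂]
    rw [hF.pd_dl hE hGo, hF.pd_dl hE hGo] at hy
    exact hy)
  rw [hF.pd_dl hE hGo] at h
  rw [hF.pd_dl hE hG₂] at h'
  change y * hF.pr (hs.rR (E 2)) (hs.rR (G 3)) * y⁻¹ ∈ hF.Nr at h'
  obtain ⟨a, b, ha, hb, e⟩ := hG.X_conj hN hyM (hE.1 2) (hGo.1 2) h
  obtain ⟨a', b', ha', hb', e'⟩ := hG.X_conj hN hyM (hE.1 2) (hGo.1 3) h'
  have mul3 : ∀ g h : Isom Q, y * g * y⁻¹ * (y * h * y⁻¹) = y * (g * h) * y⁻¹ := fun g h => by group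
  have hcm : hF.pr (hs.rR a) (hs.rR b) * hF.pr (hs.rR a') (hs.rR b') =
      hF.pr (hs.rR a') (hs.rR b') * hF.pr (hs.rR a) (hs.rR b) := by
    rw [← e, ← e', mul3, mul3, hF.pr_mul, hF.pr_mul, hF.refl_orth_comm (hGo.1 2) (hGo.1 3) (hGo.2 2 3 (by decide))]
  have side : ∀ {a a' : Fin 4 → F}, B₂ a a ≠ 0 → B₂ a' a' ≠ 0 → B₂ a a' = 0 ∨ hs.rR a' = hs.rR a →
      ∃ H σ, IsOrth B₂ H ∧ hs.rR a * hs.rR a' = hF.dg H σ := by
    intro a a' ha ha' h
    rcases h with h | h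
    · obtain ⟨H, hH, rfl, rfl⟩ := hF.exists_frame2 ha ha' h
      exact ⟨H, tauP, hH, hF.dg_tauP.symm⟩
    · obtain ⟨H, hH, rfl⟩ := hF.exists_frame1 ha
      exact ⟨H, fun _ => false, hH, by rw [h, hs.rR_sq, hF.dg_false hH]⟩
  obtain ⟨hl, hr⟩ := hF.refl_comm ha hb ha' hb' hcm
  obtain ⟨H, σ, hH, hσ⟩ := side ha ha' hl
  obtain ⟨K, τ, hK, hτ⟩ := side hb hb' hr
  have hS : y * hF.pd E G no tauQ * y⁻¹ = hF.pd H K σ τ := by
    rw [Fl.pd, Fl.pd, ← hσ, ← hτ, ← hF.pr_mul, ← e, ← e', mul3, hF.pr_mul, hs.rR_sq, no_eq, hF.dg_false hE]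
    simp [Fl.dg, tauQ]
  have hty := hG.ty_conj hN hP hE hGo hH hK (by decide) hyM hS
  exact hG.fuse_S hP hE hGo hH hK (show ty no tauQ = 2 by decide) (hty.trans (by decide)) hyM hS

end GCtx

end CfsgLib.TWGap
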