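import Cfsg.Agent.TensorWreathOrth.Gap.Four.Frame

/-!
# Planes of a four-dimensional factor without singular planes
-/

set_option autoImplicit false
set_option linter.unusedSectionVars false

namespace CfsgLib.TWGap

open Matrix Module CfsgLib.Spinor CfsgLib.OrthMax CfsgLib.TensorOrth
open CfsgLib.TensorMax (Idx ten ten_add_left ten_add_right ten_smul_left ten_smul_right ten_eq_zero
  ten_inj_left ten_inj_right)
open CfsgLib.TensorSlice (ASet IsOrth)

variable {F : Type*} [Field F] [Fintype F] {Q : QuadraticForm F (Idx 4 4 → F)}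
  {B₁ B₂ : LinearMap.BilinForm F (Fin 4 → F)} {J : Isom Q}

/-- A quadratic without roots is prime to `X^q - X`. -/
theorem coprime_frob (s : F) (hns : ¬ IsSquare (s * s - 4)) :
    IsCoprime (Polynomial.X ^ 2 - Polynomial.C s * Polynomial.X + 1 : Polynomial F)
      (Polynomial.X ^ Fintype.card F - Polynomial.X) := by
  classical
  set P : Polynomial F := Polynomial.X ^ Fintype.card F - Polynomial.X with hP
  set C : Polynomial F := Polynomial.X ^ 2 - Polynomial.C s * Polynomial.X + 1 with hC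
  have hr : P.roots = Finset.univ.val := FiniteField.roots_X_pow_card_sub_X F
  have hdeg : P.natDegree = Fintype.card F :=
    FiniteField.X_pow_card_sub_X_natDegree_eq F Fintype.one_lt_card
  have hprod := Polynomial.C_leadingCoeff_mul_prod_multiset_X_sub_C (p := P)
    (by rw [hr, hdeg]; rfl)
  have hlc : P.leadingCoeff ≠ 0 :=
    Polynomial.leadingCoeff_ne_zero.2 (FiniteField.X_pow_card_sub_X_ne_zero F Fintype.one_lt_card)
  rw [← hprod, hr]
  refine IsCoprime.mul_right ?_ ?_
  · exact ⟨0, Polynomial.C P.leadingCoeff⁻¹, by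
      rw [zero_mul, zero_add, ← Polynomial.C_mul, inv_mul_cancel₀ hlc, Polynomial.C_1]⟩
  · rw [← Finset.prod_eq_multiset_prod]
    refine IsCoprime.prod_right fun a _ => IsCoprime.symm ?_
    refine (Polynomial.irreducible_X_sub_C a).coprime_iff_not_dvd.2 fun hd => hns ⟨2 * a - s, ?_⟩
    have h0 := Polynomial.dvd_iff_isRoot.1 hd
    simp [Polynomial.IsRoot, hC] at h0
    linear_combination -4 * h0

namespace Fl

variable (hF : Fl Q B₁ B₂ J)
include hF

/-- A binary form represents every value. -/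
theorem exists_sol {a b : F} (ha : a ≠ 0) (hb : b ≠ 0) (v : F) : ∃ x y : F, x * x * a + y * y * b = v := by
  classical
  open Polynomial in
  obtain ⟨x, y, h⟩ := FiniteField.exists_root_sum_quadratic (R := F) (f := C a * X ^ 2 - C v) (g := C b * X ^ 2)
    (by rw [degree_sub_C]
        · exact degree_C_mul_X_pow 2 ha
        · rw [degree_C_mul_X_pow 2 ha]; decide)
    (degree_C_mul_X_pow 2 hb) (by
      have h2 := hF.aset.two
      refine FiniteField.odd_card_of_char_ne_two fun h => h2 ?_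
      have := ringChar.charP F
      exact_mod_cast (CharP.cast_eq_zero_iff F (ringChar F) 2).2 (by rw [h]))
  refine ⟨x, y, ?_⟩
  simp at h
  linear_combination h

theorem exists_nonsq : ∃ ν : F, ν ≠ 0 ∧ ¬ IsSquare ν := by
  have h2 := hF.aset.two
  obtain ⟨ν, hν⟩ := FiniteField.exists_nonsquare (F := F) fun h => h2 (by
    have := ringChar.charP F
    exact_mod_cast (CharP.cast_eq_zero_iff F (ringChar F) 2).2 (by rw [h]))
  exact ⟨ν, fun h => hν (by rw [h]; exact ⟨0, by simp⟩), hν⟩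

/-- Multiplicativity of square classes. -/
theorem sq_mul_iff {a b : F} (ha : a ≠ 0) (hb : b ≠ 0) : IsSquare (a * b) ↔ (IsSquare a ↔ IsSquare b) := by
  classical
  rw [← quadraticChar_one_iff_isSquare (mul_ne_zero ha hb), ← quadraticChar_one_iff_isSquare ha,
    ← quadraticChar_one_iff_isSquare hb, map_mul]
  rcases quadraticChar_dichotomy ha with h | h <;> rcases quadraticChar_dichotomy hb with h' | h' <;>
    simp [h, h']

/-- The discriminant of a frame. -/
theorem frame_nonsq (hpl : NoPlane B₂) {E : Fin 4 → Fin 4 → F} (hE : IsOrth B₂ E) :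
    ¬ IsSquare (B₂ (E 0) (E 0) * B₂ (E 1) (E 1) * (B₂ (E 2) (E 2) * B₂ (E 3) (E 3))) := by
  rintro ⟨r, hr⟩
  set a := B₂ (E 0) (E 0)
  set b := B₂ (E 1) (E 1)
  set c := B₂ (E 2) (E 2)
  set d := B₂ (E 3) (E 3)
  obtain ⟨α, β, hαβ⟩ := hF.exists_sol (hE.1 0) (hE.1 1) (-c)
  have hd : d ≠ 0 := hE.1 3
  set u := α • E 0 + β • E 1 + E 2 with hu
  set w := (b * β) • E 0 - (a * α) • E 1 + (r / d) • E 3 with hw
  have e := hE.2
  have huu : B₂ u u = 0 := by
    simp [hu, e 0 1, e 1 0, e 0 2, e 2 0, e 1 2, e 2 1]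
    linear_combination hαβ
  have hww : B₂ w w = 0 := by
    simp [hw, e 0 1, e 1 0, e 0 3, e 3 0, e 1 3, e 3 1]
    field_simp
    linear_combination (a * b * d * d) * hαβ - d * hr
  have huw : B₂ u w = 0 := by
    simp [hu, hw, e 0 1, e 1 0, e 2 0, e 2 1, e 0 3, e 1 3, e 2 3]
    ring
  have hu2 : B₂ u (E 2) = c := by simp [hu, e 0 2, e 1 2, c]
  have hu0 : u ≠ 0 := fun h => hE.1 2 (by rw [h, map_zero, LinearMap.zero_apply] at hu2; exact hu2.symm)
  obtain ⟨s, hs⟩ := hpl u w hu0 huu hww huw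
  have h2 := congrArg (fun v => B₂ v (E 2)) hs
  simp only [map_smul, LinearMap.smul_apply, smul_eq_mul, hu2] at h2
  simp [hw, e 0 2, e 1 2, e 3 2] at h2
  rcases h2 with rfl | h2
  · have h3 := congrArg (fun v => B₂ v (E 3)) hs
    simp [hw, e 0 3, e 1 3] at h3
    obtain rfl : r = 0 := by
      rcases h3 with (h | h) | h
      exacts [h, absurd h hd, absurd h (hE.1 3)]
    rw [mul_zero] at hr
    exact mul_ne_zero (mul_ne_zero (hE.1 0) (hE.1 1)) (mul_ne_zero (hE.1 2) (hE.1 3)) hr
  · exact hE.1 2 h2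

/-- An anisotropic plane of a frame. -/
theorem plane_aniso {E : Fin 4 → Fin 4 → F} (hE : IsOrth B₂ E) {i j : Fin 4} (hij : i ≠ j)
    (hns : ¬ IsSquare (-(B₂ (E i) (E i) * B₂ (E j) (E j)))) {α β : F}
    (h : B₂ (α • E i + β • E j) (α • E i + β • E j) = 0) : α = 0 ∧ β = 0 := by
  simp [hE.2 i j hij, hE.2 j i hij.symm] at h
  by_cases hβ : β = 0
  · subst hβ
    simp [hE.1 i] at h
    exact ⟨h, rfl⟩
  · exact absurd ⟨α * B₂ (E i) (E i) / β, by field_simp; linear_combination -(B₂ (E i) (E i)) * h⟩ hns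

/-- Replacing the plane of the last two frame vectors. -/
theorem turn {E : Fin 4 → Fin 4 → F} (hE : IsOrth B₂ E) {α β : F}
    (h : B₂ (α • E 2 + β • E 3) (α • E 2 + β • E 3) ≠ 0) :
    IsOrth (n := 4) B₂ ![E 0, E 1, α • E 2 + β • E 3,
      (β * B₂ (E 3) (E 3)) • E 2 - (α * B₂ (E 2) (E 2)) • E 3] := by
  have e := hE.2
  set a := B₂ (E 2) (E 2) with ha
  set b := B₂ (E 3) (E 3) with hb
  have hD : B₂ (α • E 2 + β • E 3) (α • E 2 + β • E 3) = α * α * a + β * β * b := by
    simp [e 2 3, e 3 2, a, b]; ring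
  have hk : B₂ ((β * b) • E 2 - (α * a) • E 3) ((β * b) • E 2 - (α * a) • E 3) =
      a * b * (α * α * a + β * β * b) := by
    simp [e 2 3, e 3 2, ← ha, ← hb]; ring
  refine ⟨fun i => ?_, fun i j hij => ?_⟩
  · fin_cases i
    · exact hE.1 0
    · exact hE.1 1
    · exact h
    · show B₂ ((β * b) • E 2 - (α * a) • E 3) ((β * b) • E 2 - (α * a) • E 3) ≠ 0
      rw [hk, ← hD]
      exact mul_ne_zero (mul_ne_zero (hE.1 2) (hE.1 3)) h
  · fin_cases i <;> fin_cases j <;>
      simp_all [e 0 1, e 1 0, e 0 2, e 2 0, e 0 3, e 3 0, e 1 2, e 2 1, e 1 3, e 3 1, e 2 3, e 3 2] <;> ring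

/-- A frame with a given value in the plane of the last two vectors. -/
theorem turn_to {E : Fin 4 → Fin 4 → F} (hE : IsOrth B₂ E) {v : F} (hv : v ≠ 0) :
    ∃ E' : Fin 4 → Fin 4 → F, IsOrth B₂ E' ∧ E' 0 = E 0 ∧ E' 1 = E 1 ∧ B₂ (E' 2) (E' 2) = v := by
  obtain ⟨α, β, h⟩ := hF.exists_sol (hE.1 2) (hE.1 3) v
  have h' : B₂ (α • E 2 + β • E 3) (α • E 2 + β • E 3) = v := by
    simp [hE.2 2 3, hE.2 3 2]; linear_combination h
  exact ⟨_, hF.turn hE (by rw [h']; exact hv), rfl, rfl, by simpa using h'⟩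

/-- The product of two reflections of a plane. -/
theorem refl_sum {A B : isoG B₂} (hA : A * A = 1) (hB : B * B = 1) {g g' : Fin 4 → F} {α β : F}
    (hAg : act A g = -g) (hAg' : act A g' = g') (hBh : act B (α • g + β • g') = -(α • g + β • g'))
    (hBk : act B ((β * B₂ g' g') • g - (α * B₂ g g) • g') = (β * B₂ g' g') • g - (α * B₂ g g) • g')
    (hD : α * α * B₂ g g + β * β * B₂ g' g' ≠ 0) :
    (act (A * B) g + act (A * B)⁻¹ g =
        (2 * (α * α * B₂ g g - β * β * B₂ g' g') / (α * α * B₂ g g + β * β * B₂ g' g')) • g) ∧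
      (act (A * B) g' + act (A * B)⁻¹ g' =
        (2 * (α * α * B₂ g g - β * β * B₂ g' g') / (α * α * B₂ g g + β * β * B₂ g' g')) • g') := by
  set a := B₂ g g
  set b := B₂ g' g'
  set D := α * α * a + β * β * b with hDd
  have hi : (A * B)⁻¹ = B * A := by
    rw [_root_.mul_inv_rev, inv_eq_of_mul_eq_one_right hA, inv_eq_of_mul_eq_one_right hB]
  set h := α • g + β • g' with hh
  set k := (β * b) • g - (α * a) • g' with hk
  have eg : g = (α * a / D) • h + (β / D) • k := by
    rw [hh, hk]; match_scalars <;> field_simp <;> rw [hDd] <;> ring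
  have eg' : g' = (β * b / D) • h - (α / D) • k := by
    rw [hh, hk]; match_scalars <;> field_simp <;> rw [hDd] <;> ring
  have bg : act B g = (-(α * a / D)) • h + (β / D) • k := by
    conv_lhs => rw [eg]
    rw [act, mulVec_add, mulVec_smul, mulVec_smul, show _ *ᵥ h = _ from hBh, show _ *ᵥ k = _ from hBk]
    module
  have bg' : act B g' = (-(β * b / D)) • h - (α / D) • k := by
    conv_lhs => rw [eg']
    rw [act, mulVec_sub, mulVec_smul, mulVec_smul, show _ *ᵥ h = _ from hBh, show _ *ᵥ k = _ from hBk]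
    module
  have ah : act A h = -(α • g) + β • g' := by
    rw [hh, act, mulVec_add, mulVec_smul, mulVec_smul, show _ *ᵥ g = _ from hAg, show _ *ᵥ g' = _ from hAg']
    module
  have ak : act A k = -((β * b) • g) - (α * a) • g' := by
    rw [hk, act, mulVec_sub, mulVec_smul, mulVec_smul, show _ *ᵥ g = _ from hAg, show _ *ᵥ g' = _ from hAg']
    module
  constructor
  · rw [hi, act_mul, act_mul, hAg, show act B (-g) = -act B g from mulVec_neg _ _, bg,
      show act A ((-(α * a / D)) • h + (β / D) • k) = (-(α * a / D)) • act A h + (β / D) • act A k from by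
        rw [act, mulVec_add, mulVec_smul, mulVec_smul], ah, ak, hh, hk]
    match_scalars <;> field_simp <;> ring
  · rw [hi, act_mul, act_mul, hAg', bg',
      show act A ((-(β * b / D)) • h - (α / D) • k) = (-(β * b / D)) • act A h - (α / D) • act A k from by
        rw [act, mulVec_sub, mulVec_smul, mulVec_smul], ah, ak, hh, hk]
    match_scalars <;> field_simp <;> ring

/-- The discriminant of the characteristic equation of such a product. -/
theorem refl_sum_nonsq {a b α β : F} (hns : ¬ IsSquare (-(a * b))) (hα : α ≠ 0) (hβ : β ≠ 0)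
    (hD : α * α * a + β * β * b ≠ 0) :
    ¬ IsSquare (2 * (α * α * a - β * β * b) / (α * α * a + β * β * b) *
      (2 * (α * α * a - β * β * b) / (α * α * a + β * β * b)) - 4) := by
  rintro ⟨r, hr⟩
  have h2 := hF.aset.two
  have h4 : (2 : F) * 2 * (α * β) ≠ 0 := mul_ne_zero (mul_ne_zero h2 h2) (mul_ne_zero hα hβ)
  refine hns ⟨r * (α * α * a + β * β * b) / (2 * 2 * (α * β)), ?_⟩
  rw [div_mul_div_comm, eq_div_iff (mul_ne_zero h4 h4)]
  have hr' := congrArg (· * ((α * α * a + β * β * b) * (α * α * a + β * β * b))) hr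
  rw [sub_mul, div_mul_div_comm, div_mul_cancel₀ _ (mul_ne_zero hD hD)] at hr'
  linear_combination hr'

/-- The power `q - 1` of an isometry with irreducible action on a plane. -/
theorem rot_pow {U : isoG B₂} {G : Fin 4 → Fin 4 → F} (hG : IsOrth B₂ G) {s : F}
    (hel : ¬ IsSquare (-(B₂ (G 2) (G 2) * B₂ (G 3) (G 3)))) (hs : ¬ IsSquare (s * s - 4))
    (h01 : ∀ i : Fin 4, i = 0 ∨ i = 1 → ∃ c : F, c ≠ 0 ∧ act U (G i) = c • G i)
    (h2 : act U (G 2) + act U⁻¹ (G 2) = s • G 2) (h3 : act U (G 3) + act U⁻¹ (G 3) = s • G 3) :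
    ∃ s' : F, s' ≠ 2 ∧ act (U ^ (Fintype.card F - 1)) (G 2) + act (U ^ (Fintype.card F - 1))⁻¹ (G 2) = s' • G 2 ∧
      act (U ^ (Fintype.card F - 1)) (G 3) + act (U ^ (Fintype.card F - 1))⁻¹ (G 3) = s' • G 3 := by
  have key : ∀ n : ℕ, ∃ p p' : F, ∀ x ∈ Submodule.span F {G 2, G 3},
      act (U ^ n) x + act (U ^ n)⁻¹ x = p • x ∧ act (U ^ (n + 1)) x + act (U ^ (n + 1))⁻¹ x = p' • x := by
    have h1 : ∀ x ∈ Submodule.span F {G 2, G 3}, act U x + act U⁻¹ x = s • x := fun x hx => by
      obtain ⟨r, t, rfl⟩ := Submodule.mem_span_pair.1 hx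
      rw [act, act, mulVec_add, mulVec_add, mulVec_smul, mulVec_smul, mulVec_smul, mulVec_smul, smul_add,
        smul_comm s r, smul_comm s t, ← h2, ← h3]
      module
    intro n
    induction n with
    | zero =>
      refine ⟨2, s, fun x hx => ⟨by rw [pow_zero, inv_one, act_one, two_smul], ?_⟩⟩
      rw [zero_add, pow_one]; exact h1 x hx
    | succ n ih =>
      obtain ⟨p, p', hp⟩ := ih
      refine ⟨p', p' * s - p, fun x hx => ⟨(hp x hx).2, ?_⟩⟩
      obtain ⟨ha, hb⟩ := hp x hx
      have hc : act (U ^ (n + 1)) (act U x + act U⁻¹ x) + act (U ^ (n + 1))⁻¹ (act U x + act U⁻¹ x) =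
          (p' * s) • x := by
        rw [h1 x hx, act, act, mulVec_smul, mulVec_smul, ← smul_add, ← act, ← act, hb, smul_smul, mul_comm]
      rw [show act (U ^ (n + 1)) (act U x + act U⁻¹ x) =
          act (U ^ (n + 1)) (act U x) + act (U ^ (n + 1)) (act U⁻¹ x) from mulVec_add _ _ _,
        show act (U ^ (n + 1))⁻¹ (act U x + act U⁻¹ x) =
          act (U ^ (n + 1))⁻¹ (act U x) + act (U ^ (n + 1))⁻¹ (act U⁻¹ x) from mulVec_add _ _ _,
        ← act_mul, ← act_mul, ← act_mul, ← act_mul,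
        show U ^ (n + 1) * U⁻¹ = U ^ n by group, show (U ^ (n + 1))⁻¹ * U = (U ^ n)⁻¹ by group,
        show U ^ (n + 1) * U = U ^ (n + 1 + 1) by group,
        show (U ^ (n + 1))⁻¹ * U⁻¹ = (U ^ (n + 1 + 1))⁻¹ by group] at hc
      rw [sub_smul, ← hc, ← ha]
      abel
  obtain ⟨p, _, hp⟩ := key (Fintype.card F - 1)
  have g2 : G 2 ∈ Submodule.span F {G 2, G 3} := Submodule.subset_span (by simp)
  have g3 : G 3 ∈ Submodule.span F {G 2, G 3} := Submodule.subset_span (by simp)
  refine ⟨p, fun hp2 => ?_, (hp _ g2).1, (hp _ g3).1⟩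
  rw [hp2] at hp
  have hpow : ∀ (n : ℕ) (i : Fin 4), i = 0 ∨ i = 1 → ∃ c : F, c ≠ 0 ∧ act (U ^ n) (G i) = c • G i := by
    intro n i hi
    induction n with
    | zero => exact ⟨1, one_ne_zero, by rw [pow_zero, act_one, one_smul]⟩
    | succ n ih =>
      obtain ⟨c, hc0, hc⟩ := ih
      obtain ⟨d, hd0, hd⟩ := h01 i hi
      exact ⟨d * c, mul_ne_zero hd0 hc0, by rw [pow_succ, act_mul, hd, act, mulVec_smul, ← act, hc, smul_smul]⟩
  set W := U ^ (Fintype.card F - 1) with hW
  have hperp : ∀ i : Fin 4, i = 0 ∨ i = 1 → B₂ (act W (G 2)) (G i) = 0 := fun i hi => by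
    obtain ⟨c, hc0, hc⟩ := hpow (Fintype.card F - 1) i hi
    have h := act_iso W (G 2) (G i)
    rw [hc, map_smul, smul_eq_mul, hG.2 2 i (by rcases hi with rfl | rfl <;> decide), mul_eq_zero,
      or_iff_right hc0] at h
    exact h
  set r := B₂ (act W (G 2)) (G 2) / B₂ (G 2) (G 2) with hr
  set t := B₂ (act W (G 2)) (G 3) / B₂ (G 3) (G 3) with ht
  have hmem : act W (G 2) = r • G 2 + t • G 3 := by
    refine sub_eq_zero.1 (hF.aset.tset.f₂.sep fun y => ?_)
    have hd : B₂ (act W (G 2) - (r • G 2 + t • G 3)) = 0 := (hF.bas hG).ext fun i => by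
      rw [hF.bas_apply, LinearMap.zero_apply]
      fin_cases i <;>
        simp [hperp 0 (Or.inl rfl), hperp 1 (Or.inr rfl), hG.2 2 0, hG.2 3 0, hG.2 2 1, hG.2 3 1, hG.2 2 3,
          hG.2 3 2, hr, ht, hG.1 2, hG.1 3]
    rw [hd, LinearMap.zero_apply]
  have e2 := (hp _ g2).1
  have hww : B₂ (act W (G 2) - G 2) (act W (G 2) - G 2) = 0 := by
    have e : B₂ (act W (G 2) + act W⁻¹ (G 2)) (G 2) = 2 * B₂ (G 2) (G 2) := by
      rw [e2, map_smul, LinearMap.smul_apply, smul_eq_mul]
    rw [map_add, LinearMap.add_apply, show B₂ (act W⁻¹ (G 2)) (G 2) = B₂ (G 2) (act W (G 2)) from by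
      rw [← act_iso W, ← act_mul, mul_inv_cancel, act_one]] at e
    simp only [map_sub, LinearMap.sub_apply, act_iso]
    linear_combination -e
  obtain ⟨hr1, ht0⟩ := hF.plane_aniso hG (show (2 : Fin 4) ≠ 3 by decide) hel (α := r - 1) (β := t) (by
    rw [hmem] at hww
    rwa [show (r - 1) • G 2 + t • G 3 = r • G 2 + t • G 3 - G 2 by module])
  have hfix : act W (G 2) = G 2 := by rw [hmem, sub_eq_zero.1 hr1, ht0]; simp
  -- the characteristic equation is prime to `X^q - X`
  obtain ⟨u, v, huv⟩ := coprime_frob s hs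
  set L : Module.End F (Fin 4 → F) := (U.1 : Matrix (Fin 4) (Fin 4) F).mulVecLin with hL
  have hLn : ∀ (n : ℕ) x, (L ^ n) x = act (U ^ n) x := fun n => by
    induction n with
    | zero => intro x; rw [pow_zero, pow_zero, act_one]; rfl
    | succ n ih =>
      intro x
      rw [pow_succ, Module.End.mul_apply, pow_succ, act_mul, ← ih]
      rfl
  have hC : Polynomial.aeval L (Polynomial.X ^ 2 - Polynomial.C s * Polynomial.X + 1 : Polynomial F) (G 2) = 0 := by
    simp only [map_sub, map_add, map_mul, map_pow, map_one, Polynomial.aeval_X, Polynomial.aeval_C,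
      LinearMap.sub_apply, LinearMap.add_apply, Module.End.mul_apply, Module.algebraMap_end_apply,
      Module.End.one_apply, hLn]
    have h := congrArg (act U) h2
    rw [show act U (act U (G 2) + act U⁻¹ (G 2)) = act U (act U (G 2)) + act U (act U⁻¹ (G 2)) from
        mulVec_add _ _ _, ← act_mul U U⁻¹, mul_inv_cancel, act_one, ← act_mul,
      show act U (s • G 2) = s • act U (G 2) from mulVec_smul _ _ _] at h
    rw [pow_two, show L (G 2) = act U (G 2) from rfl, ← h]
    abel
  have hP : Polynomial.aeval L (Polynomial.X ^ Fintype.card F - Polynomial.X : Polynomial F) (G 2) = 0 := by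
    simp only [map_sub, map_pow, Polynomial.aeval_X, LinearMap.sub_apply, hLn]
    rw [show Fintype.card F = (Fintype.card F - 1) + 1 by have := Fintype.card_pos (α := F); omega, pow_succ',
      act_mul, ← hW, hfix]
    exact sub_self _
  have h1 := congrArg (fun p => Polynomial.aeval L p (G 2)) huv
  rw [map_add, map_mul, map_mul, map_one, LinearMap.add_apply, Module.End.mul_apply, Module.End.mul_apply,
    hC, hP, map_zero, map_zero, add_zero, Module.End.one_apply] at h1
  exact hG.1 2 (by rw [← h1]; simp)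

end Fl

end CfsgLib.TWGap
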