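import Cfsg.Agent.TensorWreathOrth.Gap.Four.Typ

/-!
# Two factors of dimension four: the centraliser of two reflections of a factor
-/

set_option autoImplicit false
set_option linter.unusedSectionVars false

namespace CfsgLib.TWGap

open Matrix Module CfsgLib.Spinor CfsgLib.OrthMax CfsgLib.TensorOrth
open CfsgLib.TensorMax (Idx ten ten_add_left ten_add_right ten_smul_left ten_smul_right ten_eq_zero
  ten_inj_left ten_inj_right)
open CfsgLib.TensorSlice (ASet IsOrth)
open CfsgLib.TensorUnitary (row ten_induction sum_ten_row)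

variable {F : Type*} [Field F] [Fintype F] {Q : QuadraticForm F (Idx 4 4 → F)}
  {B₁ B₂ : LinearMap.BilinForm F (Fin 4 → F)} {J : Isom Q} {M : Subgroup (Isom Q)}

/-- The signs of the first plane of a frame. -/
def tauP : Fin 4 → Bool := ![true, true, false, false]

/-- The signs of the second plane of a frame. -/
def tauQ : Fin 4 → Bool := ![false, false, true, true]

/-- No signs. -/
def no : Fin 4 → Bool := ![false, false, false, false]

theorem no_eq : no = fun _ => false := funext fun i => by fin_cases i <;> rfl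

/-- A permutation carrying the signs to the first plane. -/
theorem exists_perm_wt2 (τ : Fin 4 → Bool) (h : wt τ = 2) :
    ∃ π : Equiv.Perm (Fin 4), (fun i => τ (π i)) = tauP := by
  have key : ∀ a b c d : Bool, wt ![a, b, c, d] = 2 →
      ∃ π : Equiv.Perm (Fin 4), ∀ i, ![a, b, c, d] (π i) = tauP i := by decide
  obtain ⟨π, hπ⟩ := forall_bool4 (fun τ => wt τ = 2 → ∃ π : Equiv.Perm (Fin 4), ∀ i, τ (π i) = tauP i) key τ h
  exact ⟨π, funext hπ⟩

namespace Fl

variable (hF : Fl Q B₁ B₂ J)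
include hF

/-- The reflections of the first plane as an element. -/
noncomputable def sP (G : Fin 4 → Fin 4 → F) : Isom Q := hF.pd G G no tauP

theorem sP_eq {E G : Fin 4 → Fin 4 → F} (hE : IsOrth B₂ E) (hG : IsOrth B₂ G) :
    hF.sP G = hF.pd E G no tauP := by
  rw [sP, pd, pd, no_eq, hF.dg_false hE, hF.dg_false hG]

theorem sP_kR {G : Fin 4 → Fin 4 → F} (hG : IsOrth B₂ G) : hF.sP G = hF.aset.kR (hF.dg G tauP) := by
  rw [sP, pd, no_eq, hF.dg_false hG, hF.kR_eq_pr]

/-- A quarter turn of a plane. -/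
theorem quarter {G : Fin 4 → Fin 4 → F} (hG : IsOrth B₂ G) {i j : Fin 4} (hij : i ≠ j)
    (h : B₂ (G i) (G i) = B₂ (G j) (G j)) :
    B₂ (G i + G j) (G i + G j) ≠ 0 ∧ act (hF.aset.rR (G i + G j) * hF.aset.rR (G i)) (G i) = G j ∧
      act (hF.aset.rR (G i + G j) * hF.aset.rR (G i)) (G j) = -G i ∧
      ∀ l, l ≠ i → l ≠ j → act (hF.aset.rR (G i + G j) * hF.aset.rR (G i)) (G l) = G l := by
  have e := hG.2
  have hs : B₂ (G i + G j) (G i + G j) = 2 * B₂ (G i) (G i) := by
    simp [e i j hij, e j i hij.symm, ← h]; ring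
  have hne : B₂ (G i + G j) (G i + G j) ≠ 0 := by
    rw [hs]; exact mul_ne_zero hF.aset.two (hG.1 i)
  refine ⟨hne, ?_, ?_, fun l hli hlj => ?_⟩
  · rw [act_mul, show act (hF.aset.rR (G i)) (G i) = -G i from hF.aset.rR_self (hG.1 i)]
    show _ *ᵥ (-G i) = _
    rw [hF.aset.rR_apply hne, hs]
    have h2 := hF.aset.two
    have h1 := hG.1 i
    simp [e i j hij]
    match_scalars <;> field_simp <;> ring
  · rw [act_mul, show act (hF.aset.rR (G i)) (G j) = G j from hF.aset.rR_fix (hG.1 i) (e j i hij.symm)]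
    show _ *ᵥ G j = _
    rw [hF.aset.rR_apply hne, hs]
    have h2 := hF.aset.two
    have h1 := hG.1 i
    simp [e j i hij.symm, ← h]
    match_scalars <;> field_simp <;> ring
  · rw [act_mul, show act (hF.aset.rR (G i)) (G l) = G l from hF.aset.rR_fix (hG.1 i) (e l i hli)]
    exact hF.aset.rR_fix hne (by simp [e l i hli, e l j hlj])

/-- An isometry with all signs negates. -/
theorem dg_all {G : Fin 4 → Fin 4 → F} (hG : IsOrth B₂ G) (x : Fin 4 → F) :
    act (hF.dg G fun _ => true) x = -x := by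
  have h2 : ((hF.dg G fun _ => true).1 : Matrix (Fin 4) (Fin 4) F).mulVecLin = -LinearMap.id :=
    (hF.bas hG).ext fun i => by
      rw [hF.bas_apply]
      show act (hF.dg G fun _ => true) (G i) = -(G i)
      rw [hF.dg_apply hG]; simp [sg]
  exact LinearMap.congr_fun h2 x

theorem comm_tauP {G : Fin 4 → Fin 4 → F} (hG : IsOrth B₂ G) {T : isoG B₂} (h2 : act T (G 2) = G 2)
    (h3 : act T (G 3) = G 3) : T * hF.dg G tauP = hF.dg G tauP * T := by
  have hq : T * hF.dg G tauQ = hF.dg G tauQ * T := by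
    have h := hF.dg_conj hG T tauQ
    rw [show hF.dg (fun i => act T (G i)) tauQ = hF.dg G tauQ by simp [dg, tauQ, h2, h3]] at h
    exact mul_inv_eq_iff_eq_mul.1 h
  have hall : T * hF.dg G (fun _ => true) = hF.dg G (fun _ => true) * T := hF.aset.isoG_ext fun x => by
    show act (T * _) x = act (_ * T) x
    rw [act_mul, act_mul, hF.dg_all hG, hF.dg_all hG]
    exact mulVec_neg _ _
  have e : hF.dg G tauP = hF.dg G (fun _ => true) * hF.dg G tauQ := by
    rw [hF.dg_mul hG]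
    congr 1
    funext i; fin_cases i <;> rfl
  rw [e, ← mul_assoc, hall, mul_assoc, hq, ← mul_assoc]

/-- An isometry fixing the vectors of the signs `false` fixes `v + S v`. -/
theorem fix_plus {G : Fin 4 → Fin 4 → F} (hG : IsOrth B₂ G) {τ : Fin 4 → Bool} {W : isoG B₂}
    (hW : ∀ i, τ i = false → act W (G i) = G i) (v : Idx 4 4 → F) :
    mat Q (hF.aset.kR W) *ᵥ (v + mat Q (hF.aset.kR (hF.dg G τ)) *ᵥ v) =
      v + mat Q (hF.aset.kR (hF.dg G τ)) *ᵥ v := by
  induction v using ten_induction with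
  | hadd a b ha hb =>
    rw [mulVec_add (mat Q (hF.aset.kR (hF.dg G τ))), add_add_add_comm, mulVec_add, ha, hb]
  | h0 => simp
  | h x y =>
    rw [hF.aset.kR_ten, ← ten_add_right, hF.aset.kR_ten]
    congr 1
    have h2 : (W.1 : Matrix (Fin 4) (Fin 4) F).mulVecLin ∘ₗ
        (LinearMap.id + ((hF.dg G τ).1 : Matrix (Fin 4) (Fin 4) F).mulVecLin) =
        LinearMap.id + ((hF.dg G τ).1 : Matrix (Fin 4) (Fin 4) F).mulVecLin := (hF.bas hG).ext fun i => by
      simp only [hF.bas_apply, LinearMap.comp_apply, LinearMap.add_apply, LinearMap.id_apply, mulVecLin_apply]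
      rw [show ((hF.dg G τ).1 : Matrix (Fin 4) (Fin 4) F) *ᵥ G i = _ from hF.dg_apply hG τ i]
      rcases Bool.eq_false_or_eq_true (τ i) with h | h
      · rw [h]; simp [sg]
      · rw [h]
        simp only [sg, cond_false, one_smul, mulVec_add]
        rw [show (W.1 : Matrix (Fin 4) (Fin 4) F) *ᵥ G i = G i from hW i h]
    exact LinearMap.congr_fun h2 y

/-- An isometry fixing the vectors of the signs `true` fixes `v - S v`. -/
theorem fix_minus {G : Fin 4 → Fin 4 → F} (hG : IsOrth B₂ G) {τ : Fin 4 → Bool} {W : isoG B₂}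
    (hW : ∀ i, τ i = true → act W (G i) = G i) (v : Idx 4 4 → F) :
    mat Q (hF.aset.kR W) *ᵥ (v - mat Q (hF.aset.kR (hF.dg G τ)) *ᵥ v) =
      v - mat Q (hF.aset.kR (hF.dg G τ)) *ᵥ v := by
  induction v using ten_induction with
  | hadd a b ha hb =>
    rw [mulVec_add (mat Q (hF.aset.kR (hF.dg G τ))), add_sub_add_comm, mulVec_add, ha, hb]
  | h0 => simp
  | h x y =>
    rw [hF.aset.kR_ten, ← CfsgLib.TensorSlice.ten_sub_right, hF.aset.kR_ten]
    congr 1
    have h2 : (W.1 : Matrix (Fin 4) (Fin 4) F).mulVecLin ∘ₗ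
        (LinearMap.id - ((hF.dg G τ).1 : Matrix (Fin 4) (Fin 4) F).mulVecLin) =
        LinearMap.id - ((hF.dg G τ).1 : Matrix (Fin 4) (Fin 4) F).mulVecLin := (hF.bas hG).ext fun i => by
      simp only [hF.bas_apply, LinearMap.comp_apply, LinearMap.sub_apply, LinearMap.id_apply, mulVecLin_apply]
      rw [show ((hF.dg G τ).1 : Matrix (Fin 4) (Fin 4) F) *ᵥ G i = _ from hF.dg_apply hG τ i]
      rcases Bool.eq_false_or_eq_true (τ i) with h | h
      · rw [h]
        simp only [sg, cond_true, neg_smul, one_smul, sub_neg_eq_add, mulVec_add]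
        rw [show (W.1 : Matrix (Fin 4) (Fin 4) F) *ᵥ G i = G i from hW i h]
      · rw [h]; simp [sg]
    exact LinearMap.congr_fun h2 y

end Fl

namespace GCtx

variable {hF : Fl Q B₁ B₂ J} (hG : GCtx hF M)
include hG

/-- An element commuting with the reflections of a plane normalises the rotations of that plane. -/
theorem norm_plane {G : Fin 4 → Fin 4 → F} (hGo : IsOrth B₂ G) {y : Isom Q} (hy : y ∈ M)
    (hc : y * hF.sP G = hF.sP G * y) {T : isoG B₂} (hT2 : act T (G 2) = G 2) (hT3 : act T (G 3) = G 3)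
    (hTM : hF.aset.kR T ∈ M) :
    ∃ T' : isoG B₂, y⁻¹ * hF.aset.kR T * y = hF.aset.kR T' ∧ act T' (G 2) = G 2 ∧ act T' (G 3) = G 3 := by
  have hs := hF.aset
  set S := hF.sP G with hS
  have hSk : S = hs.kR (hF.dg G tauP) := hF.sP_kR hGo
  set e : Fin 4 → F := G 2
  set R := hs.R e
  have hTfix : ∀ i, tauP i = false → act T (G i) = G i := by
    intro i hi; fin_cases i <;> first | exact absurd hi (by decide) | exact hT2 | exact hT3
  have hRfix : ∀ i, tauP i = true → act (hs.rR e) (G i) = G i := by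
    intro i hi
    refine hs.rR_fix (hGo.1 2) (hGo.2 i 2 ?_)
    rintro rfl; exact absurd hi (by decide)
  have hTS : hs.kR T * S = S * hs.kR T := by
    rw [hSk, ← map_mul, ← map_mul, hF.comm_tauP hGo hT2 hT3]
  have hRS : R * S = S * R := by
    show hs.kR (hs.rR e) * S = S * hs.kR (hs.rR e)
    rw [hSk, ← map_mul, ← map_mul, ← hF.dg_single hGo 2, hF.dg_mul hGo, hF.dg_mul hGo]
    simp only [Bool.xor_comm]
  set D := y * R * y⁻¹ with hD
  have hyi : y⁻¹ * S = S * y⁻¹ := (Commute.inv_left hc).eq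
  have hDS : D * S = S * D := by
    rw [hD, mul_assoc, hyi, ← mul_assoc, mul_assoc y, hRS, ← mul_assoc, hc, mul_assoc, mul_assoc, mul_assoc]
  have plus : ∀ v, mat Q (hs.kR T) *ᵥ (v + mat Q S *ᵥ v) = v + mat Q S *ᵥ v := fun v => by
    rw [hSk]; exact hF.fix_plus hGo hTfix v
  have minus : ∀ v, mat Q D *ᵥ (v - mat Q S *ᵥ v) = v - mat Q S *ᵥ v := fun v => by
    have hb : ∀ u, mat Q R *ᵥ (u - mat Q S *ᵥ u) = u - mat Q S *ᵥ u := fun u => by
      rw [hSk]; exact hF.fix_minus hGo hRfix u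
    have e1 : mat Q y⁻¹ *ᵥ (v - mat Q S *ᵥ v) = mat Q y⁻¹ *ᵥ v - mat Q S *ᵥ (mat Q y⁻¹ *ᵥ v) := by
      rw [mulVec_sub, ← Fl.mul_vec, hyi, Fl.mul_vec]
    rw [hD, Fl.mul_vec, Fl.mul_vec, e1, hb, ← e1, mulVec_cancel']
  -- the conjugate commutes with a reflection of the other plane
  have hTD : hs.kR T * D = D * hs.kR T := by
    refine hF.ext fun x w => ?_
    set v := ten x w
    have p1 : mat Q (hs.kR T * D) *ᵥ (v + mat Q S *ᵥ v) = mat Q (D * hs.kR T) *ᵥ (v + mat Q S *ᵥ v) := by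
      rw [Fl.mul_vec (hs.kR T) D, Fl.mul_vec D (hs.kR T), plus,
        show mat Q D *ᵥ (v + mat Q S *ᵥ v) = mat Q D *ᵥ v + mat Q S *ᵥ (mat Q D *ᵥ v) by
          rw [mulVec_add, ← Fl.mul_vec, hDS, Fl.mul_vec S D], plus]
    have p2 : mat Q (hs.kR T * D) *ᵥ (v - mat Q S *ᵥ v) = mat Q (D * hs.kR T) *ᵥ (v - mat Q S *ᵥ v) := by
      rw [Fl.mul_vec (hs.kR T) D, Fl.mul_vec D (hs.kR T), minus,
        show mat Q (hs.kR T) *ᵥ (v - mat Q S *ᵥ v) =
            mat Q (hs.kR T) *ᵥ v - mat Q S *ᵥ (mat Q (hs.kR T) *ᵥ v) by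
          rw [mulVec_sub, ← Fl.mul_vec, hTS, Fl.mul_vec], minus]
    refine smul_right_injective _ hs.two ?_
    show (2 : F) • _ = (2 : F) • _
    rw [mulVec_add, mulVec_add] at p1
    rw [mulVec_sub, mulVec_sub] at p2
    linear_combination (norm := module) p1 + p2
  set z := y⁻¹ * hs.kR T * y
  have hzM : z ∈ M := M.mul_mem (M.mul_mem (M.inv_mem hy) hTM) hy
  have hzR : z * R = R * z := by
    have h := congrArg (fun g => y⁻¹ * g * y) hTD
    simp only [hD] at h
    calc z * R = y⁻¹ * (hs.kR T * (y * R * y⁻¹)) * y := by simp only [z]; group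
      _ = _ := h
      _ = R * z := by simp only [z]; group
  have hz : ∀ j, tauP j = false → ∀ x, mat Q z *ᵥ ten x (G j) = ten x (G j) := by
    intro j hj x
    have e0 : mat Q S *ᵥ ten x (G j) = ten x (G j) := by
      rw [hSk, hs.kR_ten, show ((hF.dg G tauP).1 : Matrix (Fin 4) (Fin 4) F) *ᵥ G j = _ from hF.dg_apply hGo tauP j,
        hj]
      simp [sg]
    have e1 : mat Q S *ᵥ (mat Q y *ᵥ ten x (G j)) = mat Q y *ᵥ ten x (G j) := by
      rw [← Fl.mul_vec, ← hc, Fl.mul_vec, e0]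
    have e2 := plus (mat Q y *ᵥ ten x (G j))
    rw [e1, ← two_smul F, mulVec_smul] at e2
    have e3 := smul_right_injective _ hs.two e2
    show mat Q (y⁻¹ * hs.kR T * y) *ᵥ _ = _
    rw [Fl.mul_vec, Fl.mul_vec, show mat Q (hs.kR T) *ᵥ (mat Q y *ᵥ ten x (G j)) = _ from e3, mulVec_cancel]
  have hzK : z ∈ Kr Q := hG.mem_kr_of_fix hzM (hGo.1 2) (hz 2 (by decide))
  obtain ⟨T', hT', hT'2⟩ := hs.kr_fix hzK (hF.ne0 (hGo.1 2)) (hz 2 (by decide))
  refine ⟨T', hT', hT'2, ?_⟩
  obtain ⟨x, hx⟩ := hs.exists_ne₁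
  have h3 := hz 3 (by decide) x
  rw [hT', hs.kR_ten] at h3
  exact ten_inj_right hx h3

/-- The large fields. -/
theorem good_sP_wide (hq : Fintype.card F ≠ 3) {G : Fin 4 → Fin 4 → F} (hGo : IsOrth B₂ G)
    (hsq : IsSquare (-(B₂ (G 0) (G 0) * B₂ (G 1) (G 1)))) {y : Isom Q} (hy : y ∈ M)
    (hc : y * hF.sP G = hF.sP G * y) : y ∈ hF.Nr := by
  classical
  have hs := hF.aset
  have h2 := hs.two
  obtain ⟨ρ, hρ⟩ := hsq
  set a := B₂ (G 0) (G 0)
  set b := B₂ (G 1) (G 1)
  have ha : a ≠ 0 := hGo.1 0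
  have hb : b ≠ 0 := hGo.1 1
  obtain ⟨l, hl0, hl⟩ : ∃ l : F, l ≠ 0 ∧ l * l ≠ 1 := by
    by_contra! h
    have hsub : (Finset.univ : Finset F) ⊆ {0, 1, -1} := fun l _ => by
      rcases eq_or_ne l 0 with rfl | hl0
      · simp
      · rcases mul_self_eq_one_iff.1 (h l hl0) with rfl | rfl <;> simp
    have h1 := (Finset.card_le_card hsub).trans Finset.card_le_three
    rw [Finset.card_univ] at h1
    have hr := FiniteField.odd_card_of_char_ne_two (F := F) fun h => h2 (by
      have := ringChar.charP F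
      exact_mod_cast (CharP.cast_eq_zero_iff F (ringChar F) 2).2 (by rw [h]))
    have := Fintype.one_lt_card (α := F)
    omega
  set α := ρ / a with hα
  have hαa : α * α * a + b = 0 := by rw [hα]; field_simp; linear_combination -hρ
  have hb' : B₂ (G 1) (G 1) ≠ 0 := hGo.1 1
  have h4 : (4 : F) ≠ 0 := by rw [show (4 : F) = 2 * 2 by norm_num]; exact mul_ne_zero h2 h2
  set c1 := α • G 0 + G 1 with hc1
  set c2 := -(α • G 0) + G 1 with hc2
  have e01 := hGo.2 0 1 (by decide)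
  have e10 := hGo.2 1 0 (by decide)
  have h11 : B₂ c1 c1 = 0 := by simp [hc1, e01, e10]; linear_combination hαa
  have h22 : B₂ c2 c2 = 0 := by simp [hc2, e01, e10]; linear_combination hαa
  have h12 : B₂ c1 c2 = 2 * b := by simp [hc1, hc2, e01, e10]; linear_combination -hαa
  set x' := c1 + l • c2 with hx'
  have hxx : B₂ x' x' = 4 * l * b := by
    simp [hx', h11, h22, h12, hs.symm₂ c2 c1]; ring
  have hx'0 : B₂ x' x' ≠ 0 := by
    rw [hxx]
    exact mul_ne_zero (mul_ne_zero (by rw [show (4 : F) = 2 * 2 by norm_num]; exact mul_ne_zero h2 h2) hl0) hb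
  set T := hs.rR x' * hs.rR (G 1) with hT
  have hTc : ∀ i, i ≠ (0 : Fin 4) → i ≠ 1 → act T (G i) = G i := fun i hi0 hi1 => by
    rw [hT, act_mul, show act (hs.rR (G 1)) (G i) = G i from hs.rR_fix (hGo.1 1) (hGo.2 i 1 hi1)]
    exact hs.rR_fix hx'0 (by simp [hx', hc1, hc2, hGo.2 i 0 hi0, hGo.2 i 1 hi1])
  have r1 : act (hs.rR (G 1)) c1 = -c2 := by
    show _ *ᵥ c1 = _
    rw [hs.rR_apply (hGo.1 1)]
    simp [hc1, hc2, e01]
    match_scalars <;> field_simp <;> ring
  have r2 : act (hs.rR (G 1)) c2 = -c1 := by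
    show _ *ᵥ c2 = _
    rw [hs.rR_apply (hGo.1 1)]
    simp [hc1, hc2, e01]
    match_scalars <;> field_simp <;> ring
  have hT1 : act T c1 = l⁻¹ • c1 := by
    rw [hT, act_mul, r1]
    show _ *ᵥ (-c2) = _
    rw [hs.rR_apply hx'0, hxx]
    simp [hx', h22, h12, hs.symm₂ c2 c1]
    match_scalars <;> field_simp <;> ring
  have hT2 : act T c2 = l • c2 := by
    rw [hT, act_mul, r2]
    show _ *ᵥ (-c1) = _
    rw [hs.rR_apply hx'0, hxx]
    simp [hx', h11, h12]
    match_scalars <;> field_simp <;> ring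
  have hTM : hs.kR T ∈ M := by
    rw [hT, map_mul]
    exact hG.mem_kr (hF.RR_omega hx'0 (hGo.1 1)) ((Kr Q).mul_mem (hs.R_mem _) (hs.R_mem _))
  obtain ⟨T', hz, -, -⟩ := hG.norm_plane hGo hy hc (hTc 2 (by decide) (by decide)) (hTc 3 (by decide) (by decide)) hTM
  have hzv : ∀ v, mat Q (hs.kR T') *ᵥ v = mat Q y⁻¹ *ᵥ (mat Q (hs.kR T) *ᵥ (mat Q y *ᵥ v)) := fun v => by
    rw [← hz, Fl.mul_vec, Fl.mul_vec]
  obtain ⟨x0, hx0⟩ := hs.exists_ne₁
  have hc10 : c1 ≠ 0 := fun h => hb (by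
    have := h12; rw [h, map_zero, LinearMap.zero_apply] at this
    exact (mul_eq_zero.1 this.symm).resolve_left h2)
  set v := mat Q y⁻¹ *ᵥ ten x0 c1 with hv
  have hTv : mat Q (hs.kR T') *ᵥ v = l⁻¹ • v := by
    rw [hzv, hv, mulVec_cancel', hs.kR_ten, show (T.1 : Matrix (Fin 4) (Fin 4) F) *ᵥ c1 = _ from hT1,
      ten_smul_right, mulVec_smul]
  obtain ⟨i, hi⟩ : ∃ i, row v i ≠ 0 := by
    by_contra! h
    have h1 : v = 0 := by
      rw [← sum_ten_row v]
      exact Finset.sum_eq_zero fun i _ => by rw [h i, CfsgLib.TensorSlice.ten_zero_right]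
    rw [hv, ← mulVec_zero (mat Q y⁻¹)] at h1
    rcases ten_eq_zero.1 (CfsgLib.TensorOrth.mulVec_injective y⁻¹ h1) with h' | h'
    · exact hx0 h'
    · exact hc10 h'
  set w := row v i with hw
  have hTw : act T' w = l⁻¹ • w := by
    show (T'.1 : Matrix (Fin 4) (Fin 4) F) *ᵥ row v i = _
    rw [← hs.row_kR, hTv]; rfl
  have hl' : l⁻¹ * l⁻¹ ≠ 1 := fun h => hl (by
    field_simp at h
    linear_combination -h)
  have hww : B₂ w w = 0 := by
    have h := act_iso T' w w
    rw [hTw, map_smul, map_smul, LinearMap.smul_apply, smul_smul, smul_eq_mul] at h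
    exact (mul_eq_zero.1 (show (l⁻¹ * l⁻¹ - 1) * B₂ w w = 0 by linear_combination h)).resolve_left
      (sub_ne_zero.2 hl')
  -- the eigenvectors of the rotation
  have heig : ∀ u, act T u = l⁻¹ • u → u = (B₂ u c2 / (2 * b)) • c1 := by
    intro u hu
    have hiso := fun u' => act_iso T u u'
    have hperp : ∀ j, j ≠ (0 : Fin 4) → j ≠ 1 → B₂ u (G j) = 0 := fun j h0 h1 => by
      have h := hiso (G j)
      rw [hu, hTc j h0 h1, map_smul, LinearMap.smul_apply, smul_eq_mul] at h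
      refine (mul_eq_zero.1 (show (l⁻¹ - 1) * B₂ u (G j) = 0 by linear_combination h)).resolve_left
        (sub_ne_zero.2 fun h' => hl' (by rw [h', one_mul]))
    have h1 : B₂ u c1 = 0 := by
      have h := hiso c1
      rw [hu, hT1, map_smul, map_smul, LinearMap.smul_apply, smul_smul, smul_eq_mul] at h
      exact (mul_eq_zero.1 (show (l⁻¹ * l⁻¹ - 1) * B₂ u c1 = 0 by linear_combination h)).resolve_left
        (sub_ne_zero.2 hl')
    refine sub_eq_zero.1 (hs.tset.f₂.sep fun t => ?_)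
    have hd : B₂ (u - (B₂ u c2 / (2 * b)) • c1) = 0 := (hF.bas hGo).ext fun j => by
      rw [hF.bas_apply, LinearMap.zero_apply]
      have hu1 : α * B₂ u (G 0) + B₂ u (G 1) = 0 := by simpa [hc1] using h1
      fin_cases j
      · simp [hc1, hc2, e10]
        field_simp
        linear_combination (-(α * a)) * hu1 + 2 * B₂ u (G 0) * hαa
      · simp [hc1, hc2, e01]
        field_simp
        linear_combination b * hu1
      · simp [hperp 2 (by decide) (by decide), hc1, hGo.2 0 2, hGo.2 1 2]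
      · simp [hperp 3 (by decide) (by decide), hc1, hGo.2 0 3, hGo.2 1 3]
    rw [hd, LinearMap.zero_apply]
  refine Or.inl (hG.sliceR y hy w c1 hi hww hc10 h11 fun x => ?_)
  set u := mat Q y *ᵥ ten x w with hu
  have hTu : mat Q (hs.kR T) *ᵥ u = l⁻¹ • u := by
    have h := hzv (ten x w)
    rw [hs.kR_ten, show (T'.1 : Matrix (Fin 4) (Fin 4) F) *ᵥ w = _ from hTw, ten_smul_right, ← hu] at h
    have h' := congrArg (mat Q y *ᵥ ·) h
    simp only [mulVec_smul, mulVec_cancel', ← hu] at h'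
    exact h'.symm
  refine ⟨fun j => B₂ (row u j) c2 / (2 * b), ?_⟩
  have hrow : ∀ j, row u j = (B₂ (row u j) c2 / (2 * b)) • c1 := fun j => heig _ (by
    show (T.1 : Matrix (Fin 4) (Fin 4) F) *ᵥ row u j = _
    rw [← hs.row_kR, hTu]; rfl)
  funext p
  show row u p.1 p.2 = _
  conv_lhs => rw [hrow p.1]
  rfl

end GCtx

end CfsgLib.TWGap
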