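import Cfsg.Agent.TensorWreathOrth.Gap.Four.Flip

/-!
# Two factors of dimension four: signed frame elements of the stabiliser
-/

set_option autoImplicit false
set_option linter.unusedSectionVars false

namespace CfsgLib.TWGap

open Matrix Module CfsgLib.Spinor CfsgLib.OrthMax CfsgLib.TensorOrth
open CfsgLib.TensorMax (Idx ten ten_add_left ten_add_right ten_smul_left ten_smul_right ten_eq_zero
  ten_inj_left ten_inj_right)
open CfsgLib.TensorSlice (ASet IsOrth)
open scoped Kronecker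

variable {F : Type*} [Field F] [Fintype F] {Q : QuadraticForm F (Idx 4 4 → F)}
  {B₁ B₂ : LinearMap.BilinForm F (Fin 4 → F)} {J : Isom Q} {M : Subgroup (Isom Q)}

/-- The parity of a sign vector. -/
def par (σ : Fin 4 → Bool) : Bool := xor (xor (σ 0) (σ 1)) (xor (σ 2) (σ 3))

/-- The number of signs. -/
def wt (σ : Fin 4 → Bool) : ℕ := (σ 0).toNat + (σ 1).toNat + (σ 2).toNat + (σ 3).toNat

/-- Type of a pair of sign vectors: `0`: `1`, `1`: `-1`, `2`: two reflections of a factor, `3`: two reflections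
of each factor, `4`: a reflection of each factor, `5`: minus that, `6`: outside `Ω`. -/
def tyN (m n : ℕ) : ℕ :=
  if (m + n) % 2 = 1 then 6
  else if m % 2 = 1 then (if m = n then 4 else 5)
  else if m = 2 ∧ n = 2 then 3
  else if m = 2 ∨ n = 2 then 2
  else if m = n then 0 else 1

/-- The type of a pair of sign vectors. -/
def ty (σ τ : Fin 4 → Bool) : ℕ := tyN (wt σ) (wt τ)

theorem forall_bool4 (P : (Fin 4 → Bool) → Prop) (h : ∀ a b c d, P ![a, b, c, d]) (σ : Fin 4 → Bool) : P σ := by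
  have e : σ = ![σ 0, σ 1, σ 2, σ 3] := funext fun i => by fin_cases i <;> rfl
  rw [e]; exact h _ _ _ _

theorem ty_lt (σ τ : Fin 4 → Bool) : ty σ τ < 7 := by
  revert τ
  refine forall_bool4 (fun σ => ∀ τ, ty σ τ < 7) (fun a b c d => ?_) σ
  intro τ
  refine forall_bool4 (fun τ => ty ![a, b, c, d] τ < 7) (fun e f g h => ?_) τ
  revert a b c d e f g h
  decide

/-- A statement about two sign vectors, decided entrywise. -/
theorem forall_signs (P : (Fin 4 → Bool) → (Fin 4 → Bool) → Prop)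
    (h : ∀ a b c d e f g i, P ![a, b, c, d] ![e, f, g, i]) (σ τ : Fin 4 → Bool) : P σ τ :=
  forall_bool4 (fun σ => P σ τ) (fun a b c d => forall_bool4 _ (fun e f g i => h a b c d e f g i) τ) σ

theorem ty_par (σ τ : Fin 4 → Bool) : ty σ τ = 6 ↔ par σ ≠ par τ :=
  forall_signs (fun σ τ => ty σ τ = 6 ↔ par σ ≠ par τ) (by decide) σ τ

theorem sum_sg (σ : Fin 4 → Bool) : ∑ i, (sg (σ i) : F) = 4 - 2 * (wt σ : F) := by
  refine forall_bool4 (fun σ => ∑ i, (sg (σ i) : F) = 4 - 2 * (wt σ : F)) (fun a b c d => ?_) σ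
  cases a <;> cases b <;> cases c <;> cases d <;> simp [Fin.sum_univ_four, sg, wt] <;> ring

namespace Fl

variable (hF : Fl Q B₁ B₂ J)
include hF

theorem trI_ty {E G : Fin 4 → Fin 4 → F} (hE : IsOrth B₂ E) (hG : IsOrth B₂ G) {σ τ : Fin 4 → Bool} :
    (ty σ τ = 2 ∨ ty σ τ = 3 → trI (hF.pd E G σ τ) = 0) ∧ (ty σ τ = 4 → trI (hF.pd E G σ τ) = 4) ∧
      (ty σ τ = 5 → trI (hF.pd E G σ τ) = -4) := by
  rw [hF.trI_pd hE hG, sum_sg, sum_sg]
  have h : ∀ σ : Fin 4 → Bool, wt σ < 5 := forall_bool4 _ (by decide)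
  have hs := h σ
  have ht := h τ
  simp only [ty]
  generalize wt σ = m at hs ⊢
  generalize wt τ = n at ht ⊢
  interval_cases m <;> interval_cases n <;> norm_num [tyN]

theorem ty_one {E G : Fin 4 → Fin 4 → F} (hE : IsOrth B₂ E) (hG : IsOrth B₂ G) {σ τ : Fin 4 → Bool}
    (h : ty σ τ = 0) : hF.pd E G σ τ = 1 := by
  have e : (σ = (fun _ => false) ∧ τ = fun _ => false) ∨ (σ = (fun _ => true) ∧ τ = fun _ => true) :=
    forall_signs (fun σ τ => ty σ τ = 0 →
      (σ = (fun _ => false) ∧ τ = fun _ => false) ∨ (σ = (fun _ => true) ∧ τ = fun _ => true)) (by decide) σ τ h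
  rcases e with ⟨rfl, rfl⟩ | ⟨rfl, rfl⟩
  · exact hF.pd_false hE hG
  · exact (hF.pd_not hE hG (fun _ => false) (fun _ => false)).trans (hF.pd_false hE hG)

theorem ty_neg {E G : Fin 4 → Fin 4 → F} (hE : IsOrth B₂ E) (hG : IsOrth B₂ G) {σ τ : Fin 4 → Bool}
    (h : ty σ τ = 1) (v : Idx 4 4 → F) : mat Q (hF.pd E G σ τ) *ᵥ v = -v := by
  have e : (σ = (fun _ => false) ∧ τ = fun _ => true) ∨ (σ = (fun _ => true) ∧ τ = fun _ => false) :=
    forall_signs (fun σ τ => ty σ τ = 1 →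
      (σ = (fun _ => false) ∧ τ = fun _ => true) ∨ (σ = (fun _ => true) ∧ τ = fun _ => false)) (by decide) σ τ h
  have hz : hF.pd E G σ τ = hF.pd E E (fun _ => true) (fun _ => false) := by
    rcases e with ⟨rfl, rfl⟩ | ⟨rfl, rfl⟩ <;>
      exact hF.ext_frame hE hG fun i j => by
        rw [hF.pd_ten hE hG, hF.neg_exists hE]; simp [sg]
  rw [hz, hF.neg_exists hE]

theorem neg_comm {E G : Fin 4 → Fin 4 → F} (hE : IsOrth B₂ E) (hG : IsOrth B₂ G) {σ τ : Fin 4 → Bool}
    (h : ty σ τ = 1) (g : Isom Q) : g * hF.pd E G σ τ = hF.pd E G σ τ * g :=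
  hF.ext fun x y => by rw [mul_vec, mul_vec, hF.ty_neg hE hG h, hF.ty_neg hE hG h, mulVec_neg]

/-- A matrix squaring to a non-square scalar has trace zero. -/
theorem trace_eq_zero {A : Matrix (Fin 4) (Fin 4) F} {ν : F} (hν : ¬ IsSquare ν)
    (hA : ∀ x, A *ᵥ (A *ᵥ x) = ν • x) : A.trace = 0 := by
  classical
  have hind : ∀ (a b : F) (x : Fin 4 → F), x ≠ 0 → a • x + b • (A *ᵥ x) = 0 → a = 0 ∧ b = 0 := by
    intro a b x hx h
    have h' := congrArg (A *ᵥ ·) h
    simp only [mulVec_add, mulVec_smul, hA, mulVec_zero, smul_smul] at h'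
    have h3 : (a * a - b * b * ν) • x = 0 := by linear_combination (norm := module) a • h - b • h'
    have h4 := (smul_eq_zero.1 h3).resolve_right hx
    rcases eq_or_ne b 0 with rfl | hb
    · exact ⟨by simpa using h4, rfl⟩
    · exact absurd ⟨a / b, by field_simp; linear_combination -h4⟩ hν
  set x : Fin 4 → F := Pi.single 0 1
  have hx : x ≠ 0 := by simp [x]
  obtain ⟨z, hz⟩ : ∃ z, z ∉ Submodule.span F {x, A *ᵥ x} := by
    by_contra! h
    have h1 : (⊤ : Submodule F (Fin 4 → F)) ≤ Submodule.span F {x, A *ᵥ x} := fun v _ => h v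
    have h2 := (Submodule.finrank_mono h1).trans (finrank_span_le_card _)
    rw [finrank_top, Module.finrank_fin_fun, Set.toFinset_insert, Set.toFinset_singleton] at h2
    have := h2.trans Finset.card_le_two
    omega
  have hli : LinearIndependent F ![x, A *ᵥ x, z, A *ᵥ z] := by
    rw [Fintype.linearIndependent_iff]
    intro g hg
    simp [Fin.sum_univ_four] at hg
    have hcd : g 2 = 0 ∧ g 3 = 0 := by
      by_contra hne
      have hA' := congrArg (A *ᵥ ·) hg
      simp only [mulVec_add, mulVec_smul, hA, mulVec_zero, smul_smul] at hA'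
      have hD : g 2 * g 2 - g 3 * g 3 * ν ≠ 0 := fun h0 => by
        rcases eq_or_ne (g 3) 0 with h3 | h3
        · rw [h3] at h0; exact hne ⟨by simpa using h0, h3⟩
        · exact hν ⟨g 2 / g 3, by field_simp; linear_combination -h0⟩
      refine hz (Submodule.mem_span_pair.2 ⟨(g 3 * g 1 * ν - g 2 * g 0) / (g 2 * g 2 - g 3 * g 3 * ν),
        (g 3 * g 0 - g 2 * g 1) / (g 2 * g 2 - g 3 * g 3 * ν), ?_⟩)
      refine smul_right_injective _ hD ?_
      show (g 2 * g 2 - g 3 * g 3 * ν) • _ = (g 2 * g 2 - g 3 * g 3 * ν) • z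
      rw [smul_add, smul_smul, smul_smul, mul_div_cancel₀ _ hD, mul_div_cancel₀ _ hD]
      linear_combination (norm := module) -(g 2 • hg) + g 3 • hA'
    obtain ⟨h2, h3⟩ := hcd
    obtain ⟨h0, h1⟩ := hind _ _ _ hx (by simpa [h2, h3] using hg)
    intro i; fin_cases i <;> assumption
  set b := basisOfLinearIndependentOfCardEqFinrank hli (by rw [Module.finrank_fin_fun, Fintype.card_fin])
  have hb : ⇑b = ![x, A *ᵥ x, z, A *ᵥ z] := coe_basisOfLinearIndependentOfCardEqFinrank _ _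
  have h1 := LinearMap.trace_eq_matrix_trace F (Pi.basisFun F (Fin 4)) A.toLin'
  rw [← Matrix.toLin_eq_toLin', LinearMap.toMatrix_toLin] at h1
  have h2 := LinearMap.trace_eq_matrix_trace F b A.toLin'
  rw [← Matrix.toLin_eq_toLin'] at h2
  rw [← h1, h2, Matrix.trace, Fin.sum_univ_four]
  simp only [Matrix.diag_apply, LinearMap.toMatrix_apply, Matrix.toLin_eq_toLin', Matrix.toLin'_apply, hb]
  have e0 : A *ᵥ x = b 1 := by rw [hb]; rfl
  have e1 : A *ᵥ (A *ᵥ x) = ν • b 0 := by rw [hA, hb]; rfl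
  have e2 : A *ᵥ z = b 3 := by rw [hb]; rfl
  have e3 : A *ᵥ (A *ᵥ z) = ν • b 2 := by rw [hA, hb]; rfl
  simp only [Matrix.cons_val_zero, Matrix.cons_val_one, Matrix.cons_val]
  rw [e1, e3, e0, e2]
  simp

/-- Commutation with a pair of signed isometries, given a kept line. -/
theorem comm_dg {U V : isoG B₂} {E G : Fin 4 → Fin 4 → F} (hE : IsOrth B₂ E) {σ τ : Fin 4 → Bool}
    (hU : ∃ c : F, act U (E 0) = c • E 0)
    (h : hF.pr U V * hF.pd E G σ τ = hF.pd E G σ τ * hF.pr U V) :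
    U * hF.dg E σ = hF.dg E σ * U ∧ V * hF.dg G τ = hF.dg G τ * V := by
  rw [pd, hF.pr_mul, hF.pr_mul] at h
  obtain ⟨c, hc, h1, h2⟩ := hF.pr_inj h
  have hc1 : c = 1 := by
    obtain ⟨r, hr⟩ := hU
    have e := h1 (E 0)
    rw [act_mul, act_mul, hr, hF.dg_apply hE, show act (hF.dg E σ) (r • E 0) = r • act (hF.dg E σ) (E 0) from
      mulVec_smul _ _ _, hF.dg_apply hE, show act U ((sg (σ 0) : F) • E 0) = (sg (σ 0) : F) • act U (E 0) from
      mulVec_smul _ _ _, hr, smul_comm r, smul_smul] at e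
    have hne : (sg (σ 0) : F) • r • E 0 ≠ 0 := by
      refine smul_ne_zero (by cases σ 0 <;> simp [sg]) (smul_ne_zero (fun h0 => ?_) (hF.ne0 (hE.1 0)))
      exact act_ne U (hF.ne0 (hE.1 0)) (by rw [hr, h0, zero_smul])
    rw [← smul_smul] at e
    exact (smul_left_injective F hne ((one_smul F _).trans e)).symm
  subst hc1
  exact ⟨(hF.aset.isoG_ext fun y => by have := h1 y; rw [one_smul] at this; exact this.symm),
    hF.aset.isoG_ext fun y => by have := h2 y; rw [one_smul] at this; exact this.symm⟩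

/-- A commutant of a reflection keeps its line. -/
theorem line_of_comm {U : isoG B₂} {e : Fin 4 → F} (he : B₂ e e ≠ 0)
    (h : U * hF.aset.rR e = hF.aset.rR e * U) : ∃ c : F, act U e = c • e := by
  have h1 : act (U * hF.aset.rR e) e = act (hF.aset.rR e * U) e := by rw [h]
  rw [act_mul, act_mul, show act (hF.aset.rR e) e = -e from hF.aset.rR_self he,
    show act U (-e) = -act U e from mulVec_neg _ _,
    show act (hF.aset.rR e) (act U e) = _ from hF.aset.rR_apply he _] at h1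
  refine ⟨B₂ (act U e) e / B₂ e e, smul_right_injective _ hF.aset.two ?_⟩
  show (2 : F) • _ = (2 : F) • _
  rw [smul_smul, ← mul_div_assoc]
  linear_combination (norm := module) -h1

end Fl

namespace GCtx

variable {hF : Fl Q B₁ B₂ J} (hG : GCtx hF M) (hN : ¬ M ≤ hF.Nr)
include hG hN

theorem R_notMem {e : Fin 4 → F} (he : B₂ e e ≠ 0) : hF.aset.R e ∉ M := fun h =>
  hN fun y hy => hG.outR y hy e he (M.mul_mem (M.mul_mem h hy) h)

omit hN in
theorem pd_mem_of_par {E G : Fin 4 → Fin 4 → F} (hE : IsOrth B₂ E) (hE' : IsOrth B₂ G) (σ τ : Fin 4 → Bool) :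
    hF.pd E G σ τ * (bif xor (par σ) (par τ) then hF.aset.R (E 0) else 1) ∈ Cfsg.Omega F ⇑Q := by
  set O := Cfsg.Omega F ⇑Q
  set r := hF.aset.R (E 0)
  let P : Isom Q → Bool → Prop := fun g b => g * (bif b then r else 1) ∈ O
  have hr2 : r * r = 1 := hF.aset.R_sq _
  have mul : ∀ g h b b', P g b → P h b' → P (g * h) (xor b b') := by
    intro g h b b' hg hh
    show g * h * _ ∈ O
    cases b <;> cases b'
    · simpa [P] using O.mul_mem hg hh
    · simpa [P, mul_assoc] using O.mul_mem hg hh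
    · have h1 : r * h * r⁻¹ ∈ O := omega_conj (by simpa [P] using hh) r
      have := O.mul_mem (show g * r ∈ O by simpa [P] using hg) h1
      rwa [inv_eq_of_mul_eq_one_right hr2, show g * r * (r * h * r) = g * (r * r) * h * r by group, hr2,
        mul_one] at this
    · have h1 : r * (h * r) * r⁻¹ ∈ O := omega_conj (by simpa [P] using hh) r
      have := O.mul_mem (show g * r ∈ O by simpa [P] using hg) h1
      rw [show g * r * (r * (h * r) * r⁻¹) = g * (r * r) * h by group, hr2, mul_one] at this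
      simpa [P] using this
  have left : ∀ i (b : Bool), P (bif b then hF.L (E i) else 1) b := by
    intro i b; cases b
    · simp [P, O.one_mem]
    · exact hF.LR_omega (hE.1 i) (hE.1 0)
  have right : ∀ i (b : Bool), P (bif b then hF.aset.R (G i) else 1) b := by
    intro i b; cases b
    · simp [P, O.one_mem]
    · exact hF.RR_omega (hE'.1 i) (hE.1 0)
  have e : hF.pd E G σ τ = (bif σ 0 then hF.L (E 0) else 1) * (bif σ 1 then hF.L (E 1) else 1) *
      (bif σ 2 then hF.L (E 2) else 1) * (bif σ 3 then hF.L (E 3) else 1) *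
      ((bif τ 0 then hF.aset.R (G 0) else 1) * (bif τ 1 then hF.aset.R (G 1) else 1) *
      (bif τ 2 then hF.aset.R (G 2) else 1) * (bif τ 3 then hF.aset.R (G 3) else 1)) := by
    have hl : ∀ (e : Fin 4 → F) (b : Bool), hF.kL (bif b then hF.aset.rR e else 1) = bif b then hF.L e else 1 := by
      intro e b; cases b <;> simp [Fl.L]
    have hr : ∀ (e : Fin 4 → F) (b : Bool),
        hF.aset.kR (bif b then hF.aset.rR e else 1) = bif b then hF.aset.R e else 1 := by
      intro e b; cases b <;> simp [CfsgLib.TensorSlice.ASet.R]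
    rw [Fl.pd, Fl.pr, Fl.dg, Fl.dg]
    simp only [map_mul, hl, hr]
  have h := mul _ _ _ _ (mul _ _ _ _ (mul _ _ _ _ (mul _ _ _ _ (left 0 (σ 0)) (left 1 (σ 1))) (left 2 (σ 2)))
    (left 3 (σ 3))) (mul _ _ _ _ (mul _ _ _ _ (mul _ _ _ _ (right 0 (τ 0)) (right 1 (τ 1))) (right 2 (τ 2)))
    (right 3 (τ 3)))
  rw [e]
  have hb : xor (par σ) (par τ) = xor (xor (xor (xor (σ 0) (σ 1)) (σ 2)) (σ 3))
      (xor (xor (xor (τ 0) (τ 1)) (τ 2)) (τ 3)) := by
    simp only [par, Bool.xor_assoc]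
  rw [hb]
  exact h

omit hN in
theorem pd_mem {E G : Fin 4 → Fin 4 → F} (hE : IsOrth B₂ E) (hE' : IsOrth B₂ G) {σ τ : Fin 4 → Bool}
    (h : ty σ τ ≠ 6) : hF.pd E G σ τ ∈ M := by
  have h1 := hG.pd_mem_of_par hE hE' σ τ
  rw [Ne, ty_par, not_not] at h
  rw [h, Bool.xor_self, cond_false, mul_one] at h1
  exact hG.mem_kr h1 (hF.pr_kr _ _)

theorem ty_ne {E G : Fin 4 → Fin 4 → F} (hE : IsOrth B₂ E) (hE' : IsOrth B₂ G) {σ τ : Fin 4 → Bool}
    (h : hF.pd E G σ τ ∈ M) : ty σ τ ≠ 6 := by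
  intro h6
  have h1 := hG.pd_mem_of_par hE hE' σ τ
  rw [ty_par] at h6
  have hb : xor (par σ) (par τ) = true := by revert h6; cases par σ <;> cases par τ <;> decide
  rw [hb, cond_true] at h1
  have h2 : hF.pd E G σ τ * hF.aset.R (E 0) ∈ M :=
    hG.mem_kr h1 ((Kr Q).mul_mem (hF.pr_kr _ _) (hF.aset.R_mem _))
  exact hG.R_notMem hN (hE.1 0) (by simpa using M.mul_mem (M.inv_mem h) h2)

omit hN in
/-- An involution of the stabiliser with non-zero character is diagonal in two frames. -/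
theorem invol_pd {g : Isom Q} (hg : g ∈ M) (hgN : g ∈ hF.Nr) (hg2 : g * g = 1) (htr : trI g ≠ 0) :
    ∃ E G σ τ, IsOrth B₂ E ∧ IsOrth B₂ G ∧ g = hF.pd E G σ τ := by
  classical
  have hpl := hG.plane rfl
  obtain ⟨A, B, μ, hμ, hv, hA, hB⟩ := hF.kr_sim (hF.mem_kr_of_invol hpl hgN (hG.le hg) hg2)
  obtain ⟨y₀, hy₀⟩ := hF.aset.exists_ne₁
  set T := (A : Matrix (Fin 4) (Fin 4) F)
  set S := (B : Matrix (Fin 4) (Fin 4) F)
  have hgg : ∀ u w, ten u w = ten (T *ᵥ (T *ᵥ u)) (S *ᵥ (S *ᵥ w)) := fun u w => by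
    rw [← hv, ← hv, ← Fl.mul_vec, hg2, mat_one, one_mulVec]
  have hS0 : S *ᵥ (S *ᵥ y₀) ≠ 0 := fun h0 => hy₀ (by
    have h := mulVec_injective_iff_isUnit.mpr B.isUnit
    exact h ((h (h0.trans (mulVec_zero _).symm)).trans (mulVec_zero _).symm))
  obtain ⟨ν, hν0, hν, hν'⟩ := ten_prop hy₀ hy₀ (hgg y₀ y₀)
  have hTT : ∀ u, T *ᵥ (T *ᵥ u) = ν • u := fun u => by
    refine ten_inj_left hS0 ?_
    rw [← hgg]
    conv_lhs => rw [hν', ten_smul_right, ← ten_smul_left]
  have hsq : IsSquare ν := by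
    by_contra hns
    refine htr ?_
    have hm : mat Q g = T ⊗ₖ S :=
      CfsgLib.TensorUnitary.mat_ext_ten fun x y => by rw [hv, CfsgLib.TensorMax.kron_mulVec_ten]
    rw [trI, hm, Matrix.trace_kronecker, hF.trace_eq_zero hns hTT, zero_mul]
  obtain ⟨r, hr⟩ := hsq
  have hr0 : r ≠ 0 := fun h0 => hν0 (by rw [hr, h0, mul_zero])
  obtain ⟨x, hx⟩ := CfsgLib.TensorSlice.exists_orth_basis hF.aset.tset.f₂ hF.aset.two
  -- an eigenvector of the first factor
  set T' : (Fin 4 → F) → Fin 4 → F := fun u => r⁻¹ • (T *ᵥ u) with hT'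
  have hTT' : ∀ u, T' (T' u) = u := fun u => by
    simp only [hT', mulVec_smul, hTT, smul_smul, hr]
    rw [show r⁻¹ * (r⁻¹ * (r * r)) = 1 by field_simp, one_smul]
  have hT'B : ∀ u w, B₂ (T' u) (T' w) = (r⁻¹ * r⁻¹ * μ⁻¹) * B₂ u w := fun u w => by
    simp only [hT', map_smul, LinearMap.smul_apply, smul_eq_mul]
    rw [hA]; ring
  have hε : r⁻¹ * r⁻¹ * μ⁻¹ = 1 ∨ r⁻¹ * r⁻¹ * μ⁻¹ = -1 := by
    refine mul_self_eq_one_iff.1 (mul_right_cancel₀ (hx.1 0) ?_)
    rw [one_mul, mul_assoc, ← hT'B, ← hT'B, hTT']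
  have hiso : ∀ u w, B₂ (T' u) (T' w) = B₂ u w := by
    rcases hε with h | h
    · exact fun u w => by rw [hT'B, h, one_mul]
    exfalso
    have hB' : ∀ u w, B₂ (T' u) (T' w) = -B₂ u w := fun u w => by rw [hT'B, h, neg_one_mul]
    have hTl : IsLinearMap F T' := ⟨fun a b => by simp [hT', mulVec_add],
      fun a b => by simp [hT', mulVec_smul, smul_comm a]⟩
    let L := hTl.mk'
    have line : ∀ (c : F), (c = 1 ∨ c = -1) →
        finrank F (LinearMap.ker (L - c • LinearMap.id)) ≤ 1 := by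
      intro c hc
      by_contra hlt
      set W := LinearMap.ker (L - c • LinearMap.id)
      have hW : ∀ u ∈ W, ∀ w ∈ W, B₂ u w = 0 := fun u hu w hw => by
        have hu' : T' u = c • u := sub_eq_zero.1 (by simpa [W, L] using hu)
        have hw' : T' w = c • w := sub_eq_zero.1 (by simpa [W, L] using hw)
        have h1 := hB' u w
        rw [hu', hw', map_smul, map_smul, LinearMap.smul_apply, smul_smul, smul_eq_mul,
          (mul_self_eq_one_iff.2 hc), one_mul] at h1
        exact (mul_eq_zero.1 (show (2 : F) * B₂ u w = 0 by linear_combination h1)).resolve_left hF.aset.two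
      obtain ⟨u, huW, hu0⟩ := Submodule.exists_mem_ne_zero_of_ne_bot (p := W) fun h0 => hlt (by
        rw [h0, finrank_bot]; omega)
      have hle : W ≤ Submodule.span F {u} := fun w hw => Submodule.mem_span_singleton.2
        (hpl u w hu0 (hW u huW u huW) (hW w hw w hw) (hW u huW w hw))
      exact hlt ((Submodule.finrank_mono hle).trans (by rw [finrank_span_singleton hu0]))
    have htop : (⊤ : Submodule F (Fin 4 → F)) ≤
        LinearMap.ker (L - (1 : F) • LinearMap.id) ⊔ LinearMap.ker (L - (-1 : F) • LinearMap.id) := fun u _ => by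
      refine Submodule.mem_sup.2 ⟨(2 : F)⁻¹ • (u + T' u), ?_, (2 : F)⁻¹ • (u - T' u), ?_, ?_⟩
      · simp only [LinearMap.mem_ker, LinearMap.sub_apply, LinearMap.smul_apply, LinearMap.id_apply, map_smul,
          map_add, L, IsLinearMap.mk'_apply, hTT']
        module
      · simp only [LinearMap.mem_ker, LinearMap.sub_apply, LinearMap.smul_apply, LinearMap.id_apply, map_smul,
          map_sub, L, IsLinearMap.mk'_apply, hTT']
        module
      · have := hF.aset.two
        match_scalars <;> field_simp <;> ring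
    have h1 := (Submodule.finrank_mono htop).trans (Submodule.finrank_add_le_finrank_add_finrank _ _)
    rw [finrank_top, Module.finrank_fin_fun] at h1
    have := line 1 (Or.inl rfl)
    have := line (-1) (Or.inr rfl)
    omega
  obtain ⟨e, he, c, hc⟩ : ∃ e, B₂ e e ≠ 0 ∧ ∃ c : F, T *ᵥ e = c • e := by
    have hU : CfsgLib.TensorSlice.scGL 4 r⁻¹ (inv_ne_zero hr0) * A ∈ isoG B₂ := fun u w => by
      rw [CfsgLib.TensorSlice.scGL_mul_mulVec, CfsgLib.TensorSlice.scGL_mul_mulVec]; exact hiso u w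
    have hU2 : (⟨_, hU⟩ : isoG B₂) * ⟨_, hU⟩ = 1 := hF.aset.isoG_ext fun u => by
      show act ((⟨_, hU⟩ : isoG B₂) * ⟨_, hU⟩) u = act (1 : isoG B₂) u
      rw [act_mul, act_one]
      show _ *ᵥ (_ *ᵥ u) = u
      rw [CfsgLib.TensorSlice.scGL_mul_mulVec, CfsgLib.TensorSlice.scGL_mul_mulVec]
      exact hTT' u
    obtain ⟨e, he, -, c, hc⟩ := hF.eig_step hU2 (n := 0) (by omega) (p := Fin.elim0)
      ⟨fun i => i.elim0, fun i => i.elim0⟩ fun i => i.elim0
    refine ⟨e, he, r * c, ?_⟩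
    have hc' : T' e = c • e := by
      rw [hT']
      show r⁻¹ • (T *ᵥ e) = c • e
      rw [← CfsgLib.TensorSlice.scGL_mul_mulVec r⁻¹ (inv_ne_zero hr0) A e]
      exact hc
    rw [← smul_smul, ← hc', hT', smul_smul, mul_inv_cancel₀ hr0, one_smul]
  have hKr : g ∈ Kr Q := hF.mem_kr_of_invol hpl hgN (hG.le hg) hg2
  obtain ⟨U, V, rfl, hUe⟩ := hF.exists_pr hKr he fun y =>
    ⟨c • (S *ᵥ y), by rw [hv, show (A : Matrix (Fin 4) (Fin 4) F) *ᵥ e = c • e from hc, ten_smul_left,
      ten_smul_right]⟩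
  rw [hF.pr_mul, ← hF.pr_one] at hg2
  obtain ⟨d, hd, hdU, hdV⟩ := hF.pr_inj hg2
  have hd1 : d = 1 := by
    have h1 := hdU e
    rw [act_one, act_mul, hUe, hUe] at h1
    exact (smul_left_injective F (hF.ne0 he) ((one_smul F _).trans h1)).symm
  subst hd1
  have hU2 : U * U = 1 := hF.aset.isoG_ext fun u => by
    have := hdU u; rw [one_smul] at this; exact this.symm
  have hV2 : V * V = 1 := hF.aset.isoG_ext fun u => by
    have := hdV u; rw [one_smul] at this; exact this.symm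
  obtain ⟨E, hE, -, σ, hσ⟩ := hF.exists_diag hU2 4 (n := 0) (by omega) Fin.elim0
    ⟨fun i => i.elim0, fun i => i.elim0⟩ fun i => i.elim0
  obtain ⟨G, hE', -, τ, hτ⟩ := hF.exists_diag hV2 4 (n := 0) (by omega) Fin.elim0
    ⟨fun i => i.elim0, fun i => i.elim0⟩ fun i => i.elim0
  exact ⟨E, G, σ, τ, hE, hE', by rw [Fl.pd, hσ, hτ]⟩

end GCtx

end CfsgLib.TWGap
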