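import Cfsg.Agent.TensorWreathOrth.Gap.Four.Good

/-!
# Two factors of dimension four: pairs of reflections
-/

set_option autoImplicit false
set_option linter.unusedSectionVars false

namespace CfsgLib.TWGap

open Matrix Module CfsgLib.Spinor CfsgLib.OrthMax CfsgLib.TensorOrth
open CfsgLib.TensorMax (Idx ten ten_add_left ten_add_right ten_smul_left ten_smul_right ten_eq_zero
  ten_inj_left ten_inj_right)
open CfsgLib.TensorSlice (ASet IsOrth)

variable {F : Type*} [Field F] [Fintype F] {Q : QuadraticForm F (Idx 4 4 → F)}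
  {B₁ B₂ : LinearMap.BilinForm F (Fin 4 → F)} {J : Isom Q} {M : Subgroup (Isom Q)}

/-- The sign of the first vector of a frame. -/
def tauA : Fin 4 → Bool := ![true, false, false, false]

theorem act_eq {S T : isoG B₂} (h : S = T) (x : Fin 4 → F) : act S x = act T x := by rw [h]

/-- Every tensor with the given left factor is kept inside its slice. -/
def LeftFix (g : Isom Q) : Prop := ∀ x w : Fin 4 → F, ∃ w', mat Q g *ᵥ ten x w = ten x w'

/-- Every tensor with the given right factor is kept inside its slice. -/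
def RightFix (g : Isom Q) : Prop := ∀ x w : Fin 4 → F, ∃ x', mat Q g *ᵥ ten x w = ten x' w

/-- An element of one factor. -/
def OneSide (g : Isom Q) : Prop := LeftFix g ∨ RightFix g

namespace Fl

variable (hF : Fl Q B₁ B₂ J)
include hF

theorem refl_act {e : Fin 4 → F} (he : B₂ e e ≠ 0) (x : Fin 4 → F) :
    act (hF.aset.rR e) x = x - (2 * B₂ x e / B₂ e e) • e := hF.aset.rR_apply he x

theorem refl_smul {r : F} (hr : r ≠ 0) {a : Fin 4 → F} (ha : B₂ a a ≠ 0) :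
    hF.aset.rR (r • a) = hF.aset.rR a := by
  refine hF.aset.isoG_ext fun x => ?_
  show act (hF.aset.rR (r • a)) x = act (hF.aset.rR a) x
  have h : B₂ (r • a) (r • a) ≠ 0 := by simp [hr, ha]
  rw [hF.refl_act h, hF.refl_act ha]
  simp only [map_smul, LinearMap.smul_apply, smul_eq_mul, smul_smul]
  congr 2
  field_simp

/-- A line kept by a reflection is its line or orthogonal to it. -/
theorem refl_line {a a' : Fin 4 → F} (ha : B₂ a a ≠ 0) (ha' : B₂ a' a' ≠ 0)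
    (h : ∃ c : F, act (hF.aset.rR a) a' = c • a') : B₂ a a' = 0 ∨ hF.aset.rR a' = hF.aset.rR a := by
  obtain ⟨c, hc⟩ := h
  rw [hF.refl_act ha] at hc
  by_cases hz : B₂ a' a = 0
  · exact Or.inl (by rw [hF.aset.symm₂, hz])
  right
  set t := 2 * B₂ a' a / B₂ a a
  have ht : t ≠ 0 := div_ne_zero (mul_ne_zero hF.aset.two hz) ha
  have e : t • a = (1 - c) • a' := by linear_combination (norm := module) -hc
  have hc1 : (1 - c) ≠ 0 := fun h0 => by
    rw [h0, zero_smul] at e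
    exact (smul_ne_zero ht (hF.ne0 ha)) e
  rw [← hF.refl_smul hc1 ha', ← e, hF.refl_smul ht ha]

theorem exists_frame1 {e : Fin 4 → F} (he : B₂ e e ≠ 0) : ∃ E : Fin 4 → Fin 4 → F, IsOrth B₂ E ∧ E 0 = e := by
  obtain ⟨E, hE, h⟩ := hF.exists_frame (n := 1) (by omega) (p := ![e])
    ⟨fun i => by fin_cases i; exact he, fun i j hij => absurd (Subsingleton.elim i j) hij⟩
  exact ⟨E, hE, h 0 0 rfl⟩

theorem exists_frame2 {e e' : Fin 4 → F} (he : B₂ e e ≠ 0) (he' : B₂ e' e' ≠ 0) (h : B₂ e e' = 0) :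
    ∃ E : Fin 4 → Fin 4 → F, IsOrth B₂ E ∧ E 0 = e ∧ E 1 = e' := by
  obtain ⟨E, hE, hp⟩ := hF.exists_frame (n := 2) (by omega) (p := ![e, e'])
    ⟨fun i => by fin_cases i <;> assumption, fun i j hij => by
      fin_cases i <;> fin_cases j <;> first | exact absurd rfl hij | exact h | exact (hF.aset.symm₂ _ _).trans h⟩
  exact ⟨E, hE, hp 0 0 rfl, hp 1 1 rfl⟩

theorem dg_tauA {E : Fin 4 → Fin 4 → F} (hE : IsOrth B₂ E) : hF.dg E tauA = hF.aset.rR (E 0) := by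
  rw [← hF.dg_single hE 0]; congr 1; funext i; fin_cases i <;> rfl

theorem dg_tauP {E : Fin 4 → Fin 4 → F} : hF.dg E tauP = hF.aset.rR (E 0) * hF.aset.rR (E 1) := by
  simp [dg, tauP]

theorem refl_pd {e f : Fin 4 → F} (he : B₂ e e ≠ 0) (hf : B₂ f f ≠ 0) :
    ∃ E G, IsOrth B₂ E ∧ IsOrth B₂ G ∧ E 0 = e ∧ G 0 = f ∧
      hF.pr (hF.aset.rR e) (hF.aset.rR f) = hF.pd E G tauA tauA := by
  obtain ⟨E, hE, rfl⟩ := hF.exists_frame1 he
  obtain ⟨G, hG, rfl⟩ := hF.exists_frame1 hf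
  exact ⟨E, G, hE, hG, rfl, rfl, by rw [pd, hF.dg_tauA hE, hF.dg_tauA hG]⟩

theorem refl_sq2 (a b : Fin 4 → F) :
    hF.pr (hF.aset.rR a) (hF.aset.rR b) * hF.pr (hF.aset.rR a) (hF.aset.rR b) = 1 := by
  rw [hF.pr_mul, hF.aset.rR_sq, hF.aset.rR_sq, hF.pr_one]

/-- The lines of two commuting pairs of reflections. -/
theorem refl_comm {a b a' b' : Fin 4 → F} (ha : B₂ a a ≠ 0) (hb : B₂ b b ≠ 0) (ha' : B₂ a' a' ≠ 0)
    (hb' : B₂ b' b' ≠ 0)
    (h : hF.pr (hF.aset.rR a) (hF.aset.rR b) * hF.pr (hF.aset.rR a') (hF.aset.rR b') =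
      hF.pr (hF.aset.rR a') (hF.aset.rR b') * hF.pr (hF.aset.rR a) (hF.aset.rR b)) :
    (B₂ a a' = 0 ∨ hF.aset.rR a' = hF.aset.rR a) ∧ (B₂ b b' = 0 ∨ hF.aset.rR b' = hF.aset.rR b) :=
  ⟨hF.refl_line ha ha' (hF.pr_comm_refl ha' hb' h).1, hF.refl_line hb hb' (hF.pr_comm_refl ha' hb' h).2⟩

theorem oneSide_ty {E G : Fin 4 → Fin 4 → F} (hE : IsOrth B₂ E) (hG : IsOrth B₂ G) {σ τ : Fin 4 → Bool}
    (h : ty σ τ = 2) : OneSide (hF.pd E G σ τ) := by
  have e := forall_signs (fun σ τ => ty σ τ = 2 → (σ = (fun _ => false) ∨ σ = (fun _ => true)) ∨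
    (τ = (fun _ => false) ∨ τ = (fun _ => true))) (by decide) σ τ h
  rcases e with hσ | hτ
  · refine Or.inl fun x w => ?_
    rcases hσ with rfl | rfl
    · exact ⟨act (hF.dg G τ) w, by rw [pd, hF.pr_ten, hF.dg_false hE, act_one]⟩
    · exact ⟨-act (hF.dg G τ) w, by rw [pd, hF.pr_ten, hF.dg_all hE, ← neg_one_smul F x,
        ← neg_one_smul F (act (hF.dg G τ) w), ten_smul_left, ten_smul_right]⟩
  · refine Or.inr fun x w => ?_
    rcases hτ with rfl | rfl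
    · exact ⟨act (hF.dg E σ) x, by rw [pd, hF.pr_ten, hF.dg_false hG, act_one]⟩
    · exact ⟨-act (hF.dg E σ) x, by rw [pd, hF.pr_ten, hF.dg_all hG, ← neg_one_smul F w,
        ← neg_one_smul F (act (hF.dg E σ) x), ten_smul_left, ten_smul_right]⟩

theorem not_oneSide {E G : Fin 4 → Fin 4 → F} (hE : IsOrth B₂ E) (hG : IsOrth B₂ G) {σ τ : Fin 4 → Bool}
    (h : ty σ τ = 3) : ¬ OneSide (hF.pd E G σ τ) := by
  have key : ∀ (E : Fin 4 → Fin 4 → F), IsOrth B₂ E → ∀ (σ : Fin 4 → Bool), wt σ = 2 → ∀ x' : Fin 4 → F,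
      x' ≠ 0 → ∃ x : Fin 4 → F, ∀ c : F, x ≠ c • act (hF.dg E σ) x := by
    intro E hE σ hσ x' _
    obtain ⟨i, hi⟩ : ∃ i, σ i = true :=
      forall_bool4 (fun σ => wt σ = 2 → ∃ i, σ i = true) (by decide) σ hσ
    obtain ⟨j, hj⟩ : ∃ j, σ j = false :=
      forall_bool4 (fun σ => wt σ = 2 → ∃ i, σ i = false) (by decide) σ hσ
    have hij : i ≠ j := fun h' => by rw [h', hj] at hi; cases hi
    refine ⟨E i + E j, fun c hc => ?_⟩
    rw [act, mulVec_add, ← act, ← act, hF.dg_apply hE, hF.dg_apply hE, hi, hj] at hc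
    have h1 := congrArg (B₂ · (E i)) hc
    have h2 := congrArg (B₂ · (E j)) hc
    simp [sg, hE.2 j i hij.symm, hE.2 i j hij, hE.1 i, hE.1 j] at h1 h2
    exact hF.aset.two ((mul_eq_zero.1 (show (2 : F) * B₂ (E i) (E i) = 0 by
      rw [h2] at h1; linear_combination h1)).resolve_right (hE.1 i))
  have hw := forall_signs (fun σ τ => ty σ τ = 3 → wt σ = 2 ∧ wt τ = 2) (by decide) σ τ h
  rintro (hL | hR)
  · obtain ⟨x, hx⟩ := key E hE σ hw.1 _ (hF.ne0 (hE.1 0))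
    have hx0 : x ≠ 0 := fun h0 => hx 0 (by rw [h0, zero_smul])
    obtain ⟨w', hw'⟩ := hL x (G 0)
    rw [pd, hF.pr_ten] at hw'
    obtain ⟨c, -, hc, -⟩ := ten_prop (act_ne _ hx0) (act_ne _ (hF.ne0 (hG.1 0))) hw'
    exact hx c hc
  · obtain ⟨x, hx⟩ := key G hG τ hw.2 _ (hF.ne0 (hG.1 0))
    have hx0 : x ≠ 0 := fun h0 => hx 0 (by rw [h0, zero_smul])
    obtain ⟨x', hx'⟩ := hR (E 0) x
    rw [pd, hF.pr_ten] at hx'
    obtain ⟨c, hc, -, hc'⟩ := ten_prop (act_ne _ (hF.ne0 (hE.1 0))) (act_ne _ hx0) hx'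
    exact hx c⁻¹ ((eq_inv_smul_iff₀ hc).2 hc'.symm)

theorem oneSide_conj {y g : Isom Q} (hy : y ∈ hF.Nr) (h : OneSide g) : OneSide (y * g * y⁻¹) := by
  have hK : ∀ y ∈ Kr Q, ∀ g : Isom Q, OneSide g → OneSide (y * g * y⁻¹) := by
    intro y hy g h
    obtain ⟨A, B, μ, -, hv, -, -⟩ := hF.kr_sim hy
    have hi : ∀ x w, mat Q y⁻¹ *ᵥ ten x w = ten ((A⁻¹ : GL (Fin 4) F).1 *ᵥ x) ((B⁻¹ : GL (Fin 4) F).1 *ᵥ w) :=
      fun x w => by
        conv_lhs => rw [show ten x w = mat Q y *ᵥ ten ((A⁻¹ : GL (Fin 4) F).1 *ᵥ x) ((B⁻¹ : GL (Fin 4) F).1 *ᵥ w)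
          by rw [hv, mulVec_mulVec, mulVec_mulVec, ← Units.val_mul, ← Units.val_mul, mul_inv_cancel,
            mul_inv_cancel, Units.val_one, one_mulVec, one_mulVec]]
        rw [mulVec_cancel]
    rcases h with h | h
    · refine Or.inl fun x w => ?_
      obtain ⟨w', hw'⟩ := h ((A⁻¹ : GL (Fin 4) F).1 *ᵥ x) ((B⁻¹ : GL (Fin 4) F).1 *ᵥ w)
      exact ⟨(B : Matrix (Fin 4) (Fin 4) F) *ᵥ w', by
        rw [Fl.mul_vec, Fl.mul_vec, hi, hw', hv, mulVec_mulVec, ← Units.val_mul, mul_inv_cancel, Units.val_one,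
          one_mulVec]⟩
    · refine Or.inr fun x w => ?_
      obtain ⟨x', hx'⟩ := h ((A⁻¹ : GL (Fin 4) F).1 *ᵥ x) ((B⁻¹ : GL (Fin 4) F).1 *ᵥ w)
      exact ⟨(A : Matrix (Fin 4) (Fin 4) F) *ᵥ x', by
        rw [Fl.mul_vec, Fl.mul_vec, hi, hx', hv, mulVec_mulVec _ (B : Matrix (Fin 4) (Fin 4) F), ← Units.val_mul,
          mul_inv_cancel, Units.val_one, one_mulVec]⟩
  rcases hy with hy | hy
  · exact hK y hy g h
  have h' := hK _ hy g h
  have e : y * g * y⁻¹ = J * (J * y * g * (J * y)⁻¹) * J := by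
    rw [_root_.mul_inv_rev, hF.J_inv, show J * (J * y * g * (y⁻¹ * J)) * J = (J * J) * (y * g * y⁻¹) * (J * J) by
      group, hF.J_sq, one_mul, mul_one]
  rw [e]
  rcases h' with h' | h'
  · refine Or.inr fun x w => ?_
    obtain ⟨w', hw'⟩ := h' w x
    exact ⟨w', by rw [hF.conj_ten, hw', hF.flip]⟩
  · refine Or.inl fun x w => ?_
    obtain ⟨x', hx'⟩ := h' w x
    exact ⟨x', by rw [hF.conj_ten, hx', hF.flip]⟩

/-- The frame identity contradicting a common base. -/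
theorem base_contra {y : Isom Q} {e e' f a a' a2 b b' b2 : Fin 4 → F} (he : B₂ e e ≠ 0) (he' : B₂ e' e' ≠ 0)
    (hee : B₂ e e' = 0) (hs : B₂ e e + B₂ e' e' ≠ 0) (ha : B₂ a a ≠ 0) (hb : B₂ b b ≠ 0) (hb' : B₂ b' b' ≠ 0)
    (hb2 : B₂ b2 b2 ≠ 0) (hbb' : B₂ b b' = 0) (hb2b : B₂ b2 b = 0)
    (h0 : y * hF.pr (hF.aset.rR e) (hF.aset.rR f) * y⁻¹ = hF.pr (hF.aset.rR a) (hF.aset.rR b))
    (h1 : y * hF.pr (hF.aset.rR e') (hF.aset.rR f) * y⁻¹ = hF.pr (hF.aset.rR a') (hF.aset.rR b'))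
    (h2 : y * hF.pr (hF.aset.rR (e + e')) (hF.aset.rR f) * y⁻¹ = hF.pr (hF.aset.rR a2) (hF.aset.rR b2)) :
    False := by
  have hs2 := hF.aset
  obtain ⟨E, hE, rfl, rfl⟩ := hF.exists_frame2 he he' hee
  set A := B₂ (E 0) (E 0)
  set B := B₂ (E 1) (E 1)
  set e2 := E 0 + E 1
  have hq : B₂ e2 e2 = A + B := by simp [e2, hE.2 0 1, hE.2 1 0, A, B]
  have hq0 : B₂ e2 e2 ≠ 0 := by rw [hq]; exact hs
  set c : F := (A + B) / (2 * B) with hc
  set r := hs2.rR (E 0)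
  set r' := hs2.rR (E 1)
  set r2 := hs2.rR e2
  have hlin : ∀ x, act (r * r') x = x + c • (act (r * r2) x + act (r2 * r) x - (2 : F) • x) := by
    let L := (((r * r').1 : GL (Fin 4) F) : Matrix (Fin 4) (Fin 4) F).mulVecLin
    let R : (Fin 4 → F) →ₗ[F] (Fin 4 → F) := LinearMap.id + c •
      ((((r * r2).1 : GL (Fin 4) F) : Matrix (Fin 4) (Fin 4) F).mulVecLin +
        (((r2 * r).1 : GL (Fin 4) F) : Matrix (Fin 4) (Fin 4) F).mulVecLin - (2 : F) • LinearMap.id)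
    suffices h : L = R from fun x => LinearMap.congr_fun h x
    refine (hF.bas hE).ext fun i => ?_
    rw [hF.bas_apply]
    show act (r * r') (E i) = E i + c • (act (r * r2) (E i) + act (r2 * r) (E i) - (2 : F) • E i)
    simp only [act_mul, r, r', r2, hF.refl_act he, hF.refl_act he', hF.refl_act hq0, hq]
    have hB : B ≠ 0 := hE.1 1
    have hA : A ≠ 0 := hE.1 0
    have h2' := hs2.two
    have hS : B₂ (E 0) (E 0) + B₂ (E 1) (E 1) ≠ 0 := hs
    have hS' : B₂ (E 1) (E 1) + B₂ (E 0) (E 0) ≠ 0 := by rw [add_comm]; exact hS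
    have hB0 : B₂ (E 1) (E 1) ≠ 0 := hE.1 1
    have hA0 : B₂ (E 0) (E 0) ≠ 0 := hE.1 0
    fin_cases i
    · simp [e2, hE.2 0 1, hE.2 1 0, hc, A, B]
      match_scalars <;> field_simp <;> ring
    · simp [e2, hE.2 0 1, hE.2 1 0, hc, A, B]
      match_scalars <;> field_simp <;> ring
    · simp [e2, hE.2 0 1, hE.2 1 0, hE.2 2 0, hE.2 2 1, A, B]
      right; module
    · simp [e2, hE.2 0 1, hE.2 1 0, hE.2 3 0, hE.2 3 1, A, B]
      right; module
  have hop : ∀ v, mat Q (hF.pr (r * r') 1) *ᵥ v =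
      v + c • (mat Q (hF.pr (r * r2) 1) *ᵥ v + mat Q (hF.pr (r2 * r) 1) *ᵥ v - (2 : F) • v) := by
    intro v
    induction v using CfsgLib.TensorUnitary.ten_induction with
    | hadd a b ha hb => rw [mulVec_add, mulVec_add, mulVec_add, ha, hb]; module
    | h0 => simp
    | h x w =>
      rw [hF.pr_ten, hF.pr_ten, hF.pr_ten, act_one, hlin, ← ten_add_left, ← ten_smul_left,
        ← CfsgLib.TensorSlice.ten_sub_left, ← ten_smul_left, ← ten_add_left]
  -- the images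
  set rb := hs2.rR b
  set rb' := hs2.rR b'
  set rb2 := hs2.rR b2
  have mul3 : ∀ g h : Isom Q, y * g * y⁻¹ * (y * h * y⁻¹) = y * (g * h) * y⁻¹ := fun g h => by group
  have p01 : y * hF.pr (r * r') 1 * y⁻¹ = hF.pr (hs2.rR a * hs2.rR a') (rb * rb') := by
    rw [← hF.pr_mul, ← h0, ← h1, mul3, hF.pr_mul, hs2.rR_sq]
  have p02 : y * hF.pr (r * r2) 1 * y⁻¹ = hF.pr (hs2.rR a * hs2.rR a2) (rb * rb2) := by
    rw [← hF.pr_mul, ← h0, ← h2, mul3, hF.pr_mul, hs2.rR_sq]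
  have p20 : y * hF.pr (r2 * r) 1 * y⁻¹ = hF.pr (hs2.rR a2 * hs2.rR a) (rb2 * rb) := by
    rw [← hF.pr_mul, ← h0, ← h2, mul3, hF.pr_mul, hs2.rR_sq]
  have hop' : ∀ v, mat Q (hF.pr (hs2.rR a * hs2.rR a') (rb * rb')) *ᵥ v =
      v + c • (mat Q (hF.pr (hs2.rR a * hs2.rR a2) (rb * rb2)) *ᵥ v +
        mat Q (hF.pr (hs2.rR a2 * hs2.rR a) (rb2 * rb)) *ᵥ v - (2 : F) • v) := fun v => by
    rw [← p01, ← p02, ← p20]
    simp only [Fl.mul_vec, hop]
    simp only [mulVec_add, mulVec_sub, mulVec_smul, mulVec_cancel']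
  obtain ⟨w, hw, hw0⟩ : ∃ w ∈ CfsgLib.TensorSlice.perp B₂ ![b, b', b2], w ≠ 0 := by
    refine Submodule.exists_mem_ne_zero_of_ne_bot fun h => ?_
    have h3 := CfsgLib.TensorSlice.finrank_perp B₂ ![b, b', b2]
    rw [h, finrank_bot] at h3
    omega
  rw [CfsgLib.TensorSlice.mem_perp] at hw
  have w0 : act rb w = w := hs2.rR_fix hb (hw 0)
  have w1 : act rb' w = w := hs2.rR_fix hb' (hw 1)
  have w2 : act rb2 w = w := hs2.rR_fix hb2 (hw 2)
  have b0 : act rb b = -b := hs2.rR_self hb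
  have b1 : act rb' b = b := hs2.rR_fix hb' hbb'
  have b2' : act rb2 b = b := hs2.rR_fix hb2 (by rw [hs2.symm₂]; exact hb2b)
  set T := act (hs2.rR a * hs2.rR a') a
  set K := act (hs2.rR a * hs2.rR a2) a + act (hs2.rR a2 * hs2.rR a) a
  have nb : ∀ (S : isoG B₂), act S (-b) = -act S b := fun S => mulVec_neg _ _
  have eW := hop' (ten a w)
  rw [hF.pr_ten, hF.pr_ten, hF.pr_ten, act_mul rb rb', act_mul rb rb2, act_mul rb2 rb, w1, w0, w2, w0,
    ← ten_add_left, ← ten_smul_left, ← CfsgLib.TensorSlice.ten_sub_left, ← ten_smul_left, ← ten_add_left] at eW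
  have eB := hop' (ten a b)
  rw [hF.pr_ten, hF.pr_ten, hF.pr_ten, act_mul rb rb', act_mul rb rb2, act_mul rb2 rb, b1, b0, b2', nb, b2',
    b0, ← neg_one_smul F b] at eB
  simp only [ten_smul_right, ← ten_add_left, ← ten_smul_left, ← CfsgLib.TensorSlice.ten_sub_left] at eB
  have hT : T = a + c • (K - (2 : F) • a) := ten_inj_left hw0 eW
  have hT' : (-1 : F) • T = a + c • ((-1 : F) • act (hs2.rR a * hs2.rR a2) a +
      (-1 : F) • act (hs2.rR a2 * hs2.rR a) a - (2 : F) • a) := ten_inj_left (hF.ne0 hb) eB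
  have h4 : ((2 : F) * (2 * c - 1)) • a = 0 := by
    simp only [K] at hT
    linear_combination (norm := module) hT + hT'
  rw [smul_eq_zero, or_iff_left (hF.ne0 ha), mul_eq_zero, or_iff_right hs2.two] at h4
  refine he ?_
  have hB : B ≠ 0 := hE.1 1
  have h2' := hs2.two
  rw [hc] at h4
  field_simp at h4
  show A = 0
  linear_combination h4

end Fl

end CfsgLib.TWGap
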